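import Mathlib.RingTheory.AdicCompletion.Algebra
import Mathlib.RingTheory.AdicCompletion.Topology
import Mathlib.RingTheory.Ideal.Operations
import Mathlib.RingTheory.Regular.RegularSequence
import Mathlib.Tactic.LinearCombination
import Mathlib.Tactic.Ring

/-!
# Elementary derived completeness along one element

`DC t K`: modulo the ideal `K`, every system `x n - t * x (n + 1) = y n` has a unique solution.
-/

set_option autoImplicit false
universe u

namespace K141

/-- Derived `t`-completeness of `T/K`, elementwise. -/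
structure DC {T : Type u} [CommRing T] (t : T) (K : Ideal T) : Prop where
  ex : ∀ y : ℕ → T, ∃ x : ℕ → T, ∀ n, x n - t * x (n + 1) - y n ∈ K
  uniq : ∀ x : ℕ → T, (∀ n, x n - t * x (n + 1) ∈ K) → ∀ n, x n ∈ K

namespace DC

variable {T : Type u} [CommRing T] {t : T}

/-- Passing to a further quotient by one element. -/
theorem sup_span {K : Ideal T} (h : DC t K) (s : T) : DC t (K ⊔ Ideal.span {s}) := by
  constructor
  · intro y
    obtain ⟨x, hx⟩ := h.ex y
    exact ⟨x, fun n => le_sup_left (a := K) (hx n)⟩
  · intro x hx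
    have h1 : ∀ n, ∃ k ∈ K, ∃ z, x n - t * x (n + 1) = k + s * z := by
      intro n
      obtain ⟨k, hk, l, hl, hkl⟩ := Submodule.mem_sup.mp (hx n)
      obtain ⟨z, rfl⟩ := Ideal.mem_span_singleton.mp hl
      exact ⟨k, hk, z, hkl.symm⟩
    choose k hk z hz using h1
    obtain ⟨w, hw⟩ := h.ex z
    intro n
    have h2 := h.uniq (fun n => x n - s * w n) (fun n => by
      have : x n - s * w n - t * (x (n + 1) - s * w (n + 1)) =
          k n - s * (w n - t * w (n + 1) - z n) := by
        linear_combination hz n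
      change x n - s * w n - t * (x (n + 1) - s * w (n + 1)) ∈ K
      rw [this]
      exact K.sub_mem (hk n) (K.mul_mem_left _ (hw n))) n
    have h3 : x n = (x n - s * w n) + s * w n := by ring
    rw [h3]
    exact Submodule.add_mem_sup h2 (Ideal.mul_mem_right _ _ (Ideal.mem_span_singleton_self s))

/-- Transfer along a ring map which is an isomorphism modulo `K`. -/
theorem map {S : Type u} [CommRing S] {s : S} {K : Ideal S} (h : DC s K) (φ : S →+* T)
    (L : Ideal T) (hd : ∀ b : T, ∃ a : S, b - φ a ∈ L) (hi : ∀ a : S, φ a ∈ L → a ∈ K)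
    (hKL : ∀ a ∈ K, φ a ∈ L) : DC (φ s) L := by
  choose d hd using hd
  constructor
  · intro y
    obtain ⟨x, hx⟩ := h.ex (fun n => d (y n))
    refine ⟨fun n => φ (x n), fun n => ?_⟩
    have h1 := hKL _ (hx n)
    rw [map_sub, map_sub, map_mul] at h1
    have : φ (x n) - φ s * φ (x (n + 1)) - y n =
        (φ (x n) - φ s * φ (x (n + 1)) - φ (d (y n))) - (y n - φ (d (y n))) := by ring
    change φ (x n) - φ s * φ (x (n + 1)) - y n ∈ L
    rw [this]
    exact L.sub_mem h1 (hd _)
  · intro x hx n
    have h1 := h.uniq (fun n => d (x n)) (fun n => by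
      apply hi
      rw [map_sub, map_mul]
      have : φ (d (x n)) - φ s * φ (d (x (n + 1))) = (x n - φ s * x (n + 1)) -
          (x n - φ (d (x n))) + φ s * (x (n + 1) - φ (d (x (n + 1)))) := by ring
      rw [this]
      exact L.add_mem (L.sub_mem (hx n) (hd _)) (L.mul_mem_left _ (hd _))) n
    have : x n = (x n - φ (d (x n))) + φ (d (x n)) := by ring
    rw [this]
    exact L.add_mem (hd _) (hKL _ h1)

/-- A complete ring whose quotients are derived complete. -/
theorem of_complete (s : T) [hs : IsAdicComplete (Ideal.span {s}) T]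
    (h : ∀ m : ℕ, DC t (Ideal.span {s ^ m})) : DC t (⊥ : Ideal T) := by
  have hsep : ∀ x : T, (∀ m, x ∈ Ideal.span {s ^ m}) → x = 0 := by
    intro x hx
    refine hs.toIsHausdorff.haus x fun m => ?_
    rw [SModEq.zero, smul_eq_mul, Ideal.mul_top, Ideal.span_singleton_pow]
    exact hx m
  have hpow : ∀ {m n : ℕ}, m ≤ n → Ideal.span {s ^ n} ≤ Ideal.span {s ^ m} := by
    intro m n hmn
    rw [Ideal.span_singleton_le_span_singleton]
    exact pow_dvd_pow s hmn
  constructor
  · intro y
    choose x hx using fun m => (h m).ex y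
    have hcomp : ∀ {m m' : ℕ}, m ≤ m' → ∀ n, x m n - x m' n ∈ Ideal.span {s ^ m} := by
      intro m m' hmm n
      refine (h m).uniq (fun n => x m n - x m' n) (fun n => ?_) n
      have : x m n - x m' n - t * (x m (n + 1) - x m' (n + 1)) =
          (x m n - t * x m (n + 1) - y n) - (x m' n - t * x m' (n + 1) - y n) := by ring
      change x m n - x m' n - t * (x m (n + 1) - x m' (n + 1)) ∈ _
      rw [this]
      exact Ideal.sub_mem _ (hx m n) (hpow hmm (hx m' n))
    have hlim : ∀ n, ∃ L : T, ∀ m, x m n - L ∈ Ideal.span {s ^ m} := by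
      intro n
      obtain ⟨L, hL⟩ := hs.toIsPrecomplete.prec' (fun m => x m n) (by
        intro m m' hmm
        rw [SModEq.sub_mem, smul_eq_mul, Ideal.mul_top, Ideal.span_singleton_pow]
        exact hcomp hmm n)
      refine ⟨L, fun m => ?_⟩
      have := hL m
      rwa [SModEq.sub_mem, smul_eq_mul, Ideal.mul_top, Ideal.span_singleton_pow] at this
    choose L hL using hlim
    refine ⟨L, fun n => ?_⟩
    rw [Ideal.mem_bot]
    apply hsep
    intro m
    have : L n - t * L (n + 1) - y n = (x m n - t * x m (n + 1) - y n) - (x m n - L n) +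
        t * (x m (n + 1) - L (n + 1)) := by ring
    rw [this]
    exact Ideal.add_mem _ (Ideal.sub_mem _ (hx m n) (hL n m)) (Ideal.mul_mem_left _ _ (hL (n + 1) m))
  · intro x hx n
    rw [Ideal.mem_bot]
    apply hsep
    intro m
    exact (h m).uniq x (fun n => by
      have := hx n
      rw [Ideal.mem_bot] at this
      rw [this]
      exact Ideal.zero_mem _) n

/-- The finite partial solution of the system. -/
theorem iter {K : Ideal T} (x : ℕ → T) (hx : ∀ n, x n - t * x (n + 1) ∈ K) (n k : ℕ) :
    x n - t ^ k * x (n + k) ∈ K := by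
  induction k with
  | zero => simp
  | succ k ih =>
    have : x n - t ^ (k + 1) * x (n + (k + 1)) = (x n - t ^ k * x (n + k)) +
        t ^ k * (x (n + k) - t * x (n + k + 1)) := by
      rw [← add_assoc]; ring
    rw [this]
    exact K.add_mem ih (K.mul_mem_left _ (hx _))

/-- `t`-adically complete rings are derived `t`-complete. -/
theorem of_isAdicComplete [hs : IsAdicComplete (Ideal.span {t}) T] : DC t (⊥ : Ideal T) := by
  refine of_complete t fun m => ?_
  constructor
  · intro y
    refine ⟨fun n => ∑ k ∈ Finset.range m, t ^ k * y (n + k), fun n => ?_⟩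
    have h1 : ∑ k ∈ Finset.range m, t ^ k * y (n + k) -
        t * ∑ k ∈ Finset.range m, t ^ k * y (n + 1 + k) - y n = - (t ^ m * y (n + m)) := by
      have h2 : ∑ k ∈ Finset.range (m + 1), t ^ k * y (n + k) =
          ∑ k ∈ Finset.range m, t ^ k * y (n + k) + t ^ m * y (n + m) :=
        Finset.sum_range_succ _ _
      have h3 : ∑ k ∈ Finset.range (m + 1), t ^ k * y (n + k) =
          ∑ k ∈ Finset.range m, t ^ (k + 1) * y (n + (k + 1)) + t ^ 0 * y (n + 0) :=
        Finset.sum_range_succ' _ _
      have h4 : t * ∑ k ∈ Finset.range m, t ^ k * y (n + 1 + k) =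
          ∑ k ∈ Finset.range m, t ^ (k + 1) * y (n + (k + 1)) := by
        rw [Finset.mul_sum]
        refine Finset.sum_congr rfl fun k _ => ?_
        rw [show n + 1 + k = n + (k + 1) by ring]
        ring
      rw [h4]
      rw [h3, pow_zero, one_mul, add_zero] at h2
      linear_combination -h2
    rw [h1]
    exact neg_mem (Ideal.mul_mem_right _ _ (Ideal.mem_span_singleton_self _))
  · intro x hx n
    have h1 := iter (K := Ideal.span {t ^ m}) x hx n m
    have h2 : x n = (x n - t ^ m * x (n + m)) + t ^ m * x (n + m) := by ring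
    rw [h2]
    exact Ideal.add_mem _ h1 (Ideal.mul_mem_right _ _ (Ideal.mem_span_singleton_self _))

/-- Elements divisible by all powers of `t` have square zero. -/
theorem sq_mem {K : Ideal T} (h : DC t K) (y : T) (hy : ∀ m : ℕ, y ∈ K ⊔ Ideal.span {t ^ m}) :
    y ^ 2 ∈ K := by
  have h1 : ∀ m, ∃ z, y - t ^ m * z ∈ K := by
    intro m
    obtain ⟨k, hk, l, hl, hkl⟩ := Submodule.mem_sup.mp (hy m)
    obtain ⟨z, rfl⟩ := Ideal.mem_span_singleton.mp hl
    refine ⟨z, ?_⟩
    have : y - t ^ m * z = k := by rw [← hkl]; ring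
    rwa [this]
  choose z hz using h1
  have h2 := h.uniq (fun n => y * z n) (fun n => by
    have h3 : t ^ n * (z n - t * z (n + 1)) ∈ K := by
      have : t ^ n * (z n - t * z (n + 1)) = (y - t ^ (n + 1) * z (n + 1)) - (y - t ^ n * z n) := by
        ring
      rw [this]
      exact K.sub_mem (hz _) (hz _)
    have : y * z n - t * (y * z (n + 1)) = (y - t ^ n * z n) * (z n - t * z (n + 1)) +
        z n * (t ^ n * (z n - t * z (n + 1))) := by ring
    change y * z n - t * (y * z (n + 1)) ∈ K
    rw [this]
    exact K.add_mem (K.mul_mem_right _ (hz n)) (K.mul_mem_left _ h3)) 0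
  have h4 := hz 0
  have : y ^ 2 = y * z 0 + y * (y - t ^ 0 * z 0) := by ring
  rw [this]
  exact K.add_mem h2 (K.mul_mem_left _ h4)

/-- Elements in all powers of the ideal `(ts)` are nilpotent. -/
theorem pow_mem : ∀ (ts : List T) (K : Ideal T), (∀ t ∈ ts, DC t K) → ∀ x : T,
    (∀ n, x ∈ K ⊔ Ideal.ofList ts ^ n) → x ^ 2 ^ ts.length ∈ K
  | [], K, _, x, hx => by
    have := hx 1
    rw [Ideal.ofList_nil, pow_one, sup_bot_eq] at this
    simpa using this
  | t :: ts, K, h, x, hx => by
    have h1 : ∀ m : ℕ, x ^ 2 ^ ts.length ∈ K ⊔ Ideal.span {t ^ m} := by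
      intro m
      refine pow_mem ts (K ⊔ Ideal.span {t ^ m})
        (fun t' ht' => (h t' (List.mem_cons_of_mem _ ht')).sup_span _) x fun n => ?_
      have h2 := hx (m + n)
      have h3 : Ideal.ofList (t :: ts) ^ (m + n) ≤ Ideal.span {t ^ m} ⊔ Ideal.ofList ts ^ n := by
        rw [Ideal.ofList_cons, ← Ideal.span_singleton_pow]
        exact Ideal.sup_pow_add_le_pow_sup_pow
      rw [sup_assoc]
      exact sup_le_sup_left h3 K h2
    have h4 := (h t List.mem_cons_self).sq_mem _ h1
    rwa [← pow_mul, ← pow_succ] at h4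

/-- Decomposition of elements of `((t) + J)^n`. -/
theorem exists_decomp (t : T) (J : Ideal T) : ∀ (n : ℕ) (a : T), a ∈ (Ideal.span {t} ⊔ J) ^ n →
    ∃ b : ℕ → T, (∀ j, b j ∈ J ^ (n - j)) ∧ a = ∑ j ∈ Finset.range (n + 1), t ^ j * b j := by
  intro n
  induction n with
  | zero =>
    intro a _
    exact ⟨fun _ => a, by simp, by simp⟩
  | succ n ih =>
    intro a ha
    rw [pow_succ'] at ha
    refine Submodule.mul_induction_on ha ?_ ?_
    · intro c hc d hd
      obtain ⟨b, hb, rfl⟩ := ih d hd
      obtain ⟨c₁, h1, c₂, h2, rfl⟩ := Submodule.mem_sup.mp hc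
      obtain ⟨c₁, rfl⟩ := Ideal.mem_span_singleton.mp h1
      refine ⟨fun j => (if j = 0 then 0 else c₁ * b (j - 1)) + (if j ≤ n then c₂ * b j else 0),
        ?_, ?_⟩
      · intro j
        refine Ideal.add_mem _ ?_ ?_
        · split_ifs with hj
          · exact Ideal.zero_mem _
          · have := hb (j - 1)
            rw [show n - (j - 1) = n + 1 - j by omega] at this
            exact Ideal.mul_mem_left _ _ this
        · split_ifs with hj
          · rw [show n + 1 - j = (n - j) + 1 by omega, pow_succ']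
            exact Ideal.mul_mem_mul h2 (hb j)
          · exact Ideal.zero_mem _
      · rw [add_mul, Finset.mul_sum, Finset.mul_sum]
        simp only [mul_add, Finset.sum_add_distrib]
        congr 1
        · rw [Finset.sum_range_succ' _ (n + 1)]
          rw [if_pos rfl, mul_zero, add_zero]
          refine Finset.sum_congr rfl fun k _ => ?_
          rw [if_neg (by omega), Nat.add_sub_cancel]
          ring
        · rw [Finset.sum_range_succ _ (n + 1)]
          rw [if_neg (by omega), mul_zero, add_zero]
          refine Finset.sum_congr rfl fun k hk => ?_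
          rw [if_pos (by rw [Finset.mem_range] at hk; omega)]
          ring
    · rintro x y ⟨b, hb, rfl⟩ ⟨b', hb', rfl⟩
      refine ⟨fun j => b j + b' j, fun j => Ideal.add_mem _ (hb j) (hb' j), ?_⟩
      rw [← Finset.sum_add_distrib]
      exact Finset.sum_congr rfl fun k _ => by ring

/-- Infinite sums. -/
theorem exists_sum : ∀ (ts : List T), (∀ t ∈ ts, DC t (⊥ : Ideal T)) → ∀ a : ℕ → T,
    (∀ n, a n ∈ Ideal.ofList ts ^ n) →
    ∃ x : T, ∀ n, x - ∑ k ∈ Finset.range n, a k ∈ Ideal.ofList ts ^ n
  | [], _, a, ha => by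
    refine ⟨a 0, fun n => ?_⟩
    rw [Ideal.ofList_nil]
    rcases Nat.eq_zero_or_pos n with rfl | hn
    · simp
    obtain ⟨m, rfl⟩ := Nat.exists_eq_add_of_lt hn
    have h1 : ∀ k, a (k + 1) = 0 := fun k => by
      have := ha (k + 1)
      rw [Ideal.ofList_nil, Ideal.bot_pow (by omega)] at this
      exact this
    rw [zero_add, Finset.sum_range_succ', Finset.sum_eq_zero fun k _ => h1 k]
    simp
  | t :: ts, h, a, ha => by
    set J := Ideal.ofList ts with hJ
    rw [Ideal.ofList_cons] at ha ⊢
    choose b hb hab using fun n => exists_decomp t J n (a n) (ha n)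
    -- `b n j ∈ J ^ (n - j)`; for fixed `j` sum over `i = n - j`
    have h1 : ∀ j, ∃ x : T, ∀ m, x - ∑ i ∈ Finset.range m, b (i + j) j ∈ J ^ m := by
      intro j
      refine exists_sum ts (fun t' ht' => h t' (List.mem_cons_of_mem _ ht'))
        (fun i => b (i + j) j) fun i => ?_
      have := hb (i + j) j
      rwa [Nat.add_sub_cancel] at this
    choose x hx using h1
    obtain ⟨z, hz⟩ := (h t List.mem_cons_self).ex x
    have hz' : ∀ n, z n = t * z (n + 1) + x n := fun n => by
      have := hz n
      rw [Ideal.mem_bot] at this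
      linear_combination this
    have h2 : ∀ n, z 0 = ∑ j ∈ Finset.range n, t ^ j * x j + t ^ n * z n := by
      intro n
      induction n with
      | zero => simp
      | succ n ih =>
        rw [ih, Finset.sum_range_succ, hz' n]
        ring
    refine ⟨z 0, fun n => ?_⟩
    have h3 : ∑ k ∈ Finset.range n, a k =
        ∑ j ∈ Finset.range n, t ^ j * ∑ i ∈ Finset.range (n - j), b (i + j) j := by
      have h5 := Finset.sum_range_diag_flip n (fun j i => t ^ j * b (i + j) j)
      simp only [Finset.mul_sum]
      rw [← h5]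
      refine Finset.sum_congr rfl fun k _ => ?_
      rw [hab k]
      refine Finset.sum_congr rfl fun j hj => ?_
      rw [Finset.mem_range] at hj
      rw [Nat.sub_add_cancel (by omega)]
    rw [h3, h2 n]
    have h4 : ∑ j ∈ Finset.range n, t ^ j * x j + t ^ n * z n -
        ∑ j ∈ Finset.range n, t ^ j * ∑ i ∈ Finset.range (n - j), b (i + j) j =
        ∑ j ∈ Finset.range n, t ^ j * (x j - ∑ i ∈ Finset.range (n - j), b (i + j) j) +
          t ^ n * z n := by
      simp only [mul_sub, Finset.sum_sub_distrib]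
      ring
    rw [h4]
    refine Ideal.add_mem _ (Ideal.sum_mem _ fun j hj => ?_) ?_
    · rw [Finset.mem_range] at hj
      have h5 : t ^ j ∈ (Ideal.span {t} ⊔ J) ^ j :=
        Ideal.pow_mem_pow (Ideal.mem_sup_left (Ideal.mem_span_singleton_self t)) j
      have h6 : x j - ∑ i ∈ Finset.range (n - j), b (i + j) j ∈ (Ideal.span {t} ⊔ J) ^ (n - j) :=
        Ideal.pow_right_mono le_sup_right _ (hx j (n - j))
      have h7 := Ideal.mul_mem_mul h5 h6
      rwa [← pow_add, show j + (n - j) = n by omega] at h7
    · exact Ideal.mul_mem_right _ _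
        (Ideal.pow_mem_pow (Ideal.mem_sup_left (Ideal.mem_span_singleton_self t)) n)

end DC

end K141
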