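import Groth.Agent.Hensel.K141.FEtCong
import Groth.Agent.PicLoc.K730.CompPair

/-!
# Completion along one element and `Cong`
-/

set_option autoImplicit false
universe u

namespace K141

theorem Cong.of_cp {A : Type u} [CommRing A] (t : A) (S : Type u) [CommRing S] [Algebra A S]
    (h : K730.CP (Ideal.span {t}) S) : Cong (algebraMap A S) t := by
  have hmap : ∀ n : ℕ, (Ideal.map (algebraMap A S) (Ideal.span {t})) ^ n =
      Ideal.span {algebraMap A S t ^ n} := by
    intro n
    rw [Ideal.map_span, Set.image_singleton, Ideal.span_singleton_pow]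
  constructor
  · intro n b
    obtain ⟨a, ha⟩ := h.d n b
    rw [hmap, Ideal.mem_span_singleton] at ha
    obtain ⟨c, hc⟩ := ha
    exact ⟨a, c, by rw [← hc]; ring⟩
  · intro n a b hab
    have h1 : algebraMap A S a ∈ (Ideal.map (algebraMap A S) (Ideal.span {t})) ^ n := by
      rw [hmap, hab]
      exact Ideal.mul_mem_right _ _ (Ideal.mem_span_singleton_self _)
    have h2 := h.i n a h1
    rw [Ideal.span_singleton_pow, Ideal.mem_span_singleton] at h2
    exact h2

theorem henselian_of_cp {A : Type u} [CommRing A] (t : A) (S : Type u) [CommRing S] [Algebra A S]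
    (h : K730.CP (Ideal.span {t}) S) : HenselianRing S (Ideal.span {algebraMap A S t}) := by
  have h1 := h.complete
  rw [Ideal.map_span, Set.image_singleton] at h1
  infer_instance

theorem cong_adicCompletion {A : Type u} [CommRing A] (t : A) :
    Cong (algebraMap A (AdicCompletion (Ideal.span {t}) A)) t :=
  Cong.of_cp t _ (K730.CP.of_adicCompletion _ ⟨{t}, by simp⟩)

theorem henselian_adicCompletion {A : Type u} [CommRing A] (t : A) :
    HenselianRing (AdicCompletion (Ideal.span {t}) A)
      (Ideal.span {algebraMap A (AdicCompletion (Ideal.span {t}) A) t}) :=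
  henselian_of_cp t _ (K730.CP.of_adicCompletion _ ⟨{t}, by simp⟩)

end K141
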