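import Groth.Agent.Hensel.K141.Principal
import Groth.Agent.Hensel.K141.DerComp
import Groth.Agent.Hensel.K141.FEtCompl

/-!
# Iterated completions and rigidity of finite étale covers for finitely generated ideals
-/

set_option autoImplicit false
universe u

open CategoryTheory CategoryTheory.Limits AlgebraicGeometry TensorProduct
open Groth.Agent.Pi1A.FEtAffine

namespace K141

theorem exists_chain (A : Type u) [CommRing A] (I : Ideal A) [hAI : HenselianRing A I]
    (U : (Spec (CommRingCat.of A)).Opens) (hUc : IsCompact (U : Set (Spec (CommRingCat.of A))))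
    (hU : ∀ x : Spec (CommRingCat.of A), x ∉ U → I ≤ x.asIdeal) :
    ∀ (ts : List A), (∀ t ∈ ts, t ∈ I) →
    ∃ (S : Type u) (_ : CommRing S) (_ : Algebra A S), HenselianRing S (I.map (algebraMap A S)) ∧
      FEq (specMap A S) U ∧
      (∀ (n : ℕ) (s : S), ∃ a : A, s - algebraMap A S a ∈ (I.map (algebraMap A S)) ^ n) ∧
      (∀ (n : ℕ) (a : A), algebraMap A S a ∈ (I.map (algebraMap A S)) ^ n → a ∈ I ^ n) ∧
      ∀ t ∈ ts, DC (algebraMap A S t) (⊥ : Ideal S)
  | [], _ => by
    have h1 : I.map (algebraMap A A) = I := Ideal.map_id I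
    refine ⟨A, inferInstance, inferInstance, by rw [h1]; exact hAI, ?_, ?_, ?_, by simp⟩
    · have h2 : specMap A A = 𝟙 _ := by
        change Spec.map (CommRingCat.ofHom (RingHom.id A)) = _
        rw [CommRingCat.ofHom_id, Spec.map_id]
      rw [h2]
      exact FEq.of_isIso _ U
    · intro n s
      exact ⟨s, by rw [Algebra.algebraMap_self_apply, sub_self]; exact Ideal.zero_mem _⟩
    · intro n a ha
      rw [h1] at ha
      exact ha
  | t :: ts, hts => by
    obtain ⟨B, _, _, hB1, hB2, hB3, hB4, hB5⟩ := exists_chain A I U hUc hU ts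
      fun t' ht' => hts t' (List.mem_cons_of_mem _ ht')
    set s := algebraMap A B t with hs
    set J : Ideal B := Ideal.span {s} with hJ
    have htI : t ∈ I := hts t List.mem_cons_self
    have hJI : J ≤ I.map (algebraMap A B) := by
      rw [hJ, Ideal.span_singleton_le_iff_mem]
      exact Ideal.mem_map_of_mem _ htI
    obtain ⟨C, _, _, hC⟩ : ∃ (C : Type u) (_ : CommRing C) (_ : Algebra B C), K730.CP J C :=
      ⟨AdicCompletion J B, inferInstance, inferInstance,
        K730.CP.of_adicCompletion J ⟨{s}, by simp [hJ]⟩⟩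
    let _ : Algebra A C := ((algebraMap B C).comp (algebraMap A B)).toAlgebra
    have tow : IsScalarTower A B C := IsScalarTower.of_algebraMap_eq fun _ => rfl
    have hmap : I.map (algebraMap A C) = (I.map (algebraMap A B)).map (algebraMap B C) := by
      rw [Ideal.map_map]; rfl
    have hhB : HenselianRing B (Ideal.span {s}) := ((Groth.Agent.S0528.result B J _ hJI).mp hB1).1
    have hhC : HenselianRing C (Ideal.span {algebraMap B C s}) := henselian_of_cp s C hC
    have hcong : Cong (algebraMap B C) s := Cong.of_cp s C hC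
    have hcompl : IsAdicComplete (Ideal.span {algebraMap B C s}) C := by
      have h1 := hC.complete
      rw [hJ, Ideal.map_span, Set.image_singleton] at h1
      exact h1
    refine ⟨C, inferInstance, inferInstance, ?_, ?_, ?_, ?_, ?_⟩
    · rw [hmap]
      exact hC.henselian hJI
    · have h1 : specMap A C = specMap B C ≫ specMap A B := by
        rw [← Spec.map_comp]
        rfl
      rw [h1]
      have hq : QuasiCompact (specMap A B) := inferInstance
      refine FEq.comp (FEq.principal (algebraMap B C) s hhB hhC hcong _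
        (hq.isCompact_preimage _ U.2 hUc) ?_) hB2
      intro x hx
      have h2 := hU _ hx htI
      exact h2
    · intro n c
      obtain ⟨b, hb⟩ := hC.d' ((I.map (algebraMap A B)) ^ n) (Ideal.pow_right_mono hJI n) c
      obtain ⟨a, ha⟩ := hB3 n b
      refine ⟨a, ?_⟩
      rw [hmap, ← Ideal.map_pow]
      have h1 : c - algebraMap A C a = (c - algebraMap B C b) +
          algebraMap B C (b - algebraMap A B a) := by
        rw [map_sub, IsScalarTower.algebraMap_apply A B C]
        ring
      rw [h1]
      exact Ideal.add_mem _ hb (Ideal.mem_map_of_mem _ ha)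
    · intro n a ha
      rw [hmap, ← Ideal.map_pow, IsScalarTower.algebraMap_apply A B C] at ha
      exact hB4 n a (hC.i' ((I.map (algebraMap A B)) ^ n) (Ideal.pow_right_mono hJI n) _ ha)
    · intro t' ht'
      rcases List.mem_cons.mp ht' with rfl | ht'
      · rw [IsScalarTower.algebraMap_apply A B C]
        exact DC.of_isAdicComplete
      · rw [IsScalarTower.algebraMap_apply A B C]
        refine DC.of_complete (algebraMap B C s) fun m => ?_
        have h1 := (hB5 t' ht').sup_span (s ^ m)
        rw [bot_sup_eq] at h1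
        have h2 : Ideal.span {algebraMap B C s ^ m} = (Ideal.span {s ^ m}).map (algebraMap B C) := by
          rw [Ideal.map_span, Set.image_singleton, map_pow]
        have h3 : J ^ m ≤ Ideal.span {s ^ m} := by rw [hJ, Ideal.span_singleton_pow]
        rw [h2]
        exact h1.map (algebraMap B C) _ (hC.d' _ h3) (hC.i' _ h3)
          (fun a ha => Ideal.mem_map_of_mem _ ha)

/-- Precomplete and nil intersection. -/
theorem exists_cp (A : Type u) [CommRing A] (I : Ideal A) (ts : List A) (hts : I = Ideal.ofList ts)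
    (S : Type u) [CommRing S] [Algebra A S]
    (hd : ∀ (n : ℕ) (s : S), ∃ a : A, s - algebraMap A S a ∈ (I.map (algebraMap A S)) ^ n)
    (hi : ∀ (n : ℕ) (a : A), algebraMap A S a ∈ (I.map (algebraMap A S)) ^ n → a ∈ I ^ n)
    (hdc : ∀ t ∈ ts, DC (algebraMap A S t) (⊥ : Ideal S)) :
    ∃ J : Ideal S, J ≤ nilradical S ∧ K730.CP I (S ⧸ J) := by
  have hmap : I.map (algebraMap A S) = Ideal.ofList (ts.map (algebraMap A S)) := by
    rw [hts, Ideal.map_ofList]
  have hdc' : ∀ t ∈ ts.map (algebraMap A S), DC t (⊥ : Ideal S) := by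
    intro t ht
    obtain ⟨t', ht', rfl⟩ := List.mem_map.mp ht
    exact hdc t' ht'
  set L := I.map (algebraMap A S) with hL
  let J : Ideal S := ⨅ n : ℕ, L ^ n
  have hJ : ∀ n, J ≤ L ^ n := fun n => iInf_le _ n
  have hpow : ∀ n, (I.map (algebraMap A (S ⧸ J))) ^ n = (L ^ n).map (Ideal.Quotient.mk J) := by
    intro n
    rw [Ideal.map_pow, hL, Ideal.map_map]
    rfl
  have hmem : ∀ n (x : S), Ideal.Quotient.mk J x ∈ (I.map (algebraMap A (S ⧸ J))) ^ n ↔
      x ∈ L ^ n := by
    intro n x
    rw [hpow]
    constructor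
    · intro h
      obtain ⟨y, hy, hxy⟩ := (Ideal.mem_map_iff_of_surjective _ Ideal.Quotient.mk_surjective).mp h
      rw [Ideal.Quotient.mk_eq_mk_iff_sub_mem] at hxy
      have : x = y - (y - x) := by ring
      rw [this]
      exact Ideal.sub_mem _ hy (hJ n hxy)
    · exact fun h => Ideal.mem_map_of_mem _ h
  refine ⟨J, ?_, ?_⟩
  · intro x hx
    refine ⟨2 ^ (ts.map (algebraMap A S)).length, ?_⟩
    have := DC.pow_mem (ts.map (algebraMap A S)) ⊥ hdc' x (fun n => by
      rw [bot_sup_eq, ← hmap]
      exact hJ n hx)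
    exact this
  · refine ⟨?_, ?_, ?_⟩
    · refine { haus' := ?_, prec' := ?_ }
      · intro x hx
        obtain ⟨x, rfl⟩ := Ideal.Quotient.mk_surjective x
        rw [Ideal.Quotient.eq_zero_iff_mem]
        change x ∈ ⨅ n : ℕ, L ^ n
        rw [Submodule.mem_iInf]
        intro n
        have := hx n
        rw [SModEq.zero, smul_eq_mul, Ideal.mul_top] at this
        exact (hmem n x).mp this
      · intro f hf
        choose g hg using fun n => Ideal.Quotient.mk_surjective (f n)
        have h1 : ∀ {m n}, m ≤ n → g m - g n ∈ L ^ m := by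
          intro m n hmn
          have := hf hmn
          rw [SModEq.sub_mem, smul_eq_mul, Ideal.mul_top, ← hg, ← hg, ← map_sub] at this
          exact (hmem m _).mp this
        obtain ⟨x, hx⟩ := DC.exists_sum (ts.map (algebraMap A S)) hdc'
          (fun k => g (k + 1) - g k) (fun n => by
            rw [← hmap, ← neg_sub]
            exact neg_mem (h1 n.le_succ))
        refine ⟨Ideal.Quotient.mk J (x + g 0), fun n => ?_⟩
        rw [SModEq.sub_mem, smul_eq_mul, Ideal.mul_top, ← hg, ← map_sub]
        rw [hmem]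
        have h2 := hx n
        rw [Finset.sum_range_sub, ← hmap] at h2
        have h3 : g n - (x + g 0) = -(x - (g n - g 0)) := by ring
        rw [h3]
        exact neg_mem h2
    · intro n s
      obtain ⟨s, rfl⟩ := Ideal.Quotient.mk_surjective s
      obtain ⟨a, ha⟩ := hd n s
      exact ⟨a, (hmem n _).mpr ha⟩
    · intro n a ha
      exact hi n a ((hmem n _).mp ha)

/-- **Gabber's rigidity**: finite étale covers and completions. -/
theorem FEq.completion (A : Type u) [CommRing A] (I : Ideal A) (hI : I.FG) [HenselianRing A I]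
    (U : (Spec (CommRingCat.of A)).Opens) (hUc : IsCompact (U : Set (Spec (CommRingCat.of A))))
    (hU : ∀ x : Spec (CommRingCat.of A), x ∉ U → I ≤ x.asIdeal)
    (C : Type u) [CommRing C] [Algebra A C] (hC : K730.CP I C) : FEq (specMap A C) U := by
  obtain ⟨ts, hts⟩ : ∃ ts : List A, I = Ideal.ofList ts := by
    obtain ⟨s, hs⟩ := hI
    refine ⟨s.toList, ?_⟩
    rw [← hs]
    congr 1
    ext x
    simp
  obtain ⟨S, _, _, -, h2, h3, h4, h5⟩ := exists_chain A I U hUc hU ts (fun t ht => by
    rw [hts]
    exact Ideal.subset_span ht)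
  obtain ⟨J, hJ1, hJ2⟩ := exists_cp A I ts hts S h3 h4 h5
  have h6 : FEq (specMap A (S ⧸ J)) U := by
    have h7 : specMap A (S ⧸ J) = specMap S (S ⧸ J) ≫ specMap A S := by
      rw [← Spec.map_comp]
      rfl
    rw [h7]
    exact FEq.comp (FEq.of_nil J hJ1 _) h2
  obtain ⟨e₁⟩ := hC.exists_algEquiv
  obtain ⟨e₂⟩ := hJ2.exists_algEquiv
  let e : C ≃ₐ[A] S ⧸ J := e₁.symm.trans e₂
  let k : Spec (CommRingCat.of (S ⧸ J)) ⟶ Spec (CommRingCat.of C) :=
    Spec.map (CommRingCat.ofHom e.toRingEquiv.toRingHom)
  have hk : IsIso k := by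
    have : IsIso (CommRingCat.ofHom e.toRingEquiv.toRingHom) :=
      inferInstanceAs (IsIso e.toRingEquiv.toCommRingCatIso.hom)
    infer_instance
  have hk2 : k ≫ specMap A C = specMap A (S ⧸ J) := by
    rw [← Spec.map_comp]
    congr 1
    ext a
    exact e.commutes a
  rw [← hk2] at h6
  exact FEq.of_comp_left (FEq.of_isIso k _) h6

end K141
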