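import Mathlib.RingTheory.TensorProduct.Basic
import Mathlib.RingTheory.Ideal.Quotient.Operations
import Mathlib.Algebra.MvPolynomial.Eval
import Mathlib.Algebra.MvPolynomial.Division
import Mathlib.RingTheory.TensorProduct.Maps
import Mathlib.Tactic.LinearCombination

/-!
# Ring maps which are isomorphisms modulo all powers of one element

`Cong φ t`: `A/t^n → B/t^n` is bijective for all `n`.
* `Cong.tensor`: base change along `A → C`.
* `Cong.mvPolynomial`: polynomial rings.
-/

set_option autoImplicit false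
universe u v w

open TensorProduct

namespace K141

/-- `A/t^n → B/t^n` is bijective for all `n`. -/
structure Cong {A : Type u} {B : Type v} [CommRing A] [CommRing B] (φ : A →+* B) (t : A) : Prop where
  surj : ∀ (n : ℕ) (b : B), ∃ (a : A) (b' : B), b = φ a + φ t ^ n * b'
  inj : ∀ (n : ℕ) (a : A) (b : B), φ a = φ t ^ n * b → ∃ a', a = t ^ n * a'

namespace Cong

section Quot

variable {A : Type u} {B : Type v} [CommRing A] [CommRing B] [Algebra A B] {t : A}

/-- The retraction `B → A/t^n`. -/
theorem exists_retract (h : Cong (algebraMap A B) t) (n : ℕ) :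
    Nonempty (B →ₐ[A] A ⧸ Ideal.span {t ^ n}) := by
  choose a b' hab using h.surj n
  have key : ∀ (b : B) (x : A) (y : B), b = algebraMap A B x + algebraMap A B t ^ n * y →
      Ideal.Quotient.mk (Ideal.span {t ^ n}) (a b) = Ideal.Quotient.mk (Ideal.span {t ^ n}) x := by
    intro b x y hxy
    rw [Ideal.Quotient.mk_eq_mk_iff_sub_mem, Ideal.mem_span_singleton]
    obtain ⟨z, hz⟩ := h.inj n (a b - x) (y - b' b) (by
      rw [map_sub, mul_sub]
      have := hab b
      linear_combination hxy - this)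
    exact ⟨z, hz⟩
  refine ⟨AlgHom.mk (RingHom.mk (MonoidHom.mk (OneHom.mk
    (fun b => Ideal.Quotient.mk (Ideal.span {t ^ n}) (a b)) ?_) ?_) ?_ ?_) ?_⟩
  · rw [key 1 1 0 (by simp), map_one]
  · intro x y
    rw [← map_mul]
    apply key _ _ (b' x * algebraMap A B (a y) + algebraMap A B (a x) * b' y +
      algebraMap A B t ^ n * b' x * b' y)
    rw [map_mul]
    have hx := hab x
    have hy := hab y
    calc x * y = (algebraMap A B (a x) + algebraMap A B t ^ n * b' x) *
        (algebraMap A B (a y) + algebraMap A B t ^ n * b' y) := by rw [← hx, ← hy]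
      _ = _ := by ring
  · exact (key 0 0 0 (by simp)).trans (map_zero _)
  · intro x y
    change Ideal.Quotient.mk _ (a (x + y)) = Ideal.Quotient.mk _ (a x) + Ideal.Quotient.mk _ (a y)
    rw [← map_add]
    apply key _ _ (b' x + b' y)
    rw [map_add]
    have hx := hab x
    have hy := hab y
    calc x + y = (algebraMap A B (a x) + algebraMap A B t ^ n * b' x) +
        (algebraMap A B (a y) + algebraMap A B t ^ n * b' y) := by rw [← hx, ← hy]
      _ = _ := by ring
  · intro r
    exact key _ r 0 (by simp)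

/-- Base change. -/
theorem tensor (h : Cong (algebraMap A B) t) (C : Type w) [CommRing C] [Algebra A C] :
    Cong (Algebra.TensorProduct.includeRight : C →ₐ[A] B ⊗[A] C).toRingHom (algebraMap A C t) := by
  have ht : ∀ n : ℕ, (Algebra.TensorProduct.includeRight : C →ₐ[A] B ⊗[A] C).toRingHom
      (algebraMap A C t) ^ n = (algebraMap A B t ^ n) ⊗ₜ[A] (1 : C) := by
    intro n
    have : (Algebra.TensorProduct.includeRight : C →ₐ[A] B ⊗[A] C).toRingHom (algebraMap A C t) =
        (algebraMap A B t) ⊗ₜ[A] (1 : C) := by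
      change (1 : B) ⊗ₜ[A] (algebraMap A C t) = _
      rw [Algebra.algebraMap_eq_smul_one, tmul_smul, smul_tmul', ← Algebra.algebraMap_eq_smul_one]
    rw [this, Algebra.TensorProduct.tmul_pow, one_pow]
  constructor
  · intro n z
    induction z with
    | zero => exact ⟨0, 0, by simp⟩
    | add x y hx hy =>
      obtain ⟨a, b, rfl⟩ := hx
      obtain ⟨a', b', rfl⟩ := hy
      exact ⟨a + a', b + b', by rw [map_add]; ring⟩
    | tmul b c =>
      obtain ⟨a, b', hb⟩ := h.surj n b
      refine ⟨algebraMap A C a * c, b' ⊗ₜ c, ?_⟩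
      rw [ht, Algebra.TensorProduct.tmul_mul_tmul, one_mul]
      change _ = (1 : B) ⊗ₜ[A] (algebraMap A C a * c) + _
      rw [← Algebra.smul_def, tmul_smul, smul_tmul', ← Algebra.algebraMap_eq_smul_one, ← add_tmul,
        ← hb]
  · intro n c z hz
    obtain ⟨ρ⟩ := h.exists_retract n
    let J : Ideal C := Ideal.span {algebraMap A C t ^ n}
    have hJ : algebraMap A (C ⧸ J) (t ^ n) = 0 := by
      change Ideal.Quotient.mk J (algebraMap A C (t ^ n)) = 0
      rw [map_pow]
      exact Ideal.Quotient.eq_zero_iff_mem.mpr (Ideal.mem_span_singleton_self _)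
    let q : C →ₐ[A] C ⧸ J := Ideal.Quotient.mkₐ A _
    let ρ' : (A ⧸ Ideal.span {t ^ n}) →ₐ[A] C ⧸ J :=
      Ideal.Quotient.liftₐ _ (Algebra.ofId A _) (by
        intro a ha
        obtain ⟨a', rfl⟩ := Ideal.mem_span_singleton.mp ha
        rw [map_mul, Algebra.ofId_apply, hJ, zero_mul])
    let g : B ⊗[A] C →ₐ[A] C ⧸ J :=
      Algebra.TensorProduct.lift (ρ'.comp ρ) q (fun _ _ => Commute.all _ _)
    have hg : ∀ (b : B) (c : C), g (b ⊗ₜ c) = ρ' (ρ b) * q c := fun b c => by
      simp only [g, Algebra.TensorProduct.lift_tmul, AlgHom.comp_apply]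
    have h1 : g (((1 : B) ⊗ₜ[A] c)) = g ((algebraMap A B t ^ n) ⊗ₜ[A] (1 : C)) * g z := by
      rw [← map_mul, ← ht]
      exact congrArg g hz
    rw [hg, hg, ← map_pow, AlgHom.commutes, AlgHom.commutes, hJ, zero_mul, zero_mul, map_one,
      map_one, one_mul] at h1
    obtain ⟨a', ha'⟩ := Ideal.mem_span_singleton.mp (Ideal.Quotient.eq_zero_iff_mem.mp h1)
    exact ⟨a', ha'⟩

end Quot

section Poly

variable {A : Type u} {B : Type v} [CommRing A] [CommRing B] {φ : A →+* B} {t : A}

open MvPolynomial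

theorem mvPolynomial (h : Cong φ t) (ι : Type w) :
    Cong (MvPolynomial.map (σ := ι) φ) (C t) := by
  constructor
  · intro n p
    rw [map_C]
    induction p using MvPolynomial.induction_on with
    | C b =>
      obtain ⟨a, b', rfl⟩ := h.surj n b
      exact ⟨C a, C b', by rw [map_C, C_add, C_mul, C_pow]⟩
    | add x y hx hy =>
      obtain ⟨a, b, rfl⟩ := hx
      obtain ⟨a', b', rfl⟩ := hy
      exact ⟨a + a', b + b', by rw [map_add]; ring⟩
    | mul_X p i hp =>
      obtain ⟨a, b, rfl⟩ := hp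
      exact ⟨a * X i, b * X i, by rw [map_mul, map_X]; ring⟩
  · intro n p q hpq
    rw [map_C, ← C_pow] at hpq
    have h1 : C (t ^ n) ∣ p := by
      rw [C_dvd_iff_dvd_coeff]
      intro m
      have h2 := congrArg (coeff m) hpq
      rw [coeff_map, coeff_C_mul] at h2
      obtain ⟨a', ha'⟩ := h.inj n _ _ h2
      exact ⟨a', ha'⟩
    obtain ⟨p', hp'⟩ := h1
    exact ⟨p', by rw [hp', C_pow]⟩

/-- approximation of an identity modulo an ideal. -/
theorem mem_span (h : Cong φ t) (n : ℕ) {κ : Type*} [Fintype κ] (g : κ → A) (g' : κ → B)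
    (hg : ∀ i, ∃ b, g' i = φ (g i) + φ t ^ n * b) (a : A) (b : B)
    (hab : φ a - φ t ^ n * b ∈ Ideal.span (Set.range g')) :
    ∃ a', a - t ^ n * a' ∈ Ideal.span (Set.range g) := by
  obtain ⟨c, hc⟩ := (Ideal.mem_span_range_iff_exists_fun).mp hab
  choose e he using hg
  choose c' d hd using fun i => h.surj n (c i)
  obtain ⟨a', ha'⟩ := h.inj n (a - ∑ i, c' i * g i)
    (b + ∑ i, (φ (c' i) * e i + d i * φ (g i) + d i * φ t ^ n * e i)) (by
    rw [map_sub, map_sum, sub_eq_iff_eq_add]
    have e1 : ∀ i, c i * g' i = φ (c' i * g i) +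
        φ t ^ n * (φ (c' i) * e i + d i * φ (g i) + d i * φ t ^ n * e i) := by
      intro i
      rw [hd i, he i, map_mul]
      ring
    have e2 : φ a = φ t ^ n * b + ∑ i, c i * g' i := by rw [hc]; ring
    rw [e2, Finset.sum_congr rfl fun i _ => e1 i, Finset.sum_add_distrib, ← Finset.mul_sum]
    ring)
  refine ⟨a', ?_⟩
  have : a - t ^ n * a' = ∑ i, c' i * g i := by rw [← ha']; ring
  rw [this]
  exact Submodule.sum_mem _ fun i _ => Ideal.mul_mem_left _ _ (Ideal.subset_span ⟨i, rfl⟩)

end Poly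

end Cong

end K141
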