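import Groth.Agent.Pi1A.ClopenCrit
import Groth.Agent.Pi1A.FEtAffine

/-!
# Clopen subsets and full faithfulness of base change of finite étale covers

* `ClopenBij g`: clopen subsets of `Y` and `X` correspond under `g : X ⟶ Y`.
* `ClopenBij.of_iso`, `ClopenBij.of_isPullback`, `clopenBij_specMap` (idempotents).
* `restrict_fullyFaithful`: `FEt.restrict f` is fully faithful if all base changes of `f` to
  finite étale covers are `ClopenBij`.
-/

set_option autoImplicit false
universe u

open CategoryTheory CategoryTheory.Limits AlgebraicGeometry TensorProduct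

namespace K141.Clopen

/-- Clopen subsets of `Y` and of `X` correspond under `g : X ⟶ Y`. -/
structure ClopenBij {X Y : Scheme.{u}} (g : X ⟶ Y) : Prop where
  inj : ∀ U : Set Y, IsClopen U → g ⁻¹' U = ∅ → U = ∅
  surj : ∀ V : Set X, IsClopen V → ∃ U : Set Y, IsClopen U ∧ g ⁻¹' U = V

theorem ClopenBij.of_iso {X X' Y Y' : Scheme.{u}} {g : X ⟶ Y} {g' : X' ⟶ Y'} (eX : X ≅ X')
    (eY : Y ≅ Y') (w : eX.hom ≫ g' = g ≫ eY.hom) (h : ClopenBij g') : ClopenBij g := by
  have w' : ∀ x : X, g' (eX.hom x) = eY.hom (g x) := fun x => by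
    rw [← Scheme.Hom.comp_apply, w, Scheme.Hom.comp_apply]
  constructor
  · intro U hU h0
    have h1 := h.inj (eY.inv ⁻¹' U) (hU.preimage eY.inv.continuous) (by
      rw [Set.eq_empty_iff_forall_notMem]
      intro x' hx'
      have h2 : eX.inv x' ∈ g ⁻¹' U := by
        have h3 : eY.inv (g' x') ∈ U := hx'
        have h4 : g' x' = eY.hom (g (eX.inv x')) := by
          rw [← w', Scheme.inv_hom_apply]
        rw [h4, Scheme.hom_inv_apply] at h3
        exact h3
      rw [h0] at h2
      exact h2)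
    rw [Set.eq_empty_iff_forall_notMem] at h1 ⊢
    intro y hy
    apply h1 (eY.hom y)
    change eY.inv (eY.hom y) ∈ U
    rwa [Scheme.hom_inv_apply]
  · intro V hV
    obtain ⟨U', hU', hUV⟩ := h.surj (eX.inv ⁻¹' V) (hV.preimage eX.inv.continuous)
    refine ⟨eY.hom ⁻¹' U', hU'.preimage eY.hom.continuous, ?_⟩
    ext x
    change eY.hom (g x) ∈ U' ↔ x ∈ V
    rw [← w']
    change eX.hom x ∈ g' ⁻¹' U' ↔ x ∈ V
    rw [hUV]
    change eX.inv (eX.hom x) ∈ V ↔ x ∈ V
    rw [Scheme.hom_inv_apply]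

theorem ClopenBij.of_isPullback {X S T P : Scheme.{u}} {f : X ⟶ S} {h : T ⟶ S} {a : P ⟶ T}
    {b : P ⟶ X} (sq : IsPullback a b h f) (ha : ClopenBij a) : ClopenBij (pullback.fst h f) :=
  ha.of_iso sq.isoPullback.symm (Iso.refl _) (by simp)

theorem idem_eq_zero {C : Type*} [CommRing C] {e : C} (he : IsIdempotentElem e)
    (h : (PrimeSpectrum.basicOpen e : Set (PrimeSpectrum C)) = ∅) : e = 0 := by
  have h1 : PrimeSpectrum.basicOpen e = ⊥ := by
    apply TopologicalSpace.Opens.ext
    exact h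
  obtain ⟨n, hn⟩ := (PrimeSpectrum.basicOpen_eq_bot_iff e).mp h1
  have h2 : e ^ (n + 1) = e := he.pow_succ_eq n
  rw [← h2, pow_succ, hn, zero_mul]

theorem clopenBij_specMap {C C' : Type u} [CommRing C] [CommRing C'] (φ : C →+* C')
    (hinj : ∀ e : C, IsIdempotentElem e → φ e = 0 → e = 0)
    (hsurj : ∀ e' : C', IsIdempotentElem e' → ∃ e : C, IsIdempotentElem e ∧ φ e = e') :
    ClopenBij (Spec.map (CommRingCat.ofHom φ)) := by
  have hpre : ∀ e : C, (Spec.map (CommRingCat.ofHom φ)) ⁻¹' (PrimeSpectrum.basicOpen e :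
      Set (PrimeSpectrum C)) = (PrimeSpectrum.basicOpen (φ e) : Set (PrimeSpectrum C')) :=
    fun e => rfl
  constructor
  · intro U hU h0
    obtain ⟨e, he, rfl⟩ := (PrimeSpectrum.isClopen_iff (R := C)).mp hU
    rw [hpre] at h0
    have h1 := hinj e he (idem_eq_zero (he.map φ) h0)
    rw [h1, PrimeSpectrum.basicOpen_zero]
    rfl
  · intro V hV
    obtain ⟨e', he', rfl⟩ := (PrimeSpectrum.isClopen_iff (R := C')).mp hV
    obtain ⟨e, he, rfl⟩ := hsurj e' he'
    exact ⟨_, (PrimeSpectrum.isClopen_iff (R := C)).mpr ⟨e, he, rfl⟩, hpre e⟩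

theorem restrict_fullyFaithful {X S : Scheme.{u}} (f : X ⟶ S)
    (h : ∀ T : FEt.Cat S, ClopenBij (pullback.fst T.hom f)) :
    (FEt.restrict f).Full ∧ (FEt.restrict f).Faithful :=
  Groth.Agent.Pi1A.ClopenCrit.restrict_fullyFaithful_of_isClopen f (fun T => (h T).inj)
    (fun T => (h T).surj)

open Groth.Agent.Pi1A.FEtAffine in
/-- The affine case, for a finite étale algebra. -/
theorem clopenBij_affine (A A' : Type u) [CommRing A] [CommRing A'] [Algebra A A']
    (hinj : ∀ (C : Type u) [CommRing C] [Algebra A C] [Module.Finite A C] [Algebra.Etale A C]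
      (e : C), IsIdempotentElem e → (1 : A') ⊗ₜ[A] e = 0 → e = 0)
    (hsurj : ∀ (C : Type u) [CommRing C] [Algebra A C] [Module.Finite A C] [Algebra.Etale A C]
      (e' : A' ⊗[A] C), IsIdempotentElem e' → ∃ e : C, IsIdempotentElem e ∧ (1 : A') ⊗ₜ[A] e = e')
    (T : FEt.Cat (Spec (CommRingCat.of A))) : ClopenBij (pullback.fst T.hom (specMap A A')) := by
  obtain ⟨C, _, _, _, _, ⟨e⟩⟩ := exists_iso_ofAlgebra T
  let eY : T.left ≅ (ofAlgebra A C).left :=
    (MorphismProperty.Over.forget _ _ _ ⋙ Over.forget _).mapIso e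
  have heY : eY.hom ≫ (ofAlgebra A C).hom = T.hom := hom_w e.hom
  have h1 : IsPullback (tensorProj A A' C ≫ eY.inv) (ofAlgebra A' (A' ⊗[A] C)).hom T.hom
      (specMap A A') := by
    refine (isPullback_tensor A A' C).of_iso (Iso.refl _) eY.symm (Iso.refl _) (Iso.refl _) ?_ ?_ ?_ ?_
    · exact (Category.id_comp _).symm
    · exact (Category.comp_id _).trans (Category.id_comp _).symm
    · refine (Category.comp_id _).trans ?_
      rw [← heY]
      exact (Iso.inv_hom_id_assoc eY _).symm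
    · exact (Category.comp_id _).trans (Category.id_comp _).symm
  refine ClopenBij.of_isPullback h1 ?_
  have h2 : ClopenBij (tensorProj A A' C) := clopenBij_specMap _ (hinj C) (hsurj C)
  refine h2.of_iso (Iso.refl _) eY ?_
  rw [Category.assoc, Iso.inv_hom_id, Category.comp_id]
  exact Category.id_comp _

end K141.Clopen
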