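import Groth.Agent.Hensel.K141.FEtEssSurj
import Groth.Agent.Hensel.K141.FEtClopen

/-!
# Finite étale covers of `A[1/t]` and of `B[1/t]`

`A → B` with `(A, tA)`, `(B, tB)` henselian and `A/t^n = B/t^n` for all `n`; `R = A[1/t]`,
`R' = B[1/t]`. Then base change along `Spec R' → Spec R` is an equivalence on finite étale covers.
-/

set_option autoImplicit false
universe u

open CategoryTheory CategoryTheory.Limits AlgebraicGeometry TensorProduct
open Groth.Agent.Pi1A.FEtAffine

namespace K141.Away

section

variable {A B R R' : Type u} [CommRing A] [CommRing B] [CommRing R] [CommRing R']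
  [Algebra A B] [Algebra A R] [Algebra B R'] [Algebra R R'] [Algebra A R'] [IsScalarTower A B R']
  [IsScalarTower A R R'] (t : A) [IsLocalization.Away t R]
  [IsLocalization.Away (algebraMap A B t) R'] [HenselianRing A (Ideal.span {t})]
  [HenselianRing B (Ideal.span {algebraMap A B t})]

theorem clopenBij (h : Cong (algebraMap A B) t) (T : FEt.Cat (Spec (CommRingCat.of R))) :
    Clopen.ClopenBij (pullback.fst T.hom (specMap R R')) := by
  refine Clopen.clopenBij_affine R R' ?_ ?_ T
  · intro C _ _ _ _ e he h0
    letI : Algebra A C := ((algebraMap R C).comp (algebraMap A R)).toAlgebra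
    have : IsScalarTower A R C := IsScalarTower.of_algebraMap_eq fun _ => rfl
    exact Idem.idem_eq_zero B R R' t h e he h0
  · intro C _ _ _ _ e he
    letI : Algebra A C := ((algebraMap R C).comp (algebraMap A R)).toAlgebra
    have : IsScalarTower A R C := IsScalarTower.of_algebraMap_eq fun _ => rfl
    exact Idem.exists_idem B R R' t h e he

theorem isEquivalence (h : Cong (algebraMap A B) t) :
    (FEt.restrict (specMap R R')).IsEquivalence := by
  obtain ⟨h1, h2⟩ := Clopen.restrict_fullyFaithful (specMap R R') (clopenBij (B := B) t h)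
  refine { faithful := h2, full := h1, essSurj := ?_ }
  rw [restrict_essSurj_iff]
  intro E _ _ _ _
  obtain ⟨F, i1, i2, i3, i4, h3⟩ := Descend.exists_descent (A := A) (B := B) (R := R) (R' := R') t h E
  exact ⟨F, i1, i2, i3, i4, h3⟩

end

/-- The version with ring homomorphisms. -/
theorem isEquivalence_ringHom {A B R R' : Type u} [CommRing A] [CommRing B] [CommRing R]
    [CommRing R'] (φ : A →+* B) (t : A) (i : A →+* R) (j : B →+* R') (χ : R →+* R')
    (hi : ∃ _ : Algebra A R, algebraMap A R = i ∧ IsLocalization.Away t R)
    (hj : ∃ _ : Algebra B R', algebraMap B R' = j ∧ IsLocalization.Away (φ t) R')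
    (hw : χ.comp i = j.comp φ) (hA : HenselianRing A (Ideal.span {t}))
    (hB : HenselianRing B (Ideal.span {φ t})) (h : Cong φ t) :
    (FEt.restrict (Spec.map (CommRingCat.ofHom χ))).IsEquivalence := by
  obtain ⟨_, rfl, hi⟩ := hi
  obtain ⟨_, rfl, hj⟩ := hj
  letI : Algebra A B := φ.toAlgebra
  letI : Algebra R R' := χ.toAlgebra
  letI : Algebra A R' := (χ.comp (algebraMap A R)).toAlgebra
  have h1 : IsScalarTower A R R' := IsScalarTower.of_algebraMap_eq fun _ => rfl
  have h2 : IsScalarTower A B R' := IsScalarTower.of_algebraMap_eq fun a =>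
    DFunLike.congr_fun hw a
  have h3 : IsLocalization.Away (algebraMap A B t) R' := hj
  have h4 : HenselianRing B (Ideal.span {algebraMap A B t}) := hB
  exact isEquivalence (A := A) (B := B) (R := R) (R' := R') t h

/-- Localizations away from one element. -/
theorem isEquivalence_awayMap {A B : Type u} [CommRing A] [CommRing B] (φ : A →+* B) (t : A)
    (hA : HenselianRing A (Ideal.span {t})) (hB : HenselianRing B (Ideal.span {φ t}))
    (h : Cong φ t) :
    (FEt.restrict (Spec.map (CommRingCat.ofHom (Localization.awayMap φ t)))).IsEquivalence := by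
  refine isEquivalence_ringHom φ t (algebraMap A (Localization.Away t))
    (algebraMap B (Localization.Away (φ t))) (Localization.awayMap φ t)
    ⟨inferInstance, rfl, inferInstance⟩ ⟨inferInstance, rfl, inferInstance⟩ ?_ hA hB h
  exact IsLocalization.map_comp _

end K141.Away
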