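import Groth.Agent.Hensel.K141.GlueClopen
import Groth.Agent.Hensel.K141.FEtAway

/-!
# Full faithfulness of `FEt(U) → FEt(U')` for a glueing pair, `U ⊇ D(t)`
-/

set_option autoImplicit false
universe u

open CategoryTheory CategoryTheory.Limits AlgebraicGeometry TensorProduct
open Groth.Agent.Pi1A.FEtAffine

namespace K141.GlueFF

variable {A B : Type u} [CommRing A] [CommRing B] [Algebra A B] {t : A}

/-- The square of localizations. -/
theorem isPullback_away (A B R R' : Type u) [CommRing A] [CommRing B] [CommRing R] [CommRing R']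
    [Algebra A B] [Algebra A R] [Algebra B R'] [Algebra R R'] [Algebra A R'] [IsScalarTower A B R']
    [IsScalarTower A R R'] (t : A) [IsLocalization.Away t R]
    [IsLocalization.Away (algebraMap A B t) R'] :
    IsPullback (specMap R R') (specMap B R') (specMap A R) (specMap A B) := by
  have h1 : IsLocalization (Algebra.algebraMapSubmonoid B (Submonoid.powers t)) R' := by
    rw [Algebra.algebraMapSubmonoid, Submonoid.map_powers]
    infer_instance
  have h2 : Algebra.IsPushout A R B R' :=
    (Algebra.isPushout_of_isLocalization (Submonoid.powers t) R B R').symm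
  exact isPullback_SpecMap_of_isPushout _ _ _ _ (CommRingCat.isPushout_of_isPushout A R B R')

variable (U : (Spec (CommRingCat.of A)).Opens)

/-- `T → U → Spec A`. -/
theorem isPullback_restrict (T : FEt.Cat (U : Scheme.{u})) :
    IsPullback (pullback.fst T.hom (specMap A B ∣_ U))
      (pullback.snd T.hom (specMap A B ∣_ U) ≫ (specMap A B ⁻¹ᵁ U).ι) (T.hom ≫ U.ι)
      (specMap A B) :=
  (IsPullback.of_hasPullback T.hom (specMap A B ∣_ U)).paste_vert
    (isPullback_morphismRestrict (specMap A B) U)

/-- `Spec A[1/t] → U`. -/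
noncomputable def jt (R : Type u) [CommRing R] [Algebra A R] [IsLocalization.Away t R]
    (hU : ∀ x : Spec (CommRingCat.of A), x ∉ U → t ∈ x.asIdeal) :
    Spec (CommRingCat.of R) ⟶ (U : Scheme.{u}) :=
  IsOpenImmersion.lift U.ι (specMap A R) (by
    rintro _ ⟨x, rfl⟩
    rw [Scheme.Opens.range_ι]
    by_contra hx
    have h1 := hU _ hx
    have h2 : algebraMap A R t ∈ (x : PrimeSpectrum R).asIdeal := h1
    exact x.isPrime.ne_top (Ideal.eq_top_of_isUnit_mem _ h2
      (IsLocalization.Away.algebraMap_isUnit _)))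

section

variable (R : Type u) [CommRing R] [Algebra A R] [IsLocalization.Away t R]
  (hU : ∀ x : Spec (CommRingCat.of A), x ∉ U → t ∈ x.asIdeal)

theorem jt_ι : jt U R hU ≫ U.ι = specMap A R := IsOpenImmersion.lift_fac _ _ _

instance : IsOpenImmersion (jt U R hU) := by
  have h1 : IsOpenImmersion (specMap A R) :=
    IsOpenImmersion.of_isLocalization t
  have h2 : IsOpenImmersion (jt U R hU ≫ U.ι) := by rw [jt_ι]; infer_instance
  exact IsOpenImmersion.of_comp _ U.ι

/-- The projection `T ×_U Spec A[1/t] → T`. -/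
noncomputable def aT (T : FEt.Cat (U : Scheme.{u})) :
    ((FEt.restrict (jt U R hU)).obj T).left ⟶ T.left := proj (jt U R hU) T

instance (T : FEt.Cat (U : Scheme.{u})) : IsOpenImmersion (aT U R hU T) :=
  MorphismProperty.of_isPullback (isPullback (jt U R hU) T).flip inferInstance

theorem mem_range_jt (x : (U : Scheme.{u})) (hx : t ∉ (U.ι x : PrimeSpectrum A).asIdeal) :
    ∃ z : Spec (CommRingCat.of R), jt U R hU z = x := by
  have h1 : (U.ι x : PrimeSpectrum A) ∈ Set.range (PrimeSpectrum.comap (algebraMap A R)) := by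
    rw [PrimeSpectrum.localization_away_comap_range R t]
    exact hx
  obtain ⟨z, hz⟩ := h1
  refine ⟨z, ?_⟩
  apply U.ι.isOpenEmbedding.injective
  have h2 : ∀ z, U.ι (jt U R hU z) = specMap A R z := fun z => by
    rw [← Scheme.Hom.comp_apply, jt_ι]
  exact (h2 z).trans hz

theorem notMem_of_jt (z : Spec (CommRingCat.of R)) :
    t ∉ (U.ι (jt U R hU z) : PrimeSpectrum A).asIdeal := by
  have h2 : U.ι (jt U R hU z) = specMap A R z := by
    rw [← Scheme.Hom.comp_apply, jt_ι]
  rw [h2]
  intro h3
  have h4 : algebraMap A R t ∈ (z : PrimeSpectrum R).asIdeal := h3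
  exact z.isPrime.ne_top (Ideal.eq_top_of_isUnit_mem _ h4
    (IsLocalization.Away.algebraMap_isUnit _))

theorem mem_range_aT (T : FEt.Cat (U : Scheme.{u})) (y : T.left) :
    t ∉ ((T.hom ≫ U.ι) y : PrimeSpectrum A).asIdeal ↔ ∃ z, aT U R hU T z = y := by
  constructor
  · intro hy
    rw [Scheme.Hom.comp_apply] at hy
    obtain ⟨x, hx⟩ := mem_range_jt U R hU (T.hom y) hy
    obtain ⟨w, hw, -⟩ := Scheme.exists_preimage_of_isPullback (isPullback (jt U R hU) T) y x hx.symm
    exact ⟨w, hw⟩
  · rintro ⟨z, rfl⟩
    have h1 : (T.hom ≫ U.ι) (aT U R hU T z) =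
        U.ι (jt U R hU (((FEt.restrict (jt U R hU)).obj T).hom z)) := by
      have h2 : aT U R hU T ≫ T.hom ≫ U.ι =
          ((FEt.restrict (jt U R hU)).obj T).hom ≫ jt U R hU ≫ U.ι := by
        rw [← Category.assoc, ← Category.assoc]
        congr 1
        exact (isPullback (jt U R hU) T).w
      rw [← Scheme.Hom.comp_apply, ← Scheme.Hom.comp_apply, ← Scheme.Hom.comp_apply, h2]
    rw [h1]
    exact notMem_of_jt U R hU _

end

variable [HenselianRing A (Ideal.span {t})] [HenselianRing B (Ideal.span {algebraMap A B t})]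

theorem clopenBij (hc : Cong (algebraMap A B) t) (hg : EtGlue.IsGlueingPair A B t)
    (hU : ∀ x : Spec (CommRingCat.of A), x ∉ U → t ∈ x.asIdeal) (T : FEt.Cat (U : Scheme.{u})) :
    Clopen.ClopenBij (pullback.fst T.hom (specMap A B ∣_ U)) := by
  let R := Localization.Away t
  let R' := Localization.Away (algebraMap A B t)
  let _ : Algebra R R' := (Localization.awayMap (algebraMap A B) t).toAlgebra
  have hw : (Localization.awayMap (algebraMap A B) t).comp (algebraMap A R) =
      (algebraMap B R').comp (algebraMap A B) := IsLocalization.map_comp _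
  have i2 : IsScalarTower A R R' := IsScalarTower.of_algebraMap_eq fun a =>
    (DFunLike.congr_fun hw a).symm
  have hflat : Flat (T.hom ≫ U.ι) := by
    have : Etale T.hom := T.prop.2
    infer_instance
  let Tt := (FEt.restrict (jt U R hU)).obj T
  have h1 : IsPullback (pullback.fst Tt.hom (specMap R R'))
      (pullback.snd Tt.hom (specMap R R') ≫ specMap B R') (Tt.hom ≫ specMap A R) (specMap A B) :=
    (IsPullback.of_hasPullback Tt.hom (specMap R R')).paste_vert (isPullback_away A B R R' t)
  have h2 : aT U R hU T ≫ T.hom ≫ U.ι = Tt.hom ≫ specMap A R := by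
    rw [← jt_ι U R hU, ← Category.assoc, ← Category.assoc]
    congr 1
    exact (isPullback (jt U R hU) T).w
  have h3 : IsPullback (pullback.snd Tt.hom (specMap R R') ≫ specMap B R')
      (pullback.fst Tt.hom (specMap R R')) (specMap A B) (aT U R hU T ≫ T.hom ≫ U.ι) := by
    rw [h2]
    exact h1.flip
  exact GlueClopen.clopenBij (isPullback_restrict U T) hc hg (aT U R hU T) (mem_range_aT U R hU T)
    (IsPullback.of_right' h3 (isPullback_restrict U T).flip)
    (Away.clopenBij (A := A) (B := B) (R := R) (R' := R') t hc Tt)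

end K141.GlueFF
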