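import Groth.Agent.Hensel.K141.NormalLoc
import Mathlib.FieldTheory.Galois.Infinite
import Mathlib.RingTheory.Localization.Integral
import Mathlib.RingTheory.Localization.AtPrime.Basic

/-!
Decomposition and inertia fields give henselian local rings.
-/

universe u

noncomputable section

namespace K141.DecompHensel

open IsLocalRing Polynomial

/-- The stabilizer of a subset, as a closed subgroup. -/
def stab (K Ks : Type*) [Field K] [Field Ks] [Algebra K Ks] [IsGalois K Ks] (T : Set Ks) :
    ClosedSubgroup (Ks ≃ₐ[K] Ks) where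
  carrier := {σ | ∀ z, z ∈ T ↔ σ z ∈ T}
  one_mem' z := Iff.rfl
  mul_mem' {σ τ} hσ hτ z := (hτ z).trans (hσ (τ z))
  inv_mem' {σ} hσ z := by
    have := hσ (σ⁻¹ z)
    rw [show σ (σ⁻¹ z) = z from σ.apply_symm_apply z] at this
    exact this.symm
  isClosed' := by
    constructor
    rw [isOpen_iff_mem_nhds]
    intro σ hσ
    obtain ⟨z, hz⟩ : ∃ z, ¬ (z ∈ T ↔ σ z ∈ T) := not_forall.mp hσ
    have h1 : IsOpen (MulAction.stabilizer (Ks ≃ₐ[K] Ks) z : Set (Ks ≃ₐ[K] Ks)) :=
      stabilizer_isOpen_of_isIntegral z
    have h2 : IsOpen ((fun τ : Ks ≃ₐ[K] Ks => σ⁻¹ * τ) ⁻¹'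
        (MulAction.stabilizer (Ks ≃ₐ[K] Ks) z : Set (Ks ≃ₐ[K] Ks))) :=
      h1.preimage (continuous_const_mul σ⁻¹)
    refine Filter.mem_of_superset (h2.mem_nhds ?_) ?_
    · simp
    · intro τ hτ hτ'
      apply hz
      have h3 : σ⁻¹ (τ z) = z := hτ
      have h4 : τ z = σ z := by
        have := congr(σ $h3)
        rwa [show σ (σ⁻¹ (τ z)) = τ z from σ.apply_symm_apply _] at this
      rw [← h4]
      exact hτ' z

theorem mem_stab_of_fix {K Ks : Type*} [Field K] [Field Ks] [Algebra K Ks] [IsGalois K Ks]
    (T : Set Ks) (S : Set (Ks ≃ₐ[K] Ks)) (hS : ∀ σ ∈ S, ∀ z, z ∈ T ↔ σ z ∈ T)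
    (σ : Ks ≃ₐ[K] Ks)
    (hσ : σ ∈ (IntermediateField.fixedField (Subgroup.closure S)).fixingSubgroup) :
    ∀ z, z ∈ T ↔ σ z ∈ T := by
  have h1 : Subgroup.closure S ≤ (stab K Ks T).1 := by
    rw [Subgroup.closure_le]
    exact hS
  have h2 : IntermediateField.fixedField (stab K Ks T).1 ≤
      IntermediateField.fixedField (Subgroup.closure S) := by
    intro x hx
    rw [IntermediateField.mem_fixedField_iff] at hx ⊢
    exact fun f hf => hx f (h1 hf)
  have h3 := InfiniteGalois.fixingSubgroup_fixedField (stab K Ks T)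
  have h4 : σ ∈ (IntermediateField.fixedField (stab K Ks T).1).fixingSubgroup :=
    IntermediateField.fixingSubgroup_antitone h2 hσ
  rw [h3] at h4
  exact h4

section Main

variable (R K Ks : Type u) [CommRing R] [IsDomain R] [Field K] [Algebra R K] [IsFractionRing R K]
    [Field Ks] [Algebra K Ks] [IsSepClosure K Ks] [Algebra R Ks] [IsScalarTower R K Ks]
    (Ps : Ideal (integralClosure R Ks)) [Ps.IsMaximal]
    (L : IntermediateField K Ks)

omit [IsDomain R] [IsFractionRing R K] [IsSepClosure K Ks] in
theorem tower1 : IsScalarTower R L Ks := IsScalarTower.of_algebraMap_eq fun _ => rfl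

omit [IsDomain R] [IsFractionRing R K] [IsSepClosure K Ks] in
theorem tower2 : IsScalarTower R (integralClosure R L) Ks :=
  IsScalarTower.of_algebraMap_eq fun _ => rfl

theorem isFractionRing_A : IsFractionRing (integralClosure R L) L := by
  have : Algebra.IsAlgebraic R L := by
    rw [IsFractionRing.comap_isAlgebraic_iff (K := K)]
    infer_instance
  refine integralClosure.isFractionRing_of_algebraic fun x hx => ?_
  rw [IsScalarTower.algebraMap_apply R K L, map_eq_zero,
    IsFractionRing.to_map_eq_zero_iff] at hx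
  exact hx

theorem isIntegrallyClosed_A : IsIntegrallyClosed (integralClosure R L) := by
  have := isFractionRing_A R K Ks L
  rw [isIntegrallyClosed_iff_isIntegrallyClosedIn (K := L)]
  infer_instance

/-- A prime of the integral closure over `Q` is contained in `Ps`. -/
theorem le_of_comap_eq
    (hL : ∀ σ : Ks ≃ₐ[K] Ks, σ ∈ L.fixingSubgroup → ∀ z : Ks,
      (∃ h, (⟨σ z, h⟩ : integralClosure R Ks) ∈ Ps) → ∃ h, (⟨z, h⟩ : integralClosure R Ks) ∈ Ps)
    (Q : Ideal (integralClosure R L))
    (hQ : ∀ y : integralClosure R L, y ∈ Q ↔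
      ∃ x : integralClosure R Ks, x ∈ Ps ∧ (x : Ks) = ((y : L) : Ks))
    (P : Ideal (integralClosure R Ks)) [P.IsPrime]
    (hP : ∀ (y : integralClosure R L) (x : integralClosure R Ks), (x : Ks) = ((y : L) : Ks) →
      (x ∈ P ↔ y ∈ Q)) : P ≤ Ps := by
  intro x hx
  have := tower1 R K Ks L
  have := tower2 R K Ks L
  have := isFractionRing_A R K Ks L
  have := isIntegrallyClosed_A R K Ks L
  have hxi : IsIntegral R (x : Ks) := x.2
  have hxA : IsIntegral (integralClosure R L) (x : Ks) := hxi.tower_top
  have hAB : ∀ a : integralClosure R L, ((a : L) : Ks) ∈ integralClosure R Ks := fun a =>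
    (show IsIntegral R (a : L) from a.2).map (IsScalarTower.toAlgHom R L Ks)
  set g := minpoly (integralClosure R L) (x : Ks) with hg
  have hgm : g.Monic := minpoly.monic hxA
  have hminL : minpoly L (x : Ks) = g.map (algebraMap (integralClosure R L) L) :=
    minpoly.isIntegrallyClosed_eq_field_fractions' L hxA
  -- the constant coefficient lies in `P`
  have hcoeff : (⟨((g.coeff 0 : L) : Ks), hAB _⟩ : integralClosure R Ks) ∈ P := by
    have h1 : aeval (x : Ks) g = 0 := minpoly.aeval _ _
    have hgi : g.Monic := hgm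
    rw [← divX_mul_X_add g, map_add, map_mul, aeval_X, aeval_C] at h1
    have h2 : IsIntegral R (aeval (x : Ks) g.divX) := by
      rw [aeval_eq_sum_range]
      refine IsIntegral.sum _ fun i _ => ?_
      rw [Algebra.smul_def]
      exact (hAB _).mul (hxi.pow i)
    have h3 : (⟨((g.coeff 0 : L) : Ks), hAB _⟩ : integralClosure R Ks) =
        -(⟨_, h2⟩ * x) := by
      apply Subtype.ext
      change algebraMap (integralClosure R L) Ks (g.coeff 0) = -(aeval (x : Ks) g.divX * x)
      rw [eq_neg_iff_add_eq_zero, add_comm]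
      exact h1
    rw [h3]
    exact P.neg_mem (P.mul_mem_left _ hx)
  have hcQ : g.coeff 0 ∈ Q := (hP _ _ rfl).mp hcoeff
  obtain ⟨c, hc, hc'⟩ := (hQ _).mp hcQ
  -- the conjugates
  have hnorm : Normal L Ks := inferInstance
  have hsplit := hnorm.splits (x : Ks)
  rw [hminL, Polynomial.map_map, ← IsScalarTower.algebraMap_eq] at hsplit
  have hgm' : (g.map (algebraMap (integralClosure R L) Ks)).Monic := hgm.map _
  have hroots : ∀ β ∈ (g.map (algebraMap (integralClosure R L) Ks)).roots, IsIntegral R β := by
    intro β hβ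
    rw [mem_roots', IsRoot.def, eval_map_algebraMap] at hβ
    have h5 : IsIntegral (integralClosure R L) β := ⟨g, hgm, hβ.2⟩
    have h6 : Algebra.IsIntegral R (integralClosure R L) := inferInstance
    exact isIntegral_trans _ h5
  have hprod : (((g.map (algebraMap (integralClosure R L) Ks)).roots.attach.map
      (fun β => (⟨β.1, hroots β.1 β.2⟩ : integralClosure R Ks)))).prod ∈ Ps := by
    have h7 := hsplit.coeff_zero_eq_prod_roots_of_monic hgm'
    rw [coeff_map] at h7
    have h8 : (-1 : integralClosure R Ks) ^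
        (g.map (algebraMap (integralClosure R L) Ks)).natDegree * c =
        (((g.map (algebraMap (integralClosure R L) Ks)).roots.attach.map
      (fun β => (⟨β.1, hroots β.1 β.2⟩ : integralClosure R Ks)))).prod := by
      apply Subtype.ext
      change (-1 : Ks) ^ _ * (c : Ks) = algebraMap (integralClosure R Ks) Ks _
      rw [map_multiset_prod, Multiset.map_map]
      have h9 : Multiset.map ((algebraMap (integralClosure R Ks) Ks) ∘
        (fun β : {β // β ∈ (g.map (algebraMap (integralClosure R L) Ks)).roots} =>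
          (⟨β.1, hroots β.1 β.2⟩ : integralClosure R Ks)))
          (g.map (algebraMap (integralClosure R L) Ks)).roots.attach =
          (g.map (algebraMap (integralClosure R L) Ks)).roots := by
        conv_rhs => rw [← Multiset.attach_map_val
          (g.map (algebraMap (integralClosure R L) Ks)).roots]
        rfl
      rw [h9, hc']
      change _ * algebraMap (integralClosure R L) Ks (g.coeff 0) = _
      rw [h7, ← mul_assoc, ← mul_pow, neg_one_mul, neg_neg, one_pow, one_mul]
    rw [← h8]
    exact Ps.mul_mem_left _ hc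
  have hprime : Ps.IsPrime := inferInstance
  rw [hprime.multiset_prod_mem_iff_exists_mem] at hprod
  obtain ⟨β, hβ1, hβ2⟩ := hprod
  rw [Multiset.mem_map] at hβ1
  obtain ⟨⟨β', hβ'⟩, -, rfl⟩ := hβ1
  have hev : aeval β' (minpoly L (x : Ks)) = 0 := by
    rw [mem_roots', IsRoot.def, eval_map_algebraMap] at hβ'
    rw [hminL, aeval_map_algebraMap]
    exact hβ'.2
  obtain ⟨σ, hσ⟩ := minpoly.exists_algEquiv_of_root' (K := L)
    (hnorm.isAlgebraic (x : Ks)) hev
  have h10 := hL (σ.restrictScalars K) (by
    rw [IntermediateField.mem_fixingSubgroup_iff]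
    intro z hz
    exact σ.commutes ⟨z, hz⟩) (x : Ks) (by
      refine ⟨?_, ?_⟩
      · change σ x ∈ _
        rw [hσ]
        exact hroots _ hβ'
      · convert hβ2 using 1
        exact Subtype.ext hσ)
  obtain ⟨h11, h12⟩ := h10
  exact h12

/-- The localization at `Q` of the integral closure in a field whose Galois group preserves `Ps`. -/
theorem henselianLocalRing
    (hL : ∀ σ : Ks ≃ₐ[K] Ks, σ ∈ L.fixingSubgroup → ∀ z : Ks,
      (∃ h, (⟨σ z, h⟩ : integralClosure R Ks) ∈ Ps) → ∃ h, (⟨z, h⟩ : integralClosure R Ks) ∈ Ps)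
    (Q : Ideal (integralClosure R L)) [Q.IsPrime]
    (hQ : ∀ y : integralClosure R L, y ∈ Q ↔
      ∃ x : integralClosure R Ks, x ∈ Ps ∧ (x : Ks) = ((y : L) : Ks)) :
    HenselianLocalRing (Localization.AtPrime Q) := by
  have := tower1 R K Ks L
  have := tower2 R K Ks L
  have := isFractionRing_A R K Ks L
  have := isIntegrallyClosed_A R K Ks L
  have hKs : IsSepClosed Ks := IsSepClosure.sep_closed K
  have hAB : ∀ a : integralClosure R L, algebraMap (integralClosure R L) Ks a ∈
      integralClosure R Ks := fun a =>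
    (show IsIntegral R (a : L) from a.2).map (IsScalarTower.toAlgHom R L Ks)
  let _ : Algebra (integralClosure R L) (integralClosure R Ks) :=
    ((algebraMap (integralClosure R L) Ks).codRestrict (integralClosure R Ks) hAB).toAlgebra
  have t1 : IsScalarTower (integralClosure R L) (integralClosure R Ks) Ks :=
    IsScalarTower.of_algebraMap_eq fun _ => rfl
  have t3 : IsScalarTower (integralClosure R L) L Ks := IsScalarTower.of_algebraMap_eq fun _ => rfl
  have hc : IsIntegralClosure (integralClosure R Ks) (integralClosure R L) Ks := by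
    constructor
    · exact Subtype.val_injective
    · intro z
      constructor
      · intro hz
        have h6 : Algebra.IsIntegral R (integralClosure R L) := inferInstance
        exact ⟨⟨z, isIntegral_trans (R := R) _ hz⟩, rfl⟩
      · rintro ⟨y, rfl⟩
        have h7 : IsIntegral R (y : Ks) := y.2
        exact h7.tower_top
  refine NormalLoc.henselianLocalRing (integralClosure R L) L Ks (integralClosure R Ks) Q Ps ?_ ?_
  · ext a
    rw [hQ]
    constructor
    · intro h
      exact ⟨_, h, rfl⟩
    · rintro ⟨x, hx, hx'⟩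
      have : algebraMap (integralClosure R L) (integralClosure R Ks) a = x := Subtype.ext hx'.symm
      rw [Ideal.mem_comap, this]
      exact hx
  · intro P hP hPQ
    refine le_of_comap_eq R K Ks Ps L hL Q hQ P ?_
    intro y x hxy
    rw [← hPQ, Ideal.mem_comap]
    have : algebraMap (integralClosure R L) (integralClosure R Ks) y = x := Subtype.ext hxy.symm
    rw [this]

end Main

end K141.DecompHensel
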