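import Groth.Agent.Hensel.K141.FEtSplit

/-!
# Descent of finite étale algebras from `B[1/t]` to `A[1/t]`

`A → B` with `(A, tA)`, `(B, tB)` henselian and `A/t^n = B/t^n`; `R = A[1/t]`, `R' = B[1/t]`.
* `exists_descent`: every finite étale `R'`-algebra is the base change of a finite étale
  `R`-algebra.
-/

set_option autoImplicit false
universe u v w

open TensorProduct MvPolynomial

namespace K141.Descend

section Sub

variable {B T : Type u} [CommRing B] [CommRing T] [Algebra B T] (t : B)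
  [HenselianRing B (Ideal.span {t})] (hT : IsUnit (algebraMap B T t)) (T₀ : Subalgebra B T)
  [Algebra.IsIntegral B T₀] {n : ℕ} (G : Fin n → MvPolynomial (Fin n) B)
  (D : MvPolynomial (Fin n) B) (M : ℕ)

omit [HenselianRing B (Ideal.span {t})] [Algebra.IsIntegral B T₀] in
theorem aeval_coe (x : Fin n → T₀) (p : MvPolynomial (Fin n) B) :
    ((aeval x p : T₀) : T) = aeval (fun i => (x i : T)) p := by
  change T₀.val (aeval x p) = _
  rw [← AlgHom.comp_apply, comp_aeval]
  rfl

omit [HenselianRing B (Ideal.span {t})] [Algebra.IsIntegral B T₀] in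
theorem aeval_mem (x : Fin n → T) (hx : ∀ i, x i ∈ T₀) (p : MvPolynomial (Fin n) B) :
    aeval x p ∈ T₀ := by
  rw [← aeval_coe T₀ (fun i => (⟨x i, hx i⟩ : T₀)) p]
  exact Subtype.prop _

omit [HenselianRing B (Ideal.span {t})] [Algebra.IsIntegral B T₀] in
theorem exists_left (x : Fin n → T₀)
    (hD : ∃ a ∈ T₀, aeval (fun i => (x i : T)) ((Pres.jac G).det * D) =
      algebraMap B T t ^ M * (1 + algebraMap B T t * a))
    (hjac : Ideal.span {algebraMap B T₀ t} ≤ Ideal.jacobson (⊥ : Ideal T₀)) :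
    ∃ L : Matrix (Fin n) (Fin n) T₀,
      L * Newton.jacAt (fun i => map (algebraMap B T₀) (G i)) x =
        (algebraMap B T₀ t) ^ M • (1 : Matrix (Fin n) (Fin n) T₀) := by
  obtain ⟨a, ha, hD⟩ := hD
  refine Newton.exists_left_inverse _ _ (aeval x D) _ (1 + algebraMap B T₀ t * ⟨a, ha⟩) ?_
    (Idem.isUnit_one_add hjac _)
  have h1 : (Newton.jacAt (fun i => map (algebraMap B T₀) (G i)) x).det =
      aeval x (Pres.jac G).det := by
    have h2 : Newton.jacAt (fun i => map (algebraMap B T₀) (G i)) x =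
        (aeval (R := B) x).toRingHom.mapMatrix (Pres.jac G) := by
      ext i j : 1
      rw [RingHom.mapMatrix_apply, Matrix.map_apply]
      change eval x (pderiv j (map (algebraMap B T₀) (G i))) = aeval x (pderiv j (G i))
      rw [pderiv_map, eval_map]
      rfl
    rw [h2, ← RingHom.map_det]
    rfl
  rw [h1, ← map_mul]
  apply Subtype.ext
  rw [aeval_coe, hD]
  rfl

include hT in
theorem newton_sub (s : ℕ) (hs : 1 ≤ s) (x : Fin n → T) (hx : ∀ i, x i ∈ T₀)
    (hG : ∀ i, ∃ a ∈ T₀, aeval x (G i) = algebraMap B T t ^ (2 * M + s) * a)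
    (hD : ∃ a ∈ T₀, aeval x ((Pres.jac G).det * D) =
      algebraMap B T t ^ M * (1 + algebraMap B T t * a)) :
    ∃ y : Fin n → T, (∀ i, y i ∈ T₀) ∧ (∀ i, aeval y (G i) = 0) ∧
      ∀ i, ∃ a ∈ T₀, y i - x i = algebraMap B T t ^ (M + s) * a := by
  have hH : HenselianRing T₀ (Ideal.span {algebraMap B T₀ t}) := Idem.henselian_of_integral t T₀
  have htf : ∀ c : T₀, algebraMap B T₀ t * c = 0 → c = 0 := by
    intro c hc
    apply Subtype.ext
    have h2 : algebraMap B T t * (c : T) = 0 := congrArg Subtype.val hc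
    exact hT.mul_right_eq_zero.mp h2
  obtain ⟨L, hL⟩ := exists_left t T₀ G D M (fun i => (⟨x i, hx i⟩ : T₀)) hD hH.jac
  obtain ⟨y, hy, hyx⟩ := Newton.exists_root htf (fun i => map (algebraMap B T₀) (G i))
    (fun i => (⟨x i, hx i⟩ : T₀)) M s hs L hL (by
      intro i
      obtain ⟨a, ha, h⟩ := hG i
      refine ⟨⟨a, ha⟩, ?_⟩
      apply Subtype.ext
      rw [eval_map]
      change ((aeval (fun i => (⟨x i, hx i⟩ : T₀)) (G i) : T₀) : T) = _
      rw [aeval_coe, h]
      rfl)
  refine ⟨fun i => y i, fun i => (y i).2, fun i => ?_, fun i => ?_⟩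
  · rw [← aeval_coe]
    have := hy i
    rw [eval_map] at this
    exact congrArg Subtype.val this
  · obtain ⟨a, ha⟩ := hyx i
    exact ⟨a, a.2, congrArg Subtype.val ha⟩

include hT in
theorem unique_sub (x y : Fin n → T) (hx : ∀ i, x i ∈ T₀) (hy : ∀ i, y i ∈ T₀)
    (hGx : ∀ i, aeval x (G i) = 0) (hGy : ∀ i, aeval y (G i) = 0)
    (hD : ∃ a ∈ T₀, aeval x ((Pres.jac G).det * D) =
      algebraMap B T t ^ M * (1 + algebraMap B T t * a))
    (hxy : ∀ i, ∃ a ∈ T₀, y i - x i = algebraMap B T t ^ (M + 1) * a) : y = x := by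
  have hH : HenselianRing T₀ (Ideal.span {algebraMap B T₀ t}) := Idem.henselian_of_integral t T₀
  have htf : ∀ c : T₀, algebraMap B T₀ t * c = 0 → c = 0 := by
    intro c hc
    apply Subtype.ext
    have h2 : algebraMap B T t * (c : T) = 0 := congrArg Subtype.val hc
    exact hT.mul_right_eq_zero.mp h2
  obtain ⟨L, hL⟩ := exists_left t T₀ G D M (fun i => (⟨x i, hx i⟩ : T₀)) hD hH.jac
  have hroot : ∀ (z : Fin n → T) (hz : ∀ i, z i ∈ T₀), (∀ i, aeval z (G i) = 0) →
      ∀ i, eval (fun i => (⟨z i, hz i⟩ : T₀)) (map (algebraMap B T₀) (G i)) = 0 := by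
    intro z hz h i
    apply Subtype.ext
    rw [eval_map]
    change ((aeval (fun i => (⟨z i, hz i⟩ : T₀)) (G i) : T₀) : T) = _
    rw [aeval_coe]
    exact h i
  have := Newton.eq_of_roots htf hH.jac (fun i => map (algebraMap B T₀) (G i))
    (fun i => (⟨x i, hx i⟩ : T₀)) (fun i => (⟨y i, hy i⟩ : T₀)) M L hL (hroot x hx hGx)
    (hroot y hy hGy) (by
      intro i
      obtain ⟨a, ha, h⟩ := hxy i
      exact ⟨⟨a, ha⟩, Subtype.ext h⟩)
  funext i
  exact congrArg Subtype.val (congrFun this i)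

end Sub

section Approx

variable {A B : Type u} [CommRing A] [CommRing B] {φ : A →+* B} {t : A}

theorem exists_monic (h : Cong φ t) (N : ℕ) (P : Polynomial B) (hP : P.Monic) :
    ∃ (P' : Polynomial A) (Q : Polynomial B), P'.Monic ∧
      P = P'.map φ + Polynomial.C (φ t ^ N) * Q := by
  choose a b hab using h.surj N
  have hs := hP.as_sum
  rw [Finset.sum_range] at hs
  refine ⟨Polynomial.X ^ P.natDegree +
      ∑ i : Fin P.natDegree, Polynomial.C (a (P.coeff i)) * Polynomial.X ^ (i : ℕ),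
    ∑ i : Fin P.natDegree, Polynomial.C (b (P.coeff i)) * Polynomial.X ^ (i : ℕ),
    Polynomial.monic_X_pow_add (Polynomial.degree_sum_fin_lt _), ?_⟩
  conv_lhs => rw [hs]
  rw [Polynomial.map_add, Polynomial.map_pow, Polynomial.map_X, Polynomial.map_sum,
    Finset.mul_sum, add_assoc, ← Finset.sum_add_distrib]
  congr 1
  refine Finset.sum_congr rfl fun i _ => ?_
  rw [Polynomial.map_mul, Polynomial.map_C, Polynomial.map_pow, Polynomial.map_X, ← mul_assoc,
    ← Polynomial.C_mul, ← add_mul, ← Polynomial.C_add, ← hab]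

theorem map_aeval_X (n : ℕ) (i : Fin n) (P : Polynomial A) :
    map φ (Polynomial.aeval (X i : MvPolynomial (Fin n) A) P) =
      Polynomial.aeval (X i : MvPolynomial (Fin n) B) (P.map φ) := by
  rw [Polynomial.aeval_def, Polynomial.hom_eval₂, Polynomial.aeval_def, Polynomial.eval₂_map, map_X]
  congr 1
  ext a : 1
  change map φ (C a) = C (φ a)
  rw [map_C]

theorem det_approx {n : ℕ} {G : Fin n → MvPolynomial (Fin n) B} {G' : Fin n → MvPolynomial (Fin n) A}
    {b : Fin n → MvPolynomial (Fin n) B} {D : MvPolynomial (Fin n) B} {D' : MvPolynomial (Fin n) A}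
    {d : MvPolynomial (Fin n) B} (c : B)
    (hG : ∀ i, G i = map φ (G' i) + C c * b i) (hD : D = map φ D' + C c * d) :
    ∃ e, (Pres.jac G).det * D = map φ ((Pres.jac G').det * D') + C c * e := by
  let J : Ideal (MvPolynomial (Fin n) B) := Ideal.span {C c}
  let q := Ideal.Quotient.mk J
  have hq : ∀ p, q (C c * p) = 0 := fun p =>
    Ideal.Quotient.eq_zero_iff_mem.mpr (Ideal.mul_mem_right _ _ (Ideal.mem_span_singleton_self _))
  have h1 : q (Pres.jac G).det = q (map φ (Pres.jac G').det) := by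
    rw [RingHom.map_det, RingHom.map_det, RingHom.map_det]
    congr 1
    ext i j : 1
    rw [RingHom.mapMatrix_apply, Matrix.map_apply, RingHom.mapMatrix_apply, Matrix.map_apply,
      RingHom.mapMatrix_apply, Matrix.map_apply]
    change q (pderiv j (G i)) = q (map φ (pderiv j (G' i)))
    rw [hG, map_add, pderiv_C_mul, map_add, hq, add_zero, pderiv_map]
  have h2 : q ((Pres.jac G).det * D) = q (map φ ((Pres.jac G').det * D')) := by
    rw [map_mul, h1, hD, map_add, hq, add_zero, map_mul (map φ), map_mul q]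
  rw [Ideal.Quotient.mk_eq_mk_iff_sub_mem, Ideal.mem_span_singleton] at h2
  obtain ⟨e, he⟩ := h2
  exact ⟨e, by rw [← he]; ring⟩

/-- Approximation of a square system. -/
theorem exists_approx (h : Cong φ t) {n : ℕ} (G : Fin n → MvPolynomial (Fin n) B)
    (D : MvPolynomial (Fin n) B) (M : ℕ)
    (hD : (Pres.jac G).det * D - C (φ t ^ M) ∈ Ideal.span (Set.range G)) (K : ℕ)
    (P : Fin n → Polynomial B) (hP : ∀ i, (P i).Monic)
    (hPK : ∀ i, C (φ t ^ K) * Polynomial.aeval (X i : MvPolynomial (Fin n) B) (P i) ∈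
      Ideal.span (Set.range G)) :
    ∃ (G' : Fin n → MvPolynomial (Fin n) A) (b : Fin n → MvPolynomial (Fin n) B)
      (D' w : MvPolynomial (Fin n) A) (P' : Fin n → Polynomial A)
      (a : Fin n → MvPolynomial (Fin n) A),
      (∀ i, G i = map φ (G' i) + C (φ t ^ (2 * M + (K + 1))) * b i) ∧
      (Pres.jac G').det * D' - C (t ^ M) * (1 + C t * w) ∈ Ideal.span (Set.range G') ∧
      (∀ i, (P' i).Monic) ∧
      (∀ i, C (t ^ K) * (Polynomial.aeval (X i : MvPolynomial (Fin n) A) (P' i) - C t * a i) ∈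
        Ideal.span (Set.range G')) := by
  have hm := h.mvPolynomial (Fin n)
  have hC : ∀ k : ℕ, map φ (C t : MvPolynomial (Fin n) A) ^ k = C (φ t ^ k) := fun k => by
    rw [map_C, C_pow]
  choose G' b hb using fun i => hm.surj (2 * M + (K + 1)) (G i)
  obtain ⟨D', d, hd⟩ := hm.surj (2 * M + (K + 1)) D
  choose P' Q hP' hQ using fun i => exists_monic h (2 * M + (K + 1)) (P i) (hP i)
  simp only [hC] at hb hd
  obtain ⟨e, he⟩ := det_approx (φ t ^ (2 * M + (K + 1))) hb hd
  obtain ⟨w, hw⟩ := hm.mem_span (2 * M + (K + 1)) G' G (fun i => ⟨b i, by rw [hC]; exact hb i⟩)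
    ((Pres.jac G').det * D' - C (t ^ M)) (-e) (by
      rw [hC, map_sub, map_C, map_pow]
      have : map φ ((Pres.jac G').det * D') - C (φ t ^ M) - C (φ t ^ (2 * M + (K + 1))) * -e =
          (Pres.jac G).det * D - C (φ t ^ M) := by rw [he]; ring
      rw [this]
      exact hD)
  choose a ha using fun i => hm.mem_span (2 * M + (K + 1)) G' G
    (fun i => ⟨b i, by rw [hC]; exact hb i⟩)
    (C (t ^ K) * Polynomial.aeval (X i : MvPolynomial (Fin n) A) (P' i))
    (-(C (φ t ^ K) * Polynomial.aeval (X i : MvPolynomial (Fin n) B) (Q i))) (by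
      rw [hC, map_mul, map_C, map_pow, map_aeval_X]
      have h1 : Polynomial.aeval (X i : MvPolynomial (Fin n) B) (P i) =
          Polynomial.aeval (X i : MvPolynomial (Fin n) B) ((P' i).map φ) +
            C (φ t ^ (2 * M + (K + 1))) * Polynomial.aeval (X i : MvPolynomial (Fin n) B) (Q i) := by
        conv_lhs => rw [hQ i]
        rw [map_add, map_mul, Polynomial.aeval_C]
        rfl
      have h2 : C (φ t ^ K) * Polynomial.aeval (X i : MvPolynomial (Fin n) B) ((P' i).map φ) -
          C (φ t ^ (2 * M + (K + 1))) *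
            -(C (φ t ^ K) * Polynomial.aeval (X i : MvPolynomial (Fin n) B) (Q i)) =
          C (φ t ^ K) * Polynomial.aeval (X i : MvPolynomial (Fin n) B) (P i) := by
        rw [h1]; ring
      rw [h2]
      exact hPK i)
  refine ⟨G', b, D', C (t ^ (M + K)) * w, P', fun i => C (t ^ (2 * M)) * a i, hb, ?_, hP', ?_⟩
  · convert hw using 1
    have : (2 * M + (K + 1)) = M + 1 + (M + K) := by ring
    rw [this, ← C_pow, pow_add t (M + 1), pow_succ t M, C_mul, C_mul]
    ring
  · intro i
    convert ha i using 1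
    have : (2 * M + (K + 1)) = K + 1 + 2 * M := by ring
    rw [this, ← C_pow, pow_add t (K + 1), pow_succ t K, C_mul, C_mul]
    ring

end Approx

theorem exists_algHom {R P E T : Type*} [CommRing R] [CommRing P] [CommRing E] [CommRing T]
    [Algebra R P] [Algebra R E] [Algebra R T] (f : P →ₐ[R] E) (hf : Function.Surjective f)
    (g : P →ₐ[R] T) (h : ∀ p, f p = 0 → g p = 0) : ∃ φ : E →ₐ[R] T, ∀ p, φ (f p) = g p := by
  let e := Ideal.quotientKerAlgEquivOfSurjective hf
  let k : (P ⧸ RingHom.ker f) →ₐ[R] T := Ideal.Quotient.liftₐ _ g (fun a ha => h a ha)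
  refine ⟨k.comp e.symm.toAlgHom, fun p => ?_⟩
  have h1 : e.symm (f p) = Ideal.Quotient.mk _ p := by
    rw [AlgEquiv.symm_apply_eq]
    rfl
  change k (e.symm (f p)) = g p
  rw [h1]
  rfl

end K141.Descend
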