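import Groth.Agent.Hensel.K141.FEtDescend

/-!
# Descent of finite étale algebras from `B[1/t]` to `A[1/t]`, main theorem
-/

set_option autoImplicit false
universe u v w

open TensorProduct MvPolynomial

namespace K141.Descend

theorem exists_dvd_of_mem_span {B T : Type*} [CommRing B] [CommRing T] [Algebra B T]
    (T₀ : Subalgebra B T) (c : T) {n : ℕ} (x : Fin n → T) (hx : ∀ i, x i ∈ T₀)
    (G : Fin n → MvPolynomial (Fin n) B) (hG : ∀ i, ∃ a ∈ T₀, aeval x (G i) = c * a)
    (p : MvPolynomial (Fin n) B) (hp : p ∈ Ideal.span (Set.range G)) :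
    ∃ a ∈ T₀, aeval x p = c * a := by
  obtain ⟨d, rfl⟩ := (Ideal.mem_span_range_iff_exists_fun).mp hp
  choose a ha h using hG
  refine ⟨∑ i, aeval x (d i) * a i, sum_mem fun i _ => T₀.mul_mem ?_ (ha i), ?_⟩
  · have : aeval x (d i) = T₀.val (aeval (fun i => (⟨x i, hx i⟩ : T₀)) (d i)) := by
      rw [← AlgHom.comp_apply, comp_aeval]
      rfl
    rw [this]
    exact Subtype.prop _
  · rw [map_sum, Finset.mul_sum]
    refine Finset.sum_congr rfl fun i _ => ?_
    rw [map_mul, h i]
    ring

variable {A B R R' : Type u} [CommRing A] [CommRing B] [CommRing R] [CommRing R']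
  [Algebra A B] [Algebra A R] [Algebra B R'] [Algebra R R'] [Algebra A R'] [IsScalarTower A B R']
  [IsScalarTower A R R'] (t : A) [IsLocalization.Away t R]
  [IsLocalization.Away (algebraMap A B t) R'] [HenselianRing A (Ideal.span {t})]
  [HenselianRing B (Ideal.span {algebraMap A B t})]

theorem exists_descent (h : Cong (algebraMap A B) t) (E : Type u) [CommRing E] [Algebra R' E]
    [Module.Finite R' E] [Algebra.Etale R' E] :
    ∃ (F : Type u) (_ : CommRing F) (_ : Algebra R F) (_ : Module.Finite R F)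
      (_ : Algebra.Etale R F), Nonempty (R' ⊗[R] F ≃ₐ[R'] E) := by
  classical
  letI : Algebra B E := ((algebraMap R' E).comp (algebraMap B R')).toAlgebra
  have tBE : IsScalarTower B R' E := IsScalarTower.of_algebraMap_eq fun _ => rfl
  letI : Algebra R E := ((algebraMap R' E).comp (algebraMap R R')).toAlgebra
  have tRE : IsScalarTower R R' E := IsScalarTower.of_algebraMap_eq fun _ => rfl
  letI : Algebra A E := ((algebraMap R' E).comp (algebraMap A R')).toAlgebra
  have tAE : IsScalarTower A R' E := IsScalarTower.of_algebraMap_eq fun _ => rfl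
  have tABE : IsScalarTower A B E := IsScalarTower.of_algebraMap_eq fun a => by
    change algebraMap R' E (algebraMap A R' a) = algebraMap R' E (algebraMap B R' (algebraMap A B a))
    rw [← IsScalarTower.algebraMap_apply A B R']
  have tARE : IsScalarTower A R E := IsScalarTower.of_algebraMap_eq fun a => by
    change algebraMap R' E (algebraMap A R' a) = algebraMap R' E (algebraMap R R' (algebraMap A R a))
    rw [← IsScalarTower.algebraMap_apply A R R']
  set β : B := algebraMap A B t with hβ
  obtain ⟨n, x, G, D, M, hint, hsurj, hGx, hker, hdet⟩ := Pres.exists_data B R' E β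
  choose P hPm hPx using hint
  have hPX : ∀ i, aeval x (Polynomial.aeval (X i : MvPolynomial (Fin n) B) (P i)) = 0 := by
    intro i
    rw [← Polynomial.aeval_algHom_apply, aeval_X]
    exact hPx i
  choose k hk using fun i => hker _ (hPX i)
  let K := ∑ i, k i
  have hPK : ∀ i, C (β ^ K) * Polynomial.aeval (X i : MvPolynomial (Fin n) B) (P i) ∈
      Ideal.span (Set.range G) := by
    intro i
    have hle : k i ≤ K := Finset.single_le_sum (f := k) (fun _ _ => Nat.zero_le _)
      (Finset.mem_univ i)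
    have e1 : C (β ^ K) * Polynomial.aeval (X i : MvPolynomial (Fin n) B) (P i) =
        C (β ^ (K - k i)) * (C (β ^ k i) * Polynomial.aeval (X i : MvPolynomial (Fin n) B) (P i)) := by
      rw [← mul_assoc, ← C_mul, ← pow_add, Nat.sub_add_cancel hle]
    rw [e1]
    exact Ideal.mul_mem_left _ _ (hk i)
  obtain ⟨G', b, D', w, P', a, hGb, hD', hP', hPa'⟩ := exists_approx h G D M hdet K P hPm hPK
  obtain ⟨F, _, _, _, _, x', hF⟩ := Split.exists_finite_etale (R := R) t G' D' w M hD' K P' hP' a hPa'
  have := hF.finite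
  have := hF.etale
  refine ⟨F, inferInstance, inferInstance, hF.finite, hF.etale, ?_⟩
  -- the base change
  let T := R' ⊗[R] F
  have tBT : IsScalarTower B R' T := inferInstance
  have tABT : IsScalarTower A B T := IsScalarTower.of_algebraMap_eq fun a => by
    change (algebraMap A R' a) ⊗ₜ[R] (1 : F) = (algebraMap B R' (algebraMap A B a)) ⊗ₜ[R] (1 : F)
    rw [← IsScalarTower.algebraMap_apply A B R']
  let iF : F →ₐ[A] T := (Algebra.TensorProduct.includeRight : F →ₐ[R] R' ⊗[R] F).restrictScalars A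
  let xT : Fin n → T := fun i => iF (x' i)
  have hβR' : IsUnit (algebraMap B R' β) := IsLocalization.Away.algebraMap_isUnit β
  have hβT : IsUnit (algebraMap B T β) := hβR'.map (algebraMap R' T)
  have hβE : IsUnit (algebraMap B E β) := hβR'.map (algebraMap R' E)
  -- evaluation of polynomials over `A`
  have hmapA : ∀ (Y : Type u) [CommRing Y] [Algebra A Y] [Algebra B Y] [IsScalarTower A B Y]
      (y : Fin n → Y) (p : MvPolynomial (Fin n) A),
      aeval y (map (algebraMap A B) p) = aeval y p := fun Y _ _ _ _ y p =>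
    aeval_map_algebraMap B y p
  have hxT : ∀ p : MvPolynomial (Fin n) A, aeval xT p = iF (aeval x' p) := by
    intro p
    rw [← AlgHom.comp_apply, comp_aeval]
  have hG'T : ∀ i, aeval xT (map (algebraMap A B) (G' i)) = 0 := by
    intro i
    rw [hmapA, hxT, hF.eval, map_zero]
  -- the subalgebras
  let T₀ : Subalgebra B T := Algebra.adjoin B (Set.range xT)
  let E₀ : Subalgebra B E := Algebra.adjoin B (Set.range x)
  have hxT₀ : ∀ i, xT i ∈ T₀ := fun i => Algebra.subset_adjoin ⟨i, rfl⟩
  have hxE₀ : ∀ i, x i ∈ E₀ := fun i => Algebra.subset_adjoin ⟨i, rfl⟩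
  have hT₀int : Algebra.IsIntegral B T₀ := Algebra.IsIntegral.adjoin (by
    rintro _ ⟨i, rfl⟩
    exact ((hF.integral i).map iF).tower_top)
  have hE₀int : Algebra.IsIntegral B E₀ := Algebra.IsIntegral.adjoin (by
    rintro _ ⟨i, rfl⟩
    exact ⟨P i, hPm i, hPx i⟩)
  -- Newton in `T`
  set τT : T := algebraMap B T β with hτT
  set τE : E := algebraMap B E β with hτE
  have hGT : ∀ i, ∃ a ∈ T₀, aeval xT (G i) = τT ^ (2 * M + (K + 1)) * a := by
    intro i
    refine ⟨aeval xT (b i), aeval_mem T₀ xT hxT₀ _, ?_⟩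
    rw [hGb, map_add, hG'T, zero_add, map_mul, aeval_C, map_pow]
  have hDT : ∃ a ∈ T₀, aeval xT ((Pres.jac G).det * D) = τT ^ M * (1 + τT * a) := by
    obtain ⟨a, ha, h1⟩ := exists_dvd_of_mem_span T₀ _ xT hxT₀ G hGT _ hdet
    refine ⟨τT ^ (M + K) * a, T₀.mul_mem (T₀.pow_mem (T₀.algebraMap_mem β) _) ha, ?_⟩
    rw [map_sub, aeval_C, map_pow, sub_eq_iff_eq_add] at h1
    rw [h1]
    ring
  obtain ⟨y, hy₀, hGy, hyx⟩ := newton_sub β hβT T₀ G D M (K + 1) (by omega) xT hxT₀ hGT hDT
  -- Newton in `E`
  have hG'E : ∀ i, ∃ a ∈ E₀, aeval x (map (algebraMap A B) (G' i)) =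
      τE ^ (2 * M + (K + 1)) * a := by
    intro i
    refine ⟨-aeval x (b i), E₀.neg_mem (aeval_mem E₀ x hxE₀ _), ?_⟩
    have h1 := congrArg (aeval x) (hGb i)
    rw [hGx, map_add, map_mul, aeval_C, map_pow] at h1
    linear_combination -h1
  have hjacmap : (Pres.jac fun i => map (algebraMap A B) (G' i)).det =
      map (algebraMap A B) (Pres.jac G').det := by
    rw [RingHom.map_det]
    congr 1
    ext i j : 1
    exact pderiv_map
  have hD'B : (Pres.jac fun i => map (algebraMap A B) (G' i)).det * map (algebraMap A B) D' -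
      C (β ^ M) * (1 + C β * map (algebraMap A B) w) ∈
        Ideal.span (Set.range fun i => map (algebraMap A B) (G' i)) := by
    have h1 := Ideal.mem_map_of_mem (map (algebraMap A B)) hD'
    rw [Ideal.map_span, ← Set.range_comp] at h1
    rw [hjacmap]
    simp only [map_sub, map_mul, map_add, map_one, map_C, map_pow] at h1 ⊢
    exact h1
  have hevD : ∀ (Y : Type u) [CommRing Y] [Algebra B Y] (y : Fin n → Y),
      aeval y (C (β ^ M) * (1 + C β * map (algebraMap A B) w)) =
        algebraMap B Y β ^ M * (1 + algebraMap B Y β * aeval y (map (algebraMap A B) w)) := by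
    intro Y _ _ y
    rw [map_mul, map_add, map_mul, map_one, aeval_C, aeval_C, map_pow]
  have hD'E : ∃ a ∈ E₀, aeval x ((Pres.jac fun i => map (algebraMap A B) (G' i)).det *
      map (algebraMap A B) D') = τE ^ M * (1 + τE * a) := by
    obtain ⟨a, ha, h1⟩ := exists_dvd_of_mem_span E₀ _ x hxE₀ _ hG'E _ hD'B
    refine ⟨aeval x (map (algebraMap A B) w) + τE ^ (M + K) * a,
      E₀.add_mem (aeval_mem E₀ x hxE₀ _)
        (E₀.mul_mem (E₀.pow_mem (E₀.algebraMap_mem β) _) ha), ?_⟩
    rw [map_sub, hevD, sub_eq_iff_eq_add] at h1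
    rw [h1]
    ring
  obtain ⟨y', hy'₀, hG'y', hy'x⟩ := newton_sub β hβE E₀ (fun i => map (algebraMap A B) (G' i))
    (map (algebraMap A B) D') M (K + 1) (by omega) x hxE₀ hG'E hD'E
  -- the map `E → T`
  obtain ⟨f, hf⟩ : ∃ f : E →ₐ[R'] T, ∀ p, f (aeval x p) = aeval y p := by
    refine exists_algHom (aeval x) hsurj (aeval y) ?_
    intro p hp
    obtain ⟨k, q, hq⟩ := Pres.exists_clear β p
    have hq0 : aeval x q = 0 := by
      rw [← aeval_map_algebraMap R' x q, hq, map_mul, hp, mul_zero]
    obtain ⟨m, hm⟩ := hker q hq0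
    have h1 : aeval y (C (β ^ m) * q) = 0 := by
      have : Ideal.span (Set.range G) ≤ RingHom.ker (aeval (R := B) y) := by
        rw [Ideal.span_le]
        rintro _ ⟨i, rfl⟩
        exact hGy i
      exact this hm
    rw [map_mul, aeval_C, map_pow] at h1
    have h2 := (hβT.pow m).mul_right_eq_zero.mp h1
    rw [← aeval_map_algebraMap R' y q, hq, map_mul, aeval_C, map_pow,
      ← IsScalarTower.algebraMap_apply] at h2
    exact (hβT.pow k).mul_right_eq_zero.mp h2
  -- the map `T → E`
  have hE₀jac : ∀ a ∈ E₀, ∃ b ∈ E₀, (1 + algebraMap A E t * a) * b = 1 := by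
    intro a ha
    have hH : HenselianRing E₀ (Ideal.span {algebraMap B E₀ β}) := Idem.henselian_of_integral β E₀
    obtain ⟨b, hb⟩ := (Idem.isUnit_one_add hH.jac (⟨a, ha⟩ : E₀)).exists_right_inv
    refine ⟨b, b.2, ?_⟩
    have h1 := congrArg Subtype.val hb
    rw [IsScalarTower.algebraMap_apply A B E]
    exact h1
  obtain ⟨g₀, hg₀⟩ := hF.lift E (E₀.restrictScalars A) hE₀jac y' hy'₀
    (fun i => by rw [← hmapA]; exact hG'y' i)
  let g : T →ₐ[R'] E := Algebra.TensorProduct.lift (Algebra.ofId R' E) g₀ (fun _ _ => Commute.all _ _)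
  have hg : ∀ i, g (xT i) = y' i := by
    intro i
    change g ((1 : R') ⊗ₜ[R] (x' i)) = y' i
    rw [Algebra.TensorProduct.lift_tmul, map_one, one_mul, hg₀]
  have hfx : ∀ i, f (x i) = y i := by
    intro i
    have := hf (X i)
    rwa [aeval_X, aeval_X] at this
  let fB : E →ₐ[B] T := f.restrictScalars B
  let gB : T →ₐ[B] E := g.restrictScalars B
  have hfE₀ : ∀ e ∈ E₀, f e ∈ T₀ := by
    have : E₀ ≤ T₀.comap fB := by
      refine Algebra.adjoin_le ?_
      rintro _ ⟨i, rfl⟩
      change f (x i) ∈ T₀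
      rw [hfx]
      exact hy₀ i
    exact fun e he => this he
  have hgT₀ : ∀ e ∈ T₀, g e ∈ E₀ := by
    have : T₀ ≤ E₀.comap gB := by
      refine Algebra.adjoin_le ?_
      rintro _ ⟨i, rfl⟩
      change g (xT i) ∈ E₀
      rw [hg]
      exact hy'₀ i
    exact fun e he => this he
  have hfτ : f τE = τT := fB.commutes β
  have hgτ : g τT = τE := gB.commutes β
  -- `g ∘ f = id`
  have hgf : (fun i => g (y i)) = x := by
    refine unique_sub β hβE E₀ G D M x (fun i => g (y i)) hxE₀ (fun i => hgT₀ _ (hy₀ i)) hGx ?_ ?_ ?_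
    · intro i
      have h1 : aeval (fun i => g (y i)) (G i) = gB (aeval y (G i)) := by
        rw [← AlgHom.comp_apply, comp_aeval]
        rfl
      rw [h1, hGy, map_zero]
    · refine ⟨0, E₀.zero_mem, ?_⟩
      have h1 : aeval x ((Pres.jac G).det * D - C (β ^ M)) = 0 := by
        have : Ideal.span (Set.range G) ≤ RingHom.ker (aeval (R := B) x) := by
          rw [Ideal.span_le]
          rintro _ ⟨i, rfl⟩
          exact hGx i
        exact this hdet
      rw [map_sub, aeval_C, map_pow, sub_eq_zero] at h1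
      rw [h1, mul_zero, add_zero, mul_one]
    · intro i
      obtain ⟨a, ha, h1⟩ := hyx i
      obtain ⟨a', ha', h2⟩ := hy'x i
      refine ⟨τE ^ K * (g a + a'), E₀.mul_mem (E₀.pow_mem (E₀.algebraMap_mem β) _)
        (E₀.add_mem (hgT₀ a ha) ha'), ?_⟩
      have h3 : g (y i) - y' i = τE ^ (M + (K + 1)) * g a := by
        rw [← hg i, ← map_sub, h1, map_mul, map_pow, hgτ]
      have h4 : (M + (K + 1)) = M + 1 + K := by ring
      rw [h4] at h2 h3
      change g (y i) - x i = τE ^ (M + 1) * (τE ^ K * (g a + a'))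
      rw [pow_add] at h2 h3
      linear_combination h2 + h3
  -- `f ∘ g = id`
  have hfg : (fun i => f (y' i)) = xT := by
    refine unique_sub β hβT T₀ (fun i => map (algebraMap A B) (G' i)) (map (algebraMap A B) D') M xT
      (fun i => f (y' i)) hxT₀ (fun i => hfE₀ _ (hy'₀ i)) hG'T ?_ ?_ ?_
    · intro i
      have h1 : aeval (fun i => f (y' i)) (map (algebraMap A B) (G' i)) =
          fB (aeval y' (map (algebraMap A B) (G' i))) := by
        rw [← AlgHom.comp_apply, comp_aeval]
        rfl
      rw [h1, hG'y', map_zero]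
    · refine ⟨aeval xT (map (algebraMap A B) w), aeval_mem T₀ xT hxT₀ _, ?_⟩
      have h1 : aeval xT ((Pres.jac fun i => map (algebraMap A B) (G' i)).det *
          map (algebraMap A B) D' - C (β ^ M) * (1 + C β * map (algebraMap A B) w)) = 0 := by
        have : Ideal.span (Set.range fun i => map (algebraMap A B) (G' i)) ≤
            RingHom.ker (aeval (R := B) xT) := by
          rw [Ideal.span_le]
          rintro _ ⟨i, rfl⟩
          exact hG'T i
        exact this hD'B
      rw [map_sub, sub_eq_zero, hevD] at h1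
      exact h1
    · intro i
      obtain ⟨a, ha, h1⟩ := hyx i
      obtain ⟨a', ha', h2⟩ := hy'x i
      refine ⟨τT ^ K * (f a' + a), T₀.mul_mem (T₀.pow_mem (T₀.algebraMap_mem β) _)
        (T₀.add_mem (hfE₀ a' ha') ha), ?_⟩
      have h3 : f (y' i) - y i = τT ^ (M + (K + 1)) * f a' := by
        rw [← hfx i, ← map_sub, h2, map_mul, map_pow, hfτ]
      have h4 : (M + (K + 1)) = M + 1 + K := by ring
      rw [h4] at h1 h3
      change f (y' i) - xT i = τT ^ (M + 1) * (τT ^ K * (f a' + a))
      rw [pow_add] at h1 h3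
      linear_combination h1 + h3
  refine ⟨AlgEquiv.ofAlgHom g f ?_ ?_⟩
  · apply AlgHom.ext
    intro e
    obtain ⟨p, rfl⟩ := hsurj e
    have h1 : (g.comp f).comp (aeval x) = aeval (R := R') x := by
      rw [comp_aeval]
      congr 1
      funext i
      change g (f (x i)) = x i
      rw [hfx]
      exact congrFun hgf i
    exact DFunLike.congr_fun h1 p
  · refine Algebra.TensorProduct.ext (by ext) ?_
    refine AlgHom.ext_of_adjoin_eq_top hF.adjoin ?_
    rintro _ ⟨i, rfl⟩
    change f (g (xT i)) = xT i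
    rw [hg]
    exact congrFun hfg i

end K141.Descend
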