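import Groth.Agent.CAlg.K88.Taylor
import Groth.Agent.Hensel.MvHensel
import Groth.Agent.CalgB.HensPair

/-!
# Newton's lemma for square systems along one element

`(S, tS)` henselian, `t` a nonzerodivisor, `F` a square system with `L J_F(x) = t^M`.
* `exists_root`: if `t^(2M+s) ∣ F(x)`, `s ≥ 1`, there is a root `y ≡ x mod t^(M+s)`.
* `eq_of_roots`: roots which are congruent modulo `t^(M+1)` are equal.
-/

set_option autoImplicit false
universe u v

open MvPolynomial

namespace K141.Newton

variable {S : Type u} [CommRing S] {ι : Type} [Fintype ι] [DecidableEq ι]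

/-- The Jacobian matrix at a point; rows are the equations. -/
noncomputable def jacAt (F : ι → MvPolynomial ι S) (x : ι → S) : Matrix ι ι S :=
  Matrix.of fun i j => eval x (pderiv j (F i))

theorem pow_mul_cancel {t : S} (ht : ∀ a, t * a = 0 → a = 0) (n : ℕ) {a b : S}
    (h : t ^ n * a = t ^ n * b) : a = b := by
  induction n with
  | zero => simpa using h
  | succ n ih =>
    apply ih
    rw [← sub_eq_zero, ← mul_sub]
    apply ht
    rw [← mul_assoc, ← pow_succ', mul_sub, h, sub_self]

/-- A left inverse up to `t^M` from a relation `det J(x) d = t^M u`. -/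
theorem exists_left_inverse (F : ι → MvPolynomial ι S) (x : ι → S) (d T u : S)
    (h : (jacAt F x).det * d = T * u) (hu : IsUnit u) :
    ∃ L : Matrix ι ι S, L * jacAt F x = T • (1 : Matrix ι ι S) := by
  obtain ⟨u, rfl⟩ := hu
  refine ⟨(((u⁻¹ : Sˣ) : S) * d) • (jacAt F x).adjugate, ?_⟩
  rw [Matrix.smul_mul, Matrix.adjugate_mul, smul_smul]
  congr 1
  calc ((u⁻¹ : Sˣ) : S) * d * (jacAt F x).det = ((u⁻¹ : Sˣ) : S) * ((jacAt F x).det * d) := by ring
    _ = ((u⁻¹ : Sˣ) : S) * (T * u) := by rw [h]
    _ = T * (((u⁻¹ : Sˣ) : S) * u) := by ring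
    _ = T := by rw [Units.inv_mul, mul_one]

theorem taylor_eval (F : MvPolynomial ι S) (x : ι → S) (u : S) :
    ∃ r : MvPolynomial ι S, ∀ z : ι → S, eval (fun k => x k + u * z k) F =
      eval x F + u * (∑ k, z k * eval x (pderiv k F)) + u ^ 2 * eval z r := by
  obtain ⟨r, -, hr⟩ := K88.Taylor.taylor_two (A := S) (S := MvPolynomial ι S) ⊤
    (fun k => C (x k)) (fun k => X k) (C u) (fun k => trivial) F
  refine ⟨r, fun z => ?_⟩
  have h1 := congrArg (eval z) hr
  have h2 : ∀ p : MvPolynomial ι S, eval z (aeval (fun k => (C (x k) : MvPolynomial ι S)) p) =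
      eval x p := by
    intro p
    have : (eval z).comp (aeval (fun k => (C (x k) : MvPolynomial ι S)) : _ →ₐ[S] _).toRingHom =
        eval x := by
      apply MvPolynomial.ringHom_ext
      · intro a; simp
      · intro k; simp
    exact DFunLike.congr_fun this p
  have h3 : ∀ p : MvPolynomial ι S, eval z (aeval (fun k => (C (x k) + C u * X k :
      MvPolynomial ι S)) p) = eval (fun k => x k + u * z k) p := by
    intro p
    have : (eval z).comp (aeval (fun k => (C (x k) + C u * X k : MvPolynomial ι S)) :
        _ →ₐ[S] _).toRingHom = eval (fun k => x k + u * z k) := by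
      apply MvPolynomial.ringHom_ext
      · intro a; simp
      · intro k; simp
    exact DFunLike.congr_fun this p
  rw [h3] at h1
  rw [h1]
  simp only [map_add, map_mul, map_sum, map_pow, eval_C, eval_X, h2]

/-- Existence of roots. -/
theorem exists_root {t : S} (ht : ∀ a, t * a = 0 → a = 0) [HenselianRing S (Ideal.span {t})]
    (F : ι → MvPolynomial ι S) (x : ι → S) (M s : ℕ) (hs : 1 ≤ s) (L : Matrix ι ι S)
    (hL : L * jacAt F x = t ^ M • (1 : Matrix ι ι S)) (hF : ∀ i, t ^ (2 * M + s) ∣ eval x (F i)) :
    ∃ y : ι → S, (∀ i, eval y (F i) = 0) ∧ ∀ i, t ^ (M + s) ∣ y i - x i := by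
  choose c hc using hF
  choose r hr using fun i => taylor_eval (F i) x (t ^ (M + s))
  have hL' : ∀ i k, ∑ j, L i j * eval x (pderiv k (F j)) = if i = k then t ^ M else 0 := by
    intro i k
    have := congrFun (congrFun hL i) k
    rw [Matrix.mul_apply, Matrix.smul_apply, Matrix.one_apply, smul_eq_mul, mul_ite, mul_one,
      mul_zero] at this
    exact this
  let G : ι → MvPolynomial ι S := fun i =>
    C (∑ j, L i j * c j) + X i + C (t ^ s) * ∑ j, C (L i j) * r j
  have hG : ∀ (z : ι → S) (i : ι), ∑ j, L i j * eval (fun k => x k + t ^ (M + s) * z k) (F j) =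
      t ^ (2 * M + s) * eval z (G i) := by
    intro z i
    have e1 : ∀ j, L i j * eval (fun k => x k + t ^ (M + s) * z k) (F j) =
        t ^ (2 * M + s) * (L i j * c j) +
          t ^ (M + s) * (∑ k, z k * (L i j * eval x (pderiv k (F j)))) +
          t ^ (2 * M + s) * (t ^ s * (L i j * eval z (r j))) := by
      intro j
      rw [hr j z, hc j]
      have : ∑ k, z k * (L i j * eval x (pderiv k (F j))) =
          L i j * ∑ k, z k * eval x (pderiv k (F j)) := by
        rw [Finset.mul_sum]
        exact Finset.sum_congr rfl fun k _ => by ring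
      rw [this]
      ring
    rw [Finset.sum_congr rfl fun j _ => e1 j, Finset.sum_add_distrib, Finset.sum_add_distrib,
      ← Finset.mul_sum, ← Finset.mul_sum, ← Finset.mul_sum, ← Finset.mul_sum, Finset.sum_comm]
    have e2 : ∑ k, ∑ j, z k * (L i j * eval x (pderiv k (F j))) = t ^ M * z i := by
      have : ∀ k, ∑ j, z k * (L i j * eval x (pderiv k (F j))) =
          if i = k then t ^ M * z k else 0 := by
        intro k
        rw [← Finset.mul_sum, hL' i k]
        split_ifs <;> ring
      rw [Finset.sum_congr rfl fun k _ => this k]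
      simp
    rw [e2]
    simp only [G, map_add, map_mul, map_sum, eval_C, eval_X]
    ring
  -- Hensel
  obtain ⟨z, hz, -⟩ := Groth.Agent.Hensel.MvHensel.exists_root (I := Ideal.span {t}) G
    (fun i => -∑ j, L i j * c j) (by
      intro i
      rw [Ideal.mem_span_singleton]
      simp only [G, map_add, map_mul, map_sum, eval_C, eval_X, add_neg_cancel, zero_add]
      exact Dvd.dvd.mul_right (dvd_pow_self t (by omega)) _) (by
      have : (Ideal.Quotient.mk (Ideal.span {t})).mapMatrix
          ((eval (fun i => -∑ j, L i j * c j)).mapMatrix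
            (Groth.Agent.Hensel.MvHensel.jac G)) = 1 := by
        ext i k
        rw [RingHom.mapMatrix_apply, RingHom.mapMatrix_apply, Matrix.map_apply, Matrix.map_apply]
        have e3 : Groth.Agent.Hensel.MvHensel.jac G i k =
            (if i = k then 1 else 0) + C (t ^ s) * pderiv i (∑ j, C (L k j) * r j) := by
          change pderiv i (G k) = _
          simp only [G]
          rw [map_add, map_add, pderiv_C, zero_add, pderiv_X, pderiv_C_mul]
          congr 1
          rw [Pi.single_apply]
          by_cases hik : i = k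
          · rw [if_pos hik, if_pos hik.symm]
          · rw [if_neg hik, if_neg (Ne.symm hik)]
        rw [e3, map_add, map_mul, eval_C, map_add, map_mul]
        have e4 : Ideal.Quotient.mk (Ideal.span {t}) (t ^ s) = 0 := by
          rw [Ideal.Quotient.eq_zero_iff_mem, Ideal.mem_span_singleton]
          exact dvd_pow_self t (by omega)
        rw [e4, zero_mul, add_zero, Matrix.one_apply]
        split_ifs <;> simp
      rw [RingHom.map_det, RingHom.map_det, this, Matrix.det_one]
      exact isUnit_one)
  refine ⟨fun k => x k + t ^ (M + s) * z k, fun i => ?_, fun i => ⟨z i, by ring⟩⟩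
  -- `L F(y) = 0` gives `F(y) = 0`
  have h0 : L.mulVec (fun j => eval (fun k => x k + t ^ (M + s) * z k) (F j)) = 0 := by
    funext i
    rw [Matrix.mulVec, dotProduct, hG z i, hz i, mul_zero, Pi.zero_apply]
  have h1 : L.det * (jacAt F x).det = t ^ (M * Fintype.card ι) := by
    rw [← Matrix.det_mul, hL, Matrix.det_smul, Matrix.det_one, mul_one, ← pow_mul]
  have h2 : L.det • (fun j => eval (fun k => x k + t ^ (M + s) * z k) (F j)) = 0 := by
    have := congrArg (L.adjugate.mulVec) h0
    rw [Matrix.mulVec_mulVec, Matrix.adjugate_mul, Matrix.mulVec_zero, Matrix.smul_mulVec,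
      Matrix.one_mulVec] at this
    exact this
  have h3 : L.det * eval (fun k => x k + t ^ (M + s) * z k) (F i) = 0 := congrFun h2 i
  apply pow_mul_cancel ht (M * Fintype.card ι)
  rw [mul_zero, ← h1, mul_comm L.det, mul_assoc, h3, mul_zero]

/-- Uniqueness of roots. -/
theorem eq_of_roots {t : S} (ht : ∀ a, t * a = 0 → a = 0)
    (hjac : Ideal.span {t} ≤ Ideal.jacobson (⊥ : Ideal S))
    (F : ι → MvPolynomial ι S) (x y : ι → S) (M : ℕ) (L : Matrix ι ι S)
    (hL : L * jacAt F x = t ^ M • (1 : Matrix ι ι S)) (hx : ∀ i, eval x (F i) = 0)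
    (hy : ∀ i, eval y (F i) = 0) (hxy : ∀ i, t ^ (M + 1) ∣ y i - x i) : y = x := by
  have hL' : ∀ i k, ∑ j, L i j * eval x (pderiv k (F j)) = if i = k then t ^ M else 0 := by
    intro i k
    have := congrFun (congrFun hL i) k
    rw [Matrix.mul_apply, Matrix.smul_apply, Matrix.one_apply, smul_eq_mul, mul_ite, mul_one,
      mul_zero] at this
    exact this
  let I : Ideal S := Ideal.span (Set.range fun i => y i - x i)
  have hmem : ∀ k, y k - x k ∈ I := fun k => Ideal.subset_span ⟨k, rfl⟩
  have hI1 : ∀ a ∈ I, t ^ (M + 1) ∣ a := by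
    intro a ha
    have : I ≤ Ideal.span {t ^ (M + 1)} := by
      rw [Ideal.span_le]
      rintro _ ⟨i, rfl⟩
      exact Ideal.mem_span_singleton.mpr (hxy i)
    exact Ideal.mem_span_singleton.mp (this ha)
  have hI2 : ∀ a ∈ I ^ 2, ∃ b ∈ I, a = t ^ (M + 1) * b := by
    intro a ha
    rw [pow_two] at ha
    refine Submodule.mul_induction_on ha ?_ ?_
    · intro m hm n hn
      obtain ⟨m', rfl⟩ := hI1 m hm
      exact ⟨m' * n, Ideal.mul_mem_left _ _ hn, by ring⟩
    · rintro m n ⟨m', hm', rfl⟩ ⟨n', hn', rfl⟩
      exact ⟨m' + n', Ideal.add_mem _ hm' hn', by ring⟩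
  have hrel : ∀ j, ∃ r ∈ I ^ 2, ∑ k, (y k - x k) * eval x (pderiv k (F j)) = -r := by
    intro j
    obtain ⟨r, hr, h⟩ := K88.Taylor.taylor_two (A := S) (S := S) I x (fun k => y k - x k) 1 hmem
      (F j)
    refine ⟨r, hr, ?_⟩
    have e : (fun k => x k + 1 * (y k - x k)) = y := by funext k; ring
    simp only [aeval_eq_eval] at h
    have h' : eval y (F j) = eval x (F j) +
        1 * (∑ k, (y k - x k) * eval x (pderiv k (F j))) + 1 ^ 2 * r := by
      rw [← h]
      exact congrArg (fun f => eval f (F j)) e.symm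
    rw [hx, hy] at h'
    linear_combination -h'
  choose r hr hrel using hrel
  have key : ∀ i, ∃ b ∈ I, y i - x i = t * b := by
    intro i
    have e1 : t ^ M * (y i - x i) = -∑ j, L i j * r j := by
      have e2 : ∑ j, L i j * ∑ k, (y k - x k) * eval x (pderiv k (F j)) =
          t ^ M * (y i - x i) := by
        simp only [Finset.mul_sum]
        rw [Finset.sum_comm]
        have : ∀ k, ∑ j, L i j * ((y k - x k) * eval x (pderiv k (F j))) =
            if i = k then t ^ M * (y k - x k) else 0 := by
          intro k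
          have e5 : ∑ j, L i j * ((y k - x k) * eval x (pderiv k (F j))) =
              (y k - x k) * ∑ j, L i j * eval x (pderiv k (F j)) := by
            rw [Finset.mul_sum]
            exact Finset.sum_congr rfl fun j _ => by ring
          rw [e5, hL' i k]
          split_ifs <;> ring
        rw [Finset.sum_congr rfl fun k _ => this k]
        simp
      rw [← e2, ← Finset.sum_neg_distrib]
      exact Finset.sum_congr rfl fun j _ => by rw [hrel j, mul_neg]
    obtain ⟨b, hb, hb'⟩ := hI2 (-∑ j, L i j * r j)
      (neg_mem (Submodule.sum_mem _ fun j _ => Ideal.mul_mem_left _ _ (hr j)))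
    refine ⟨b, hb, pow_mul_cancel ht M ?_⟩
    rw [e1, hb', pow_succ, mul_assoc]
  have hle : I ≤ Ideal.span {t} • I := by
    rw [Submodule.span_le]
    rintro _ ⟨i, rfl⟩
    obtain ⟨b, hb, h⟩ := key i
    rw [SetLike.mem_coe]
    change y i - x i ∈ _
    rw [h]
    exact Submodule.smul_mem_smul (Ideal.mem_span_singleton_self t) hb
  have h0 : I = ⊥ := Submodule.eq_bot_of_le_smul_of_le_jacobson_bot _ I
    (Submodule.fg_span (Set.finite_range _)) hle hjac
  funext i
  have : y i - x i ∈ I := hmem i
  rw [h0, Submodule.mem_bot] at this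
  exact sub_eq_zero.mp this

end K141.Newton
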