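import Groth.Agent.Hensel.K141.FEtCong
import Groth.Agent.Hensel.K141.FEtNewton
import Groth.Agent.S0526

/-!
# Idempotents of algebras over `A[1/t]` and over `B[1/t]`

`A → B` with `(A, tA)`, `(B, tB)` henselian and `A/t^n = B/t^n`; `R = A[1/t]`, `R' = B[1/t]`.
* `exists_idem`, `idem_eq_zero`: for every integral `R`-algebra `C` the idempotents of `C` and of
  `R' ⊗ C` agree.
-/

set_option autoImplicit false
universe u v w

open TensorProduct

namespace K141.Idem

section Loc

variable {A B R R' C₀ C : Type u} [CommRing A] [CommRing B] [CommRing R] [CommRing R']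
  [CommRing C₀] [CommRing C] [Algebra A B] [Algebra A R] [Algebra B R'] [Algebra R R']
  [Algebra A R'] [IsScalarTower A B R'] [IsScalarTower A R R'] [Algebra A C₀] [Algebra C₀ C]
  [Algebra R C] [Algebra A C] [IsScalarTower A C₀ C] [IsScalarTower A R C] (t : A)
  [IsLocalization.Away t R] [IsLocalization.Away (algebraMap A B t) R']
  [IsLocalization.Away (algebraMap A C₀ t) C]

variable (A B R R' C₀ C) in
/-- `B ⊗ C₀ → R' ⊗ C`. -/
noncomputable def γ : B ⊗[A] C₀ →ₐ[A] R' ⊗[R] C :=
  Algebra.TensorProduct.lift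
    ((Algebra.TensorProduct.includeLeft : R' →ₐ[A] R' ⊗[R] C).comp (IsScalarTower.toAlgHom A B R'))
    (((Algebra.TensorProduct.includeRight : C →ₐ[R] R' ⊗[R] C).restrictScalars A).comp
      (IsScalarTower.toAlgHom A C₀ C)) (fun _ _ => Commute.all _ _)

omit [IsLocalization.Away t R] [IsLocalization.Away (algebraMap A B t) R']
  [IsLocalization.Away (algebraMap A C₀ t) C] in
theorem γ_tmul (b : B) (c : C₀) :
    γ A B R R' C₀ C (b ⊗ₜ c) = (algebraMap B R' b) ⊗ₜ[R] (algebraMap C₀ C c) := by
  rw [γ, Algebra.TensorProduct.lift_tmul]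
  change (algebraMap B R' b ⊗ₜ[R] (1 : C)) * ((1 : R') ⊗ₜ[R] (algebraMap C₀ C c)) = _
  rw [Algebra.TensorProduct.tmul_mul_tmul, mul_one, one_mul]

theorem isUnit_t : IsUnit (algebraMap A (R' ⊗[R] C) t) := by
  have h : IsUnit (algebraMap A R t) := IsLocalization.Away.algebraMap_isUnit t
  have := h.map (algebraMap R (R' ⊗[R] C))
  rwa [← IsScalarTower.algebraMap_apply] at this

include t in
omit [IsLocalization.Away t R] in
theorem loc_surj (z : R' ⊗[R] C) : ∃ (k : ℕ) (w : B ⊗[A] C₀),
    algebraMap A (R' ⊗[R] C) t ^ k * z = γ A B R R' C₀ C w := by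
  have hmul : ∀ (k m : ℕ) (r : R') (c : C), algebraMap A (R' ⊗[R] C) t ^ (k + m) * (r ⊗ₜ[R] c) =
      (algebraMap A R' t ^ k * r) ⊗ₜ[R] (algebraMap A C t ^ m * c) := by
    intro k m r c
    have e1 : algebraMap A (R' ⊗[R] C) t = (algebraMap A R' t) ⊗ₜ[R] (1 : C) := rfl
    have e2 : (algebraMap A R' t) ⊗ₜ[R] (1 : C) = (1 : R') ⊗ₜ[R] (algebraMap A C t) := by
      rw [IsScalarTower.algebraMap_apply A R R', IsScalarTower.algebraMap_apply A R C,
        Algebra.algebraMap_eq_smul_one (R := R) (A := R'),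
        Algebra.algebraMap_eq_smul_one (R := R) (A := C), smul_tmul]
    rw [pow_add]
    nth_rewrite 2 [e1]
    rw [e2, e1, Algebra.TensorProduct.tmul_pow, Algebra.TensorProduct.tmul_pow,
      Algebra.TensorProduct.tmul_mul_tmul, Algebra.TensorProduct.tmul_mul_tmul, one_pow, one_pow,
      mul_one, one_mul]
  induction z with
  | zero => exact ⟨0, 0, by simp⟩
  | tmul r c =>
    obtain ⟨⟨b, ⟨_, k, rfl⟩⟩, hb⟩ := IsLocalization.surj (Submonoid.powers (algebraMap A B t)) r
    obtain ⟨⟨c₀, ⟨_, m, rfl⟩⟩, hc⟩ := IsLocalization.surj (Submonoid.powers (algebraMap A C₀ t)) c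
    refine ⟨k + m, b ⊗ₜ c₀, ?_⟩
    rw [hmul, γ_tmul]
    have hb' : r * algebraMap B R' (algebraMap A B t ^ k) = algebraMap B R' b := hb
    have hc' : c * algebraMap C₀ C (algebraMap A C₀ t ^ m) = algebraMap C₀ C c₀ := hc
    rw [map_pow, ← IsScalarTower.algebraMap_apply, mul_comm] at hb' hc'
    rw [hb', hc']
  | add x y hx hy =>
    obtain ⟨k, w, hk⟩ := hx
    obtain ⟨m, v, hm⟩ := hy
    refine ⟨k + m, algebraMap A (B ⊗[A] C₀) t ^ m * w + algebraMap A (B ⊗[A] C₀) t ^ k * v, ?_⟩
    rw [map_add, map_mul, map_mul, map_pow, map_pow, AlgHom.commutes, ← hk, ← hm]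
    ring

theorem loc_inj (w : B ⊗[A] C₀) (hw : γ A B R R' C₀ C w = 0) :
    ∃ k : ℕ, algebraMap A (B ⊗[A] C₀) t ^ k * w = 0 := by
  let D := B ⊗[A] C₀
  let T := Localization.Away (algebraMap A D t)
  have hT : IsUnit (algebraMap A T t) := by
    rw [IsScalarTower.algebraMap_apply A D T]
    exact IsLocalization.Away.algebraMap_isUnit _
  let iB : B →+* T := (algebraMap D T).comp
    (Algebra.TensorProduct.includeLeft : B →ₐ[A] B ⊗[A] C₀).toRingHom
  let iC : C₀ →+* T := (algebraMap D T).comp
    (Algebra.TensorProduct.includeRight : C₀ →ₐ[A] B ⊗[A] C₀).toRingHom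
  have hiB : ∀ a, iB (algebraMap A B a) = algebraMap A T a := by
    intro a
    change algebraMap D T ((Algebra.TensorProduct.includeLeft : B →ₐ[A] B ⊗[A] C₀)
      (algebraMap A B a)) = _
    rw [AlgHom.commutes, ← IsScalarTower.algebraMap_apply]
  have hiC : ∀ a, iC (algebraMap A C₀ a) = algebraMap A T a := by
    intro a
    change algebraMap D T ((Algebra.TensorProduct.includeRight : C₀ →ₐ[A] B ⊗[A] C₀)
      (algebraMap A C₀ a)) = _
    rw [AlgHom.commutes, ← IsScalarTower.algebraMap_apply]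
  let f : R' →+* T := IsLocalization.Away.lift (S := R') (algebraMap A B t) (g := iB)
    (by rw [hiB]; exact hT)
  let g : C →+* T := IsLocalization.Away.lift (S := C) (algebraMap A C₀ t) (g := iC)
    (by rw [hiC]; exact hT)
  let rT : R →+* T := IsLocalization.Away.lift (S := R) t (g := algebraMap A T) hT
  have hf : ∀ b, f (algebraMap B R' b) = iB b := fun b => IsLocalization.Away.lift_eq _ _ b
  have hg : ∀ c, g (algebraMap C₀ C c) = iC c := fun c => IsLocalization.Away.lift_eq _ _ c
  have hr : ∀ a, rT (algebraMap A R a) = algebraMap A T a := fun a =>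
    IsLocalization.Away.lift_eq _ _ a
  letI : Algebra R T := rT.toAlgebra
  have hfR : f.comp (algebraMap R R') = algebraMap R T := by
    apply IsLocalization.ringHom_ext (Submonoid.powers t)
    ext a
    change f (algebraMap R R' (algebraMap A R a)) = rT (algebraMap A R a)
    rw [hr, ← IsScalarTower.algebraMap_apply A R R', IsScalarTower.algebraMap_apply A B R', hf, hiB]
  have hgR : g.comp (algebraMap R C) = algebraMap R T := by
    apply IsLocalization.ringHom_ext (Submonoid.powers t)
    ext a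
    change g (algebraMap R C (algebraMap A R a)) = rT (algebraMap A R a)
    rw [hr, ← IsScalarTower.algebraMap_apply A R C, IsScalarTower.algebraMap_apply A C₀ C, hg, hiC]
  let f' : R' →ₐ[R] T := { f with commutes' := fun r => DFunLike.congr_fun hfR r }
  let g' : C →ₐ[R] T := { g with commutes' := fun r => DFunLike.congr_fun hgR r }
  let δ : R' ⊗[R] C →ₐ[R] T := Algebra.TensorProduct.lift f' g' (fun _ _ => Commute.all _ _)
  have hδ : ∀ w : B ⊗[A] C₀, δ (γ A B R R' C₀ C w) = algebraMap D T w := by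
    intro w
    induction w with
    | zero => simp only [map_zero]
    | add x y hx hy => rw [map_add, map_add, map_add, hx, hy]
    | tmul b c =>
      rw [γ_tmul, Algebra.TensorProduct.lift_tmul]
      change f (algebraMap B R' b) * g (algebraMap C₀ C c) = _
      rw [hf, hg]
      change algebraMap D T (b ⊗ₜ 1) * algebraMap D T (1 ⊗ₜ c) = _
      rw [← map_mul, Algebra.TensorProduct.tmul_mul_tmul, mul_one, one_mul]
  have h0 : algebraMap D T w = 0 := by rw [← hδ, hw, map_zero]
  obtain ⟨⟨_, k, rfl⟩, hk⟩ := (IsLocalization.map_eq_zero_iff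
    (Submonoid.powers (algebraMap A D t)) T w).mp h0
  exact ⟨k, hk⟩

end Loc

theorem henselian_of_integral {A : Type u} [CommRing A] (t : A) [HenselianRing A (Ideal.span {t})]
    (C : Type u) [CommRing C] [Algebra A C] [Algebra.IsIntegral A C] :
    HenselianRing C (Ideal.span {algebraMap A C t}) := by
  have := Groth.Agent.S0526.result A (Ideal.span {t}) C
  rwa [Ideal.map_span, Set.image_singleton] at this

theorem isUnit_one_add {S : Type*} [CommRing S] {t : S}
    (h : Ideal.span {t} ≤ Ideal.jacobson (⊥ : Ideal S)) (a : S) : IsUnit (1 + t * a) := by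
  have h1 : t * a ∈ Ideal.jacobson (⊥ : Ideal S) :=
    h (Ideal.mul_mem_right _ _ (Ideal.mem_span_singleton_self t))
  have := Ideal.mem_jacobson_bot.mp h1 1
  rwa [mul_one, add_comm] at this

section Main

variable {A B R R' C₀ C : Type u} [CommRing A] [CommRing B] [CommRing R] [CommRing R']
  [CommRing C₀] [CommRing C] [Algebra A B] [Algebra A R] [Algebra B R'] [Algebra R R']
  [Algebra A R'] [IsScalarTower A B R'] [IsScalarTower A R R'] [Algebra A C₀] [Algebra C₀ C]
  [Algebra R C] [Algebra A C] [IsScalarTower A C₀ C] [IsScalarTower A R C] (t : A)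
  [IsLocalization.Away t R] [IsLocalization.Away (algebraMap A B t) R']
  [IsLocalization.Away (algebraMap A C₀ t) C] [HenselianRing A (Ideal.span {t})]
  [HenselianRing B (Ideal.span {algebraMap A B t})] [Algebra.IsIntegral A C₀]

variable (B R R' C₀) in
theorem exists_idem_aux (h : Cong (algebraMap A B) t)
    (ht : ∀ c : C₀, algebraMap A C₀ t * c = 0 → c = 0)
    (e : R' ⊗[R] C) (he : IsIdempotentElem e) :
    ∃ e₀ : C, IsIdempotentElem e₀ ∧ (1 : R') ⊗ₜ[R] e₀ = e := by
  classical
  set τ : C₀ := algebraMap A C₀ t with hτ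
  have hC₀ : HenselianRing C₀ (Ideal.span {τ}) := henselian_of_integral t C₀
  let D := B ⊗[A] C₀
  have hDint : Algebra.IsIntegral B (B ⊗[A] C₀) := inferInstance
  have hD : HenselianRing (B ⊗[A] C₀) (Ideal.span {algebraMap B (B ⊗[A] C₀) (algebraMap A B t)}) :=
    henselian_of_integral (algebraMap A B t) (B ⊗[A] C₀)
  rw [← IsScalarTower.algebraMap_apply A B] at hD
  set T : B ⊗[A] C₀ := algebraMap A (B ⊗[A] C₀) t with hTdef
  set i : C₀ →+* B ⊗[A] C₀ :=
    (Algebra.TensorProduct.includeRight : C₀ →ₐ[A] B ⊗[A] C₀).toRingHom with hi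
  have hiT : i τ = T := (Algebra.TensorProduct.includeRight : C₀ →ₐ[A] B ⊗[A] C₀).commutes t
  have hcong : Cong i τ := h.tensor C₀
  obtain ⟨k, w, hw⟩ := loc_surj (A := A) (B := B) (C₀ := C₀) t e
  have h1 : γ A B R R' C₀ C (w ^ 2 - T ^ k * w) = 0 := by
    rw [map_sub, map_pow, map_mul, map_pow, ← hw, AlgHom.commutes]
    have : e ^ 2 = e := by rw [pow_two]; exact he
    rw [mul_pow, this]
    ring
  obtain ⟨m, hm⟩ := loc_inj t _ h1
  -- approximate
  obtain ⟨a, w', haw⟩ := hcong.surj (4 * k + 1) w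
  rw [hiT] at haw
  obtain ⟨b, hb⟩ := hcong.inj (m + (4 * k + 1)) (τ ^ m * (a ^ 2 - τ ^ k * a))
    (-(2 * i a * w' + T ^ (4 * k + 1) * w' ^ 2 - T ^ k * w')) (by
      rw [map_mul, map_pow, map_sub, map_pow, map_mul, map_pow, hiT]
      have e1 : i a = w - T ^ (4 * k + 1) * w' := by rw [haw]; ring
      have e2 : T ^ m * (w ^ 2 - T ^ k * w) = 0 := hm
      rw [e1, pow_add]
      linear_combination e2)
  have hab : a ^ 2 - τ ^ k * a = τ ^ (4 * k + 1) * b := by
    apply Newton.pow_mul_cancel ht m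
    rw [hb, pow_add, mul_assoc]
  -- Newton
  let F : Unit → MvPolynomial Unit C₀ := fun _ => MvPolynomial.X () ^ 2 -
    MvPolynomial.C (τ ^ k) * MvPolynomial.X ()
  have hunit : IsUnit (1 + τ * (4 * τ ^ (2 * k) * b)) := isUnit_one_add hC₀.jac _
  have hjac : Newton.jacAt F (fun _ => a) = Matrix.of fun _ _ => (2 * a - τ ^ k) := by
    ext x y
    rw [Newton.jacAt, Matrix.of_apply, Matrix.of_apply]
    simp only [F]
    rw [map_sub, Derivation.leibniz_pow, MvPolynomial.pderiv_C_mul]
    simp
  obtain ⟨L, hL⟩ := Newton.exists_left_inverse F (fun _ => a) (2 * a - τ ^ k) (τ ^ (2 * k)) _ (by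
    rw [hjac, Matrix.det_unique]
    change (2 * a - τ ^ k) * (2 * a - τ ^ k) = τ ^ (2 * k) * (1 + τ * (4 * τ ^ (2 * k) * b))
    have e3 : τ ^ (2 * k) * (τ * (4 * τ ^ (2 * k) * b)) = 4 * (τ ^ (4 * k + 1) * b) := by ring
    rw [mul_add, mul_one, e3, ← hab]
    ring) hunit
  obtain ⟨y, hy, hya⟩ := Newton.exists_root ht F (fun _ => a) (2 * k) 1 le_rfl L hL (by
    intro _
    simp only [F, map_sub, map_pow, map_mul, MvPolynomial.eval_X, MvPolynomial.eval_C]
    rw [hab]
    exact ⟨b, by ring⟩)
  obtain ⟨c, hc⟩ := hya ()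
  have hy0 : y () ^ 2 = τ ^ k * y () := by
    have := hy ()
    simp only [F, map_sub, map_pow, map_mul, MvPolynomial.eval_X, MvPolynomial.eval_C] at this
    exact sub_eq_zero.mp this
  -- the idempotent of `C`
  obtain ⟨v, hv⟩ : IsUnit (algebraMap C₀ C τ) := IsLocalization.Away.algebraMap_isUnit τ
  let e₀ : C := ((v⁻¹ : Cˣ) : C) ^ k * algebraMap C₀ C (y ())
  have hve : (v : C) ^ k * e₀ = algebraMap C₀ C (y ()) := by
    simp only [e₀]; rw [← mul_assoc, ← mul_pow, Units.mul_inv, one_pow, one_mul]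
  have he₀ : IsIdempotentElem e₀ := by
    have hu : IsUnit ((v : C) ^ (2 * k)) := v.isUnit.pow _
    apply hu.mul_left_cancel
    have e4 : (v : C) ^ (2 * k) * (e₀ * e₀) = (v ^ k * e₀) ^ 2 := by ring
    have e5 : (v : C) ^ (2 * k) * e₀ = v ^ k * (v ^ k * e₀) := by ring
    rw [e4, e5, hve, ← map_pow, hy0, map_mul, map_pow, hv]
  refine ⟨e₀, he₀, ?_⟩
  -- comparison
  set f : R' ⊗[R] C := (1 : R') ⊗ₜ[R] e₀ with hf
  have hff : f * f = f := by
    rw [hf, Algebra.TensorProduct.tmul_mul_tmul, one_mul]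
    exact congrArg _ he₀
  have hγi : ∀ c, γ A B R R' C₀ C (i c) = (1 : R') ⊗ₜ[R] (algebraMap C₀ C c) := by
    intro c
    change γ A B R R' C₀ C (1 ⊗ₜ c) = _
    rw [γ_tmul, map_one]
  have hγT : γ A B R R' C₀ C T = algebraMap A (R' ⊗[R] C) t := AlgHom.commutes _ _
  have htf : γ A B R R' C₀ C T ^ k * f = γ A B R R' C₀ C (i (y ())) := by
    rw [← hiT, hγi, hγi, hf, Algebra.TensorProduct.tmul_pow, Algebra.TensorProduct.tmul_mul_tmul,
      one_pow, one_mul, ← hv, hve]
  have hdiff : f - e = γ A B R R' C₀ C (T * (T ^ k * (i c - T ^ (2 * k) * w'))) := by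
    have hu : IsUnit (γ A B R R' C₀ C T ^ k) := by
      rw [hγT]
      exact (isUnit_t (R := R) t).pow _
    apply hu.mul_left_cancel
    rw [mul_sub, htf]
    have e6 : γ A B R R' C₀ C T ^ k * e = γ A B R R' C₀ C w := by rw [hγT, hw]
    rw [e6, ← map_sub, ← map_pow, ← map_mul]
    congr 1
    have e7 : i (y ()) = i a + T ^ (2 * k + 1) * i c := by
      have : y () = a + τ ^ (2 * k + 1) * c := by linear_combination hc
      rw [this, map_add, map_mul, map_pow, hiT]
    rw [e7, haw]
    ring
  set d := T * (T ^ k * (i c - T ^ (2 * k) * w')) with hd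
  have hcube : (f - e) * (1 - (f - e) * (f - e)) = 0 := by
    have hee : e * e = e := he
    linear_combination (-f + 3 * e - 1) * hff + (e - 3 * f + 1) * hee
  have hud : IsUnit (1 - (f - e) * (f - e)) := by
    rw [hdiff, ← map_mul, ← map_one (γ A B R R' C₀ C), ← map_sub]
    refine IsUnit.map _ ?_
    have : 1 - d * d = 1 + T * (-(T ^ k * (i c - T ^ (2 * k) * w')) * d) := by
      rw [hd]; ring
    rw [this]
    exact isUnit_one_add hD.jac _
  have := hud.mul_left_eq_zero.mp hcube
  exact sub_eq_zero.mp this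

end Main

section Final

variable {A B R R' C : Type u} [CommRing A] [CommRing B] [CommRing R] [CommRing R']
  [CommRing C] [Algebra A B] [Algebra A R] [Algebra B R'] [Algebra R R']
  [Algebra A R'] [IsScalarTower A B R'] [IsScalarTower A R R']
  [Algebra R C] [Algebra A C] [IsScalarTower A R C] (t : A)
  [IsLocalization.Away t R] [IsLocalization.Away (algebraMap A B t) R']
  [HenselianRing A (Ideal.span {t})]
  [HenselianRing B (Ideal.span {algebraMap A B t})] [Algebra.IsIntegral R C]

omit [HenselianRing A (Ideal.span {t})] [Algebra.IsIntegral R C] in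
include R t in
theorem isUnit_algebraMap : IsUnit (algebraMap A C t) := by
  rw [IsScalarTower.algebraMap_apply A R C]
  exact (IsLocalization.Away.algebraMap_isUnit t).map _

omit [HenselianRing A (Ideal.span {t})] [Algebra.IsIntegral R C] in
include R in
theorem torsion_free (c : integralClosure A C) (hc : algebraMap A (integralClosure A C) t * c = 0) :
    c = 0 := by
  apply Subtype.ext
  have h1 := congrArg Subtype.val hc
  have h2 : algebraMap A C t * (c : C) = 0 := h1
  exact (isUnit_algebraMap (R := R) t).mul_right_eq_zero.mp h2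

omit [HenselianRing A (Ideal.span {t})] in
include R in
theorem away_integralClosure :
    IsLocalization.Away (algebraMap A (integralClosure A C) t) C := by
  refine (isLocalization_iff _ _).mpr ⟨?_, ?_, ?_⟩
  · rintro ⟨_, k, rfl⟩
    change IsUnit (algebraMap (integralClosure A C) C (algebraMap A (integralClosure A C) t ^ k))
    rw [map_pow, ← IsScalarTower.algebraMap_apply]
    exact (isUnit_algebraMap (R := R) t).pow k
  · intro c
    obtain ⟨⟨_, k, rfl⟩, hk⟩ := IsIntegral.exists_multiple_integral_of_isLocalization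
      (Submonoid.powers t) c (Algebra.IsIntegral.isIntegral (R := R) c)
    refine ⟨⟨⟨algebraMap A C t ^ k * c, ?_⟩, ⟨_, k, rfl⟩⟩, ?_⟩
    · have : (⟨t ^ k, k, rfl⟩ : Submonoid.powers t) • c = algebraMap A C t ^ k * c := by
        rw [Submonoid.smul_def, Algebra.smul_def, map_pow]
      rw [← this]
      exact hk
    · change c * algebraMap (integralClosure A C) C (algebraMap A (integralClosure A C) t ^ k) = _
      rw [map_pow, ← IsScalarTower.algebraMap_apply, mul_comm]
      rfl
  · intro x y hxy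
    exact ⟨1, by rw [Subtype.ext (show (x : C) = y from hxy)]⟩

variable (B R R') in
theorem exists_idem (h : Cong (algebraMap A B) t) (e : R' ⊗[R] C) (he : IsIdempotentElem e) :
    ∃ e₀ : C, IsIdempotentElem e₀ ∧ (1 : R') ⊗ₜ[R] e₀ = e := by
  have := away_integralClosure (R := R) (C := C) t
  exact exists_idem_aux B R R' (integralClosure A C) t h (torsion_free (R := R) t) e he

variable (B R R') in
omit [Algebra.IsIntegral R C] in
theorem idem_eq_zero [Algebra.IsIntegral R C] (h : Cong (algebraMap A B) t) (e : C)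
    (he : IsIdempotentElem e) (h0 : (1 : R') ⊗ₜ[R] e = 0) : e = 0 := by
  have := away_integralClosure (R := R) (C := C) t
  let C₀ := integralClosure A C
  have hC₀ : HenselianRing C₀ (Ideal.span {algebraMap A C₀ t}) := henselian_of_integral t C₀
  have hint : IsIntegral A e := by
    refine ⟨Polynomial.X ^ 2 - Polynomial.X, ?_, ?_⟩
    · have : (Polynomial.X ^ 2 - Polynomial.X : Polynomial A) =
          Polynomial.X ^ 2 + (-Polynomial.X) := sub_eq_add_neg _ _
      rw [this]
      nontriviality A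
      apply Polynomial.monic_X_pow_add
      rw [Polynomial.degree_neg, Polynomial.degree_X]
      norm_num
    · have : e ^ 2 = e := by rw [pow_two]; exact he
      simp [this]
  let c : C₀ := ⟨e, hint⟩
  have hcong := h.tensor C₀
  have hγ : γ A B R R' C₀ C (1 ⊗ₜ c) = 0 := by
    rw [γ_tmul, map_one]
    exact h0
  obtain ⟨m, hm⟩ := loc_inj t _ hγ
  obtain ⟨a, ha⟩ := hcong.inj (m + 1) (algebraMap A C₀ t ^ m * c) 0 (by
    rw [mul_zero, map_mul, map_pow]
    have e1 : (Algebra.TensorProduct.includeRight : C₀ →ₐ[A] B ⊗[A] C₀).toRingHom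
      (algebraMap A C₀ t) = algebraMap A (B ⊗[A] C₀) t :=
        (Algebra.TensorProduct.includeRight : C₀ →ₐ[A] B ⊗[A] C₀).commutes t
    rw [e1]
    exact hm)
  have hc : c = algebraMap A C₀ t * a := by
    apply Newton.pow_mul_cancel (torsion_free (R := R) t) m
    rw [ha, pow_succ, mul_assoc]
  have hcc : c * c = c := Subtype.ext he
  have h1 : c * (1 - c) = 0 := by rw [mul_sub, mul_one, hcc, sub_self]
  have h2 : IsUnit (1 - c) := by
    have : 1 - c = 1 + algebraMap A C₀ t * (-a) := by rw [hc]; ring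
    rw [this]
    exact isUnit_one_add hC₀.jac _
  have h3 : c = 0 := h2.mul_left_eq_zero.mp h1
  exact congrArg Subtype.val h3

end Final

end K141.Idem
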