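import Groth.Agent.Hensel.K141.FEtAway
import Groth.Agent.S1958
import Mathlib.RingTheory.LaurentSeries
import Mathlib.RingTheory.PowerSeries.Trunc
import Mathlib.RingTheory.PowerSeries.Ideal
import Mathlib.RingTheory.AdicCompletion.Completeness

/-!
# The henselization of `R[t]` along `t` and `R[[t]]`
-/

set_option autoImplicit false
universe u

open Polynomial

namespace K141.Laurent

variable (R : Type u) [CommRing R] {B : Type u} [CommRing B] [Algebra R[X] B]
  (hB : Hens2.IsPairHenselization R[X] (Ideal.span {(X : R[X])}) B)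
  (ψ : B →ₐ[R[X]] PowerSeries R)

theorem psi_algebraMap (p : R[X]) : ψ.toRingHom (algebraMap R[X] B p) = (p : PowerSeries R) := by
  have h1 : ψ (algebraMap R[X] B p) = algebraMap R[X] (PowerSeries R) p := ψ.commutes p
  have h2 : algebraMap R[X] (PowerSeries R) p = (p : PowerSeries R) := by
    rw [PowerSeries.algebraMap_apply']
    simp
  exact h1.trans h2

theorem psi_X : ψ.toRingHom (algebraMap R[X] B X) = PowerSeries.X := by
  rw [psi_algebraMap, Polynomial.coe_X]

include hB in
theorem henselian : HenselianRing B (Ideal.span {algebraMap R[X] B X}) := by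
  have := hB.1
  rwa [Ideal.map_span, Set.image_singleton] at this

include hB in
theorem cong : Cong ψ.toRingHom (algebraMap R[X] B X) := by
  have hq := (Groth.Agent.S1958.result R[X] _ B hB).2
  constructor
  · intro n f
    have h1 : PowerSeries.X ^ n ∣ f - ((PowerSeries.trunc n f : R[X]) : PowerSeries R) := by
      rw [PowerSeries.X_pow_dvd_iff]
      intro m hm
      rw [map_sub, Polynomial.coeff_coe, PowerSeries.coeff_trunc, if_pos hm, sub_self]
    obtain ⟨g, hg⟩ := h1
    refine ⟨algebraMap R[X] B (PowerSeries.trunc n f), g, ?_⟩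
    rw [psi_X, psi_algebraMap, ← hg]
    ring
  · intro n b c hbc
    rw [psi_X] at hbc
    obtain ⟨p, hp⟩ := (hq n).2 (Ideal.Quotient.mk _ b)
    obtain ⟨p, rfl⟩ := Ideal.Quotient.mk_surjective p
    rw [Ideal.quotientMap_mk, Ideal.Quotient.mk_eq_mk_iff_sub_mem, Ideal.map_pow, Ideal.map_span,
      Set.image_singleton, Ideal.span_singleton_pow, Ideal.mem_span_singleton] at hp
    obtain ⟨d, hd⟩ := hp
    have h1 : (PowerSeries.X : PowerSeries R) ^ n ∣ (p : PowerSeries R) := by
      have h2 := congrArg ψ.toRingHom hd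
      rw [map_sub, psi_algebraMap, hbc, map_mul, map_pow, psi_X] at h2
      exact ⟨ψ.toRingHom d + c, by linear_combination h2⟩
    have h3 : X ^ n ∣ p := by
      rw [Polynomial.X_pow_dvd_iff]
      intro m hm
      have := PowerSeries.X_pow_dvd_iff.mp h1 m hm
      rwa [Polynomial.coeff_coe] at this
    obtain ⟨q, rfl⟩ := h3
    rw [map_mul, map_pow] at hd
    exact ⟨algebraMap R[X] B q - d, by linear_combination -hd⟩

end K141.Laurent
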