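import Mathlib.RingTheory.Smooth.StandardSmoothOfFree
import Mathlib.RingTheory.Localization.Integral
import Groth.Agent.Hensel.K141.FEtNewton

/-!
# Square presentations of étale algebras

`exists_pres`: an étale algebra has a presentation with as many equations as unknowns, with
invertible Jacobian determinant.
-/

set_option autoImplicit false
universe u v

open MvPolynomial

namespace K141.Pres

/-- The Jacobian matrix; rows are the equations. -/
noncomputable def jac {R : Type*} [CommRing R] {ι : Type*} (F : ι → MvPolynomial ι R) :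
    Matrix ι ι (MvPolynomial ι R) :=
  Matrix.of fun i j => pderiv j (F i)

theorem exists_pres (R S : Type u) [CommRing R] [CommRing S] [Algebra R S] [Algebra.Etale R S] :
    ∃ (n : ℕ) (x : Fin n → S) (F : Fin n → MvPolynomial (Fin n) R),
      Function.Surjective (aeval (R := R) x) ∧
      RingHom.ker (aeval (R := R) x).toRingHom = Ideal.span (Set.range F) ∧
      IsUnit (aeval x (jac F).det) := by
  classical
  obtain ⟨ι, σ, _, _, P, hP⟩ :=
    ((Algebra.Etale.iff_isStandardSmoothOfRelativeDimension_zero (R := R) (S := S)).mp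
      inferInstance).out
  cases nonempty_fintype ι
  cases nonempty_fintype σ
  have hcard : Nat.card ι = Nat.card σ := by
    apply le_antisymm
    · have : Nat.card ι - Nat.card σ = 0 := hP
      omega
    · exact Nat.card_le_card_of_injective _ P.map_inj
  have hbij : Function.Bijective P.map := by
    rw [Fintype.bijective_iff_injective_and_card]
    refine ⟨P.map_inj, ?_⟩
    rw [← Nat.card_eq_fintype_card, ← Nat.card_eq_fintype_card, hcard]
  let e : Fin (Fintype.card ι) ≃ ι := (Fintype.equivFin ι).symm
  let f : Fin (Fintype.card ι) ≃ σ := e.trans (Equiv.ofBijective P.map hbij).symm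
  let Q := P.reindex e f
  have hQ : ∀ i, Q.map i = i := by
    intro i
    change e.symm (P.map ((Equiv.ofBijective P.map hbij).symm (e i))) = i
    have : P.map ((Equiv.ofBijective P.map hbij).symm (e i)) = e i :=
      (Equiv.ofBijective P.map hbij).apply_symm_apply (e i)
    rw [this, Equiv.symm_apply_apply]
  refine ⟨Fintype.card ι, Q.val, Q.relation, ?_, ?_, ?_⟩
  · intro s
    exact ⟨Q.σ s, Q.aeval_val_σ s⟩
  · rw [Q.span_range_relation_eq_ker, Algebra.Generators.ker_eq_ker_aeval_val]
    rfl
  · have h1 := Q.jacobian_isUnit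
    rw [Algebra.PreSubmersivePresentation.jacobian_eq_jacobiMatrix_det] at h1
    have h2 : Q.jacobiMatrix = (jac Q.relation).transpose := by
      ext i j : 1
      rw [Algebra.PreSubmersivePresentation.jacobiMatrix_apply, hQ i]
      rfl
    rw [h2, Matrix.det_transpose] at h1
    exact h1

section Denominators

attribute [local instance] MvPolynomial.algebraMvPolynomial

variable {B R' : Type u} [CommRing B] [CommRing R'] [Algebra B R'] (t : B)
  [IsLocalization.Away t R'] {ι : Type}

theorem away_mvPolynomial : IsLocalization.Away (C t : MvPolynomial ι B) (MvPolynomial ι R') := by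
  have h : IsLocalization ((Submonoid.powers t).map (C (σ := ι))) (MvPolynomial ι R') :=
    MvPolynomial.isLocalization _ _
  rwa [Submonoid.map_powers] at h

theorem exists_clear (p : MvPolynomial ι R') : ∃ (k : ℕ) (q : MvPolynomial ι B),
    map (algebraMap B R') q = C (algebraMap B R' t ^ k) * p := by
  have := away_mvPolynomial (R' := R') t (ι := ι)
  obtain ⟨⟨q, ⟨_, k, rfl⟩⟩, h⟩ := IsLocalization.surj (Submonoid.powers (C t : MvPolynomial ι B)) p
  refine ⟨k, q, ?_⟩
  have h' : p * map (algebraMap B R') (C t ^ k) = map (algebraMap B R') q := h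
  rw [← h', map_pow, map_C, mul_comm, C_pow]

theorem exists_clear_family {κ : Type*} [Finite κ] (p : κ → MvPolynomial ι R') :
    ∃ (k : ℕ) (q : κ → MvPolynomial ι B),
      ∀ i, map (algebraMap B R') (q i) = C (algebraMap B R' t ^ k) * p i := by
  cases nonempty_fintype κ
  choose k q h using fun i => exists_clear t (p i)
  refine ⟨∑ i, k i, fun i => C (t ^ ((∑ i, k i) - k i)) * q i, fun i => ?_⟩
  have hle : k i ≤ ∑ i, k i := Finset.single_le_sum (f := k) (fun _ _ => Nat.zero_le _)
    (Finset.mem_univ i)
  rw [map_mul, map_C, h, ← mul_assoc, ← C_mul, map_pow, ← pow_add, Nat.sub_add_cancel hle]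

theorem mem_span_of_map {κ : Type*} (G : κ → MvPolynomial ι B) (p : MvPolynomial ι B)
    (h : map (algebraMap B R') p ∈
      Ideal.span (Set.range fun i => map (algebraMap B R') (G i))) :
    ∃ k : ℕ, C (t ^ k) * p ∈ Ideal.span (Set.range G) := by
  have := away_mvPolynomial (R' := R') t (ι := ι)
  have e : Ideal.span (Set.range fun i => map (algebraMap B R') (G i)) =
      (Ideal.span (Set.range G)).map (algebraMap (MvPolynomial ι B) (MvPolynomial ι R')) := by
    rw [Ideal.map_span, ← Set.range_comp]
    rfl
  rw [e] at h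
  obtain ⟨⟨⟨y, hy⟩, ⟨_, k, rfl⟩⟩, h1⟩ :=
    (IsLocalization.mem_map_algebraMap_iff (Submonoid.powers (C t : MvPolynomial ι B)) _).mp h
  have h2 : algebraMap (MvPolynomial ι B) (MvPolynomial ι R') (p * C t ^ k) =
      algebraMap (MvPolynomial ι B) (MvPolynomial ι R') y := by
    rw [map_mul]; exact h1
  obtain ⟨⟨_, m, rfl⟩, h3⟩ :=
    (IsLocalization.eq_iff_exists (Submonoid.powers (C t : MvPolynomial ι B)) _).mp h2
  refine ⟨m + k, ?_⟩
  have h3' : C t ^ m * (p * C t ^ k) = C t ^ m * y := h3
  rw [C_pow, pow_add]
  have : (C t : MvPolynomial ι B) ^ m * C t ^ k * p = C t ^ m * y := by rw [← h3']; ring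
  rw [this]
  exact Ideal.mul_mem_left _ _ hy

end Denominators

section Scale

variable {R : Type u} [CommRing R] {ι : Type}

/-- Scaling the variables. -/
noncomputable def scale (ι : Type) (c : R) : MvPolynomial ι R →ₐ[R] MvPolynomial ι R :=
  aeval fun j => C c * X j

theorem scale_scale (c d : R) (h : c * d = 1) (p : MvPolynomial ι R) :
    scale ι c (scale ι d p) = p := by
  have : (scale ι c).comp (scale ι d) = AlgHom.id R _ := by
    apply MvPolynomial.algHom_ext
    intro j
    simp only [scale, AlgHom.comp_apply, aeval_X, map_mul, AlgHom.coe_id, id]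
    rw [← algebraMap_eq, AlgHom.commutes, algebraMap_eq, ← mul_assoc, ← C_mul, mul_comm d, h, C_1,
      one_mul]
  exact DFunLike.congr_fun this p

theorem pderiv_scale [DecidableEq ι] (c : R) (j : ι) (p : MvPolynomial ι R) :
    pderiv j (scale ι c p) = C c * scale ι c (pderiv j p) := by
  induction p using MvPolynomial.induction_on with
  | C a => simp [scale, ← algebraMap_eq]
  | add p q hp hq => rw [map_add, map_add, hp, hq, map_add, map_add, mul_add]
  | mul_X p i hp =>
    rw [map_mul, Derivation.leibniz, hp, Derivation.leibniz]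
    have e1 : scale ι c (X i : MvPolynomial ι R) = C c * X i := by simp [scale]
    rw [e1, Derivation.leibniz, pderiv_C, smul_zero, add_zero, pderiv_X]
    simp only [smul_eq_mul, map_add, map_mul, e1]
    by_cases hij : i = j
    · subst hij
      simp only [Pi.single_eq_same, map_one]
      ring
    · rw [Pi.single_eq_of_ne hij]
      simp only [map_zero]
      ring

theorem jac_scale [Fintype ι] [DecidableEq ι] (c : R) (F : ι → MvPolynomial ι R) :
    (jac fun i => scale ι c (F i)).det = C (c ^ Fintype.card ι) * scale ι c (jac F).det := by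
  have : (jac fun i => scale ι c (F i)) = (C c : MvPolynomial ι R) • (scale ι c).mapMatrix (jac F) := by
    ext i j : 1
    rw [Matrix.smul_apply, AlgHom.mapMatrix_apply, Matrix.map_apply]
    exact pderiv_scale c j (F i)
  rw [this, Matrix.det_smul, ← AlgHom.map_det, C_pow]

end Scale

section Data

variable (B R' E : Type u) [CommRing B] [CommRing R'] [CommRing E] [Algebra B R'] (t : B)
  [IsLocalization.Away t R'] [Algebra R' E] [Algebra B E] [IsScalarTower B R' E]

theorem exists_data [Algebra.Etale R' E] [Module.Finite R' E] :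
    ∃ (n : ℕ) (x : Fin n → E) (G : Fin n → MvPolynomial (Fin n) B) (D : MvPolynomial (Fin n) B)
      (M : ℕ), (∀ i, IsIntegral B (x i)) ∧ Function.Surjective (aeval (R := R') x) ∧
      (∀ i, aeval x (G i) = 0) ∧
      (∀ p : MvPolynomial (Fin n) B, aeval x p = 0 →
        ∃ k : ℕ, C (t ^ k) * p ∈ Ideal.span (Set.range G)) ∧
      (jac G).det * D - C (t ^ M) ∈ Ideal.span (Set.range G) := by
  classical
  obtain ⟨n, x₀, F, hsurj, hker, hunit⟩ := exists_pres R' E
  have hint : ∀ i, ∃ k : ℕ, IsIntegral B (algebraMap B E t ^ k * x₀ i) := by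
    intro i
    have : IsIntegral R' (x₀ i) := Algebra.IsIntegral.isIntegral _
    obtain ⟨⟨_, k, rfl⟩, hk⟩ :=
      IsIntegral.exists_multiple_integral_of_isLocalization (Submonoid.powers t) _ this
    refine ⟨k, ?_⟩
    have e : (⟨t ^ k, k, rfl⟩ : Submonoid.powers t) • x₀ i = algebraMap B E t ^ k * x₀ i := by
      rw [Submonoid.smul_def, Algebra.smul_def, map_pow]
    rwa [e] at hk
  choose k hk using hint
  let K := ∑ i, k i
  have hK : ∀ i, IsIntegral B (algebraMap B E t ^ K * x₀ i) := by
    intro i
    have hle : k i ≤ K := Finset.single_le_sum (f := k) (fun _ _ => Nat.zero_le _)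
      (Finset.mem_univ i)
    have : algebraMap B E t ^ K * x₀ i =
        algebraMap B E (t ^ (K - k i)) * (algebraMap B E t ^ k i * x₀ i) := by
      rw [map_pow, ← mul_assoc, ← pow_add, Nat.sub_add_cancel hle]
    rw [this]
    exact isIntegral_algebraMap.mul (hk i)
  -- the unit
  obtain ⟨u, hu⟩ : IsUnit (algebraMap B R' t) := IsLocalization.Away.algebraMap_isUnit t
  have htE : algebraMap B E t = algebraMap R' E (u : R') := by
    rw [hu, ← IsScalarTower.algebraMap_apply]
  let c : R' := ((u⁻¹ : R'ˣ) : R') ^ K
  let d : R' := (u : R') ^ K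
  have hcd : c * d = 1 := by
    simp only [c, d]; rw [← mul_pow, Units.inv_mul, one_pow]
  have hdc : d * c = 1 := by rw [mul_comm, hcd]
  let x : Fin n → E := fun i => algebraMap B E t ^ K * x₀ i
  have hx : ∀ i, x i = algebraMap R' E d * x₀ i := fun i => by
    simp only [x, d]; rw [htE, map_pow]
  have hx0 : ∀ p : MvPolynomial (Fin n) R', aeval x (scale (Fin n) c p) = aeval x₀ p := by
    intro p
    have : (aeval (R := R') x).comp (scale (Fin n) c) = aeval (R := R') x₀ := by
      apply MvPolynomial.algHom_ext
      intro j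
      rw [AlgHom.comp_apply, scale, aeval_X, map_mul, aeval_C, aeval_X, aeval_X, hx,
        ← mul_assoc, ← map_mul, hcd, map_one, one_mul]
    exact DFunLike.congr_fun this p
  let F' : Fin n → MvPolynomial (Fin n) R' := fun i => scale (Fin n) c (F i)
  have hker' : ∀ p : MvPolynomial (Fin n) R', aeval x p = 0 → p ∈ Ideal.span (Set.range F') := by
    intro p hp
    have h1 : scale (Fin n) d p ∈ RingHom.ker (aeval (R := R') x₀).toRingHom := by
      rw [RingHom.mem_ker]
      change aeval x₀ (scale (Fin n) d p) = 0
      rw [← hx0, scale_scale c d hcd, hp]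
    rw [hker] at h1
    have h2 := Ideal.mem_map_of_mem (scale (Fin n) c) h1
    rw [scale_scale c d hcd, Ideal.map_span, ← Set.range_comp] at h2
    exact h2
  have hF' : ∀ i, aeval x (F' i) = 0 := by
    intro i
    simp only [F']
    rw [hx0]
    have : F i ∈ RingHom.ker (aeval (R := R') x₀).toRingHom := by
      rw [hker]; exact Ideal.subset_span ⟨i, rfl⟩
    exact this
  have hsurj' : Function.Surjective (aeval (R := R') x) := by
    intro s
    obtain ⟨p, rfl⟩ := hsurj s
    exact ⟨scale (Fin n) c p, hx0 p⟩
  have hunit' : IsUnit (aeval x (jac F').det) := by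
    simp only [F']
    rw [jac_scale, map_mul, aeval_C, hx0]
    refine IsUnit.mul ?_ hunit
    refine IsUnit.map _ (IsUnit.pow _ ?_)
    exact IsUnit.of_mul_eq_one d hcd
  -- clear denominators
  obtain ⟨m, G, hG⟩ := exists_clear_family t F'
  have hbase : ∀ p : MvPolynomial (Fin n) B, aeval x (map (algebraMap B R') p) = aeval x p :=
    fun p => aeval_map_algebraMap R' x p
  have hspan : Ideal.span (Set.range F') ≤
      Ideal.span (Set.range fun i => map (algebraMap B R') (G i)) := by
    rw [Ideal.span_le]
    rintro _ ⟨i, rfl⟩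
    have : F' i = C (((u⁻¹ : R'ˣ) : R') ^ m) * map (algebraMap B R') (G i) := by
      rw [hG, ← mul_assoc, ← C_mul, ← hu, ← mul_pow, Units.inv_mul, one_pow, C_1, one_mul]
    rw [this]
    exact Ideal.mul_mem_left _ _ (Ideal.subset_span ⟨i, rfl⟩)
  have hGx : ∀ i, aeval x (G i) = 0 := by
    intro i
    rw [← hbase, hG, map_mul, hF', mul_zero]
  have hGker : ∀ p : MvPolynomial (Fin n) B, aeval x p = 0 →
      ∃ k : ℕ, C (t ^ k) * p ∈ Ideal.span (Set.range G) := by
    intro p hp
    rw [← hbase] at hp
    exact mem_span_of_map t G p (hspan (hker' _ hp))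
  -- the Jacobian
  have hdet : map (algebraMap B R') (jac G).det =
      C ((u : R') ^ (m * n)) * (jac F').det := by
    rw [RingHom.map_det]
    have : (map (algebraMap B R')).mapMatrix (jac G) =
        (C ((u : R') ^ m) : MvPolynomial (Fin n) R') • jac F' := by
      ext i j : 1
      rw [RingHom.mapMatrix_apply, Matrix.map_apply, Matrix.smul_apply]
      change map (algebraMap B R') (pderiv j (G i)) = _ • pderiv j (F' i)
      rw [← pderiv_map, hG, ← hu, Derivation.leibniz, pderiv_C, smul_zero, add_zero]
    rw [this, Matrix.det_smul, ← C_pow, Fintype.card_fin, ← pow_mul]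
  obtain ⟨v, hv⟩ := hunit'
  obtain ⟨q, hq⟩ := hsurj' ((v⁻¹ : Eˣ) : E)
  obtain ⟨M, D, hD⟩ := exists_clear t q
  have h3 : aeval x ((jac G).det * D - C (t ^ (M + m * n))) = 0 := by
    rw [← hbase, map_sub, map_mul, hdet, hD, map_C, map_sub, map_mul, map_mul, map_mul, ← hv, hq,
      aeval_C, aeval_C, aeval_C, map_pow, hu, mul_mul_mul_comm, Units.mul_inv, mul_one,
      map_pow, map_pow, map_pow, ← pow_add, Nat.add_comm, sub_self]
  obtain ⟨k', hk'⟩ := hGker _ h3
  refine ⟨n, x, G, C (t ^ k') * D, k' + (M + m * n), hK, hsurj', hGx, hGker, ?_⟩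
  have : (jac G).det * (C (t ^ k') * D) - C (t ^ (k' + (M + m * n))) =
      C (t ^ k') * ((jac G).det * D - C (t ^ (M + m * n))) := by
    rw [pow_add, C_mul]; ring
  rw [this]
  exact hk'

end Data

end K141.Pres
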