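import Groth.Agent.Hensel.FinitePart
import Groth.Agent.Hensel.K141.FEtPres
import Groth.Agent.Hensel.K141.FEtIdem
import Mathlib.RingTheory.Unramified.LocalStructure
import Mathlib.RingTheory.Localization.Away.Lemmas

/-!
# Splitting off the finite part of an algebra which is étale after inverting `t`

`quasiFinite_of_parts`: `S` is quasi-finite over `A` if `S/tS` is finite and `S[1/t]` quasi-finite.
`exists_finite_etale`: `(A, tA)` henselian, `G` a square system over `A`, étale after inverting `t`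
near the locus where the variables are integral; then the finite part of the algebra defined by
`G` is a finite étale `A[1/t]`-algebra, with its universal property.
-/

set_option autoImplicit false
universe u v w

open TensorProduct

namespace K141.Split

theorem quasiFinite_of_parts {A S : Type u} [CommRing A] [CommRing S] [Algebra A S] (t : A)
    (h1 : Module.Finite A (S ⧸ Ideal.span {algebraMap A S t}))
    (L : Type u) [CommRing L] [Algebra S L] [Algebra A L] [IsScalarTower A S L]
    [IsLocalization.Away (algebraMap A S t) L] [Algebra.QuasiFinite A L] :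
    Algebra.QuasiFinite A S := by
  refine ⟨fun P hP => ?_⟩
  let κ := P.ResidueField
  let ι : S →ₐ[A] P.Fiber S := Algebra.TensorProduct.includeRight
  have key : ∀ (M : Type u) [AddCommGroup M] [Module A M] (p : S →ₗ[A] M) (q : M →ₗ[A] P.Fiber S),
      (∀ s, q (p s) = ι s) → Module.Finite κ (κ ⊗[A] M) → Module.Finite κ (P.Fiber S) := by
    intro M _ _ p q hpq hM
    refine Module.Finite.of_surjective (LinearMap.liftBaseChange κ q) ?_
    intro z
    refine TensorProduct.induction_on z ⟨0, map_zero _⟩ ?_ ?_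
    rotate_left
    · rintro _ _ ⟨a, rfl⟩ ⟨b, rfl⟩
      exact ⟨a + b, map_add _ _ _⟩
    · intro c s
      refine ⟨c ⊗ₜ p s, ?_⟩
      rw [LinearMap.liftBaseChange_tmul, hpq]
      change c • ((1 : κ) ⊗ₜ[A] s) = _
      rw [smul_tmul', smul_eq_mul, mul_one]
  by_cases htP : t ∈ P
  · have h0 : ι (algebraMap A S t) = 0 := by
      rw [AlgHom.commutes, IsScalarTower.algebraMap_apply A κ,
        Ideal.algebraMap_residueField_eq_zero.mpr htP, map_zero]
    let q : (S ⧸ Ideal.span {algebraMap A S t}) →ₐ[A] P.Fiber S :=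
      Ideal.Quotient.liftₐ _ ι (by
        intro a ha
        obtain ⟨b, rfl⟩ := Ideal.mem_span_singleton.mp ha
        rw [map_mul, h0, zero_mul])
    exact key _ (Ideal.Quotient.mkₐ A _).toLinearMap q.toLinearMap (fun _ => rfl) inferInstance
  · have hu : IsUnit (ι (algebraMap A S t)) := by
      rw [AlgHom.commutes, IsScalarTower.algebraMap_apply A κ]
      refine IsUnit.map _ ?_
      rw [isUnit_iff_ne_zero]
      exact fun h => htP (Ideal.algebraMap_residueField_eq_zero.mp h)
    have hu' : ∀ y : Submonoid.powers (algebraMap A S t), IsUnit (ι y) := by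
      rintro ⟨_, k, rfl⟩
      rw [map_pow]
      exact hu.pow k
    let q : L →ₐ[A] P.Fiber S := IsLocalization.liftAlgHom (M := Submonoid.powers (algebraMap A S t))
      (f := ι) hu'
    exact key L (IsScalarTower.toAlgHom A S L).toLinearMap q.toLinearMap
      (fun s => IsLocalization.lift_eq _ s) (Algebra.QuasiFinite.finite_fiber (R := A) (S := L) P)

open MvPolynomial

/-- The algebra `R[X]/(G)` localized at the Jacobian determinant and at `D`. -/
theorem exists_loc {R : Type u} [CommRing R] {n : ℕ} (G : Fin n → MvPolynomial (Fin n) R)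
    (D : MvPolynomial (Fin n) R) :
    ∃ (L : Type u) (_ : CommRing L) (_ : Algebra R L) (x : Fin n → L), Algebra.Etale R L ∧
      (∀ i, aeval x (G i) = 0) ∧ IsUnit (aeval x ((Pres.jac G).det * D)) ∧
      (∀ l : L, ∃ (m : ℕ) (p : MvPolynomial (Fin n) R),
        aeval x ((Pres.jac G).det * D) ^ m * l = aeval x p) ∧
      ∀ (T : Type u) [CommRing T] [Algebra R T] (y : Fin n → T), (∀ i, aeval y (G i) = 0) →
        IsUnit (aeval y ((Pres.jac G).det * D)) → ∃ ψ : L →ₐ[R] T, ∀ i, ψ (x i) = y i := by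
  let J := Ideal.span (Set.range G)
  let L₀ := MvPolynomial (Fin n) R ⧸ J
  let δ : L₀ := Ideal.Quotient.mk J (Groth.Agent.Hensel.MvHensel.jac G).det
  let L₁ := Localization.Away δ
  have h1 : Algebra.Etale R L₁ := Groth.Agent.Hensel.MvHensel.etale_of_away_jacobian G L₁
  let D₁ : L₁ := algebraMap L₀ L₁ (Ideal.Quotient.mk J D)
  let L := Localization.Away D₁
  have h2 : Algebra.Etale L₁ L := Algebra.Etale.of_isLocalizationAway D₁
  have h3 : Algebra.Etale R L := Algebra.Etale.comp R L₁ L
  have hdet : (Groth.Agent.Hensel.MvHensel.jac G).det = (Pres.jac G).det := by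
    rw [← Matrix.det_transpose]
    rfl
  let ρ : MvPolynomial (Fin n) R →ₐ[R] L :=
    ((IsScalarTower.toAlgHom R L₁ L).comp (IsScalarTower.toAlgHom R L₀ L₁)).comp
      (Ideal.Quotient.mkₐ R J)
  let x : Fin n → L := fun i => ρ (X i)
  have hρ : ∀ p, aeval x p = ρ p := by
    intro p
    have : aeval x = ρ := by
      apply MvPolynomial.algHom_ext
      intro i
      rw [aeval_X]
    rw [this]
  have hρ' : ∀ p, ρ p = algebraMap L₁ L (algebraMap L₀ L₁ (Ideal.Quotient.mk J p)) := fun _ => rfl
  have hδ : ρ (Pres.jac G).det = algebraMap L₁ L (algebraMap L₀ L₁ δ) := by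
    rw [← hdet]; exact hρ' _
  refine ⟨L, inferInstance, inferInstance, x, h3, ?_, ?_, ?_, ?_⟩
  · intro i
    have : G i ∈ J := Ideal.subset_span ⟨i, rfl⟩
    rw [hρ, hρ', Ideal.Quotient.eq_zero_iff_mem.mpr this, map_zero, map_zero]
  · rw [hρ, map_mul, hδ]
    refine IsUnit.mul ?_ ?_
    · exact (IsLocalization.Away.algebraMap_isUnit δ).map _
    · exact IsLocalization.Away.algebraMap_isUnit D₁
  · intro l
    obtain ⟨⟨l₁, ⟨_, m, rfl⟩⟩, hl₁⟩ := IsLocalization.surj (Submonoid.powers D₁) l
    obtain ⟨⟨l₀, ⟨_, m', rfl⟩⟩, hl₀⟩ := IsLocalization.surj (Submonoid.powers δ) l₁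
    obtain ⟨p, rfl⟩ := Ideal.Quotient.mk_surjective l₀
    have e1 : l * ρ D ^ m = algebraMap L₁ L l₁ := by
      rw [hρ', ← map_pow]; exact hl₁
    have e2 : l₁ * algebraMap L₀ L₁ δ ^ m' = algebraMap L₀ L₁ (Ideal.Quotient.mk J p) := by
      rw [← map_pow]; exact hl₀
    refine ⟨m + m', (Pres.jac G).det ^ m * D ^ m' * p, ?_⟩
    rw [hρ, hρ, map_mul, map_mul ρ _ p, map_mul ρ _ (D ^ m'), map_pow, map_pow, hρ' p, ← e2,
      map_mul, ← e1, map_pow, ← hδ]
    ring
  · intro T _ _ y hy hu
    rw [map_mul] at hu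
    have hu1 : IsUnit (aeval y (Pres.jac G).det) := isUnit_of_mul_isUnit_left hu
    have hu2 : IsUnit (aeval y D) := isUnit_of_mul_isUnit_right hu
    let f₀ : L₀ →ₐ[R] T := Ideal.Quotient.liftₐ J (aeval y) (by
      intro a ha
      have : J ≤ RingHom.ker (aeval (R := R) y) := by
        rw [Ideal.span_le]
        rintro _ ⟨i, rfl⟩
        exact hy i
      exact this ha)
    have hf₀ : ∀ p, f₀ (Ideal.Quotient.mk J p) = aeval y p := fun _ => rfl
    let f₁ : L₁ →ₐ[R] T := IsLocalization.liftAlgHom (M := Submonoid.powers δ) (f := f₀) (by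
      rintro ⟨_, k, rfl⟩
      change IsUnit (f₀ (δ ^ k))
      rw [map_pow, hf₀, hdet]
      exact hu1.pow k)
    have hf₁ : ∀ a, f₁ (algebraMap L₀ L₁ a) = f₀ a := fun a => IsLocalization.lift_eq _ _
    let f₂ : L →ₐ[R] T := IsLocalization.liftAlgHom (M := Submonoid.powers D₁) (f := f₁) (by
      rintro ⟨_, k, rfl⟩
      change IsUnit (f₁ (D₁ ^ k))
      rw [map_pow, hf₁, hf₀]
      exact hu2.pow k)
    have hf₂ : ∀ a, f₂ (algebraMap L₁ L a) = f₁ a := fun a => IsLocalization.lift_eq _ _
    refine ⟨f₂, fun i => ?_⟩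
    change f₂ (ρ (X i)) = y i
    rw [hρ', hf₂, hf₁, hf₀, aeval_X]

section Main

variable {A R : Type u} [CommRing A] [CommRing R] [Algebra A R] (t : A) [IsLocalization.Away t R]

/-- The output of `exists_finite_etale`. -/
structure IsFinPart {A : Type u} (R : Type u) [CommRing A] [CommRing R] [Algebra A R] (t : A) {n : ℕ}
    (G : Fin n → MvPolynomial (Fin n) A) (E : Type u) [CommRing E] [Algebra R E] [Algebra A E]
    (x : Fin n → E) : Prop where
  finite : Module.Finite R E
  etale : Algebra.Etale R E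
  integral : ∀ i, IsIntegral A (x i)
  adjoin : Algebra.adjoin R (Set.range x) = ⊤
  eval : ∀ i, aeval x (G i) = 0
  lift : ∀ (T : Type u) [CommRing T] [Algebra R T] [Algebra A T] [IsScalarTower A R T]
    (T₀ : Subalgebra A T), (∀ a ∈ T₀, ∃ b ∈ T₀, (1 + algebraMap A T t * a) * b = 1) →
    ∀ y : Fin n → T, (∀ i, y i ∈ T₀) → (∀ i, aeval y (G i) = 0) →
      ∃ ψ : E →ₐ[R] T, ∀ i, ψ (x i) = y i

theorem exists_finite_etale [HenselianRing A (Ideal.span {t})] {n : ℕ}
    (G : Fin n → MvPolynomial (Fin n) A) (D w : MvPolynomial (Fin n) A) (M : ℕ)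
    (hD : (Pres.jac G).det * D - C (t ^ M) * (1 + C t * w) ∈ Ideal.span (Set.range G))
    (K : ℕ) (P : Fin n → Polynomial A) (hP : ∀ i, (P i).Monic) (a : Fin n → MvPolynomial (Fin n) A)
    (hPa : ∀ i, C (t ^ K) * (Polynomial.aeval (X i : MvPolynomial (Fin n) A) (P i) - C t * a i) ∈
      Ideal.span (Set.range G)) :
    ∃ (E : Type u) (_ : CommRing E) (_ : Algebra R E) (_ : Algebra A E) (_ : IsScalarTower A R E)
      (x : Fin n → E), IsFinPart R t G E x := by
  classical
  obtain ⟨L, _, _, x, hLet, hGx, hunit, hsurj, hlift⟩ :=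
    exists_loc (fun i => map (algebraMap A R) (G i)) (map (algebraMap A R) D)
  letI : Algebra A L := ((algebraMap R L).comp (algebraMap A R)).toAlgebra
  have hARL : IsScalarTower A R L := IsScalarTower.of_algebraMap_eq fun _ => rfl
  -- evaluation of polynomials over `A`
  have hmap : ∀ (T : Type u) [CommRing T] [Algebra R T] [Algebra A T] [IsScalarTower A R T]
      (y : Fin n → T) (p : MvPolynomial (Fin n) A),
      aeval y (map (algebraMap A R) p) = aeval y p := fun T _ _ _ _ y p =>
    aeval_map_algebraMap R y p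
  have hjacmap : (Pres.jac fun i => map (algebraMap A R) (G i)).det =
      map (algebraMap A R) (Pres.jac G).det := by
    rw [RingHom.map_det]
    congr 1
    ext i j : 1
    exact pderiv_map
  rw [hjacmap, ← map_mul] at hunit hsurj hlift
  rw [hmap] at hunit
  simp only [hmap] at hGx
  obtain ⟨u, hu⟩ : IsUnit (algebraMap A R t) := IsLocalization.Away.algebraMap_isUnit t
  set τ : L := algebraMap A L t with hτ
  have hτu : IsUnit τ := by
    rw [hτ, IsScalarTower.algebraMap_apply A R L, ← hu]
    exact u.isUnit.map _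
  have hev : ∀ (T : Type u) [CommRing T] [Algebra A T] (y : Fin n → T), (∀ i, aeval y (G i) = 0) →
      ∀ p ∈ Ideal.span (Set.range G), aeval y p = 0 := by
    intro T _ _ y hy p hp
    have : Ideal.span (Set.range G) ≤ RingHom.ker (aeval (R := A) y) := by
      rw [Ideal.span_le]
      rintro _ ⟨i, rfl⟩
      exact hy i
    exact this hp
  have hdet : ∀ (T : Type u) [CommRing T] [Algebra A T] (y : Fin n → T), (∀ i, aeval y (G i) = 0) →
      aeval y ((Pres.jac G).det * D) = algebraMap A T t ^ M * (1 + algebraMap A T t * aeval y w) := by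
    intro T _ _ y hy
    have := hev T y hy _ hD
    rw [map_sub, sub_eq_zero] at this
    rw [this, map_mul, map_add, map_mul, map_one, aeval_C, aeval_C, map_pow]
  -- the inverse of `1 + t w`
  have hgu : IsUnit (1 + τ * aeval x w) := by
    have := hdet L x hGx
    rw [this] at hunit
    exact isUnit_of_mul_isUnit_right hunit
  obtain ⟨z, hz⟩ := hgu.exists_right_inv
  let S : Subalgebra A L := Algebra.adjoin A (insert z (Set.range x))
  have hxS : ∀ i, x i ∈ S := fun i => Algebra.subset_adjoin (Set.mem_insert_of_mem _ ⟨i, rfl⟩)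
  have hzS : z ∈ S := Algebra.subset_adjoin (Set.mem_insert _ _)
  have hpS : ∀ p : MvPolynomial (Fin n) A, aeval x p ∈ S := by
    intro p
    have : aeval x p = S.val (aeval (fun i => (⟨x i, hxS i⟩ : S)) p) := by
      rw [← AlgHom.comp_apply, comp_aeval]
      rfl
    rw [this]
    exact (aeval (fun i => (⟨x i, hxS i⟩ : S)) p).2
  -- `L = S[1/t]`
  have hSL : ∀ l : L, ∃ k : ℕ, τ ^ k * l ∈ S := by
    intro l
    obtain ⟨m, p, hp⟩ := hsurj l
    obtain ⟨k, q, hq⟩ := Pres.exists_clear t p
    refine ⟨k + M * m, ?_⟩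
    rw [hmap, hdet L x hGx] at hp
    have h1 : aeval x q = τ ^ k * aeval x p := by
      rw [← hmap, hq, map_mul, aeval_C, map_pow, ← IsScalarTower.algebraMap_apply]
    have h2 : τ ^ (k + M * m) * l = z ^ m * aeval x q := by
      rw [h1, ← hp, mul_pow, ← pow_mul]
      have h3 : z ^ m * (1 + τ * aeval x w) ^ m = 1 := by
        rw [← mul_pow, mul_comm z, hz, one_pow]
      calc τ ^ (k + M * m) * l = (z ^ m * (1 + τ * aeval x w) ^ m) * (τ ^ (k + M * m) * l) := by
            rw [h3, one_mul]
        _ = _ := by rw [pow_add]; ring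
    rw [h2]
    exact S.mul_mem (S.pow_mem hzS m) (hpS q)
  have hloc : IsLocalization.Away (algebraMap A S t) L := by
    refine (isLocalization_iff _ _).mpr ⟨?_, ?_, ?_⟩
    · rintro ⟨_, k, rfl⟩
      change IsUnit (algebraMap S L (algebraMap A S t ^ k))
      rw [map_pow, ← IsScalarTower.algebraMap_apply]
      exact hτu.pow k
    · intro l
      obtain ⟨k, hk⟩ := hSL l
      refine ⟨⟨⟨_, hk⟩, ⟨_, k, rfl⟩⟩, ?_⟩
      change l * algebraMap S L (algebraMap A S t ^ k) = τ ^ k * l
      rw [map_pow, ← IsScalarTower.algebraMap_apply, mul_comm]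
    · intro a b hab
      exact ⟨1, by rw [Subtype.ext (show (a : L) = b from hab)]⟩
  -- `S/tS` is finite
  let J : Ideal S := Ideal.span {algebraMap A S t}
  let q : S →ₐ[A] S ⧸ J := Ideal.Quotient.mkₐ A J
  have hqJ : ∀ s ∈ J, q s = 0 := fun s hs => Ideal.Quotient.eq_zero_iff_mem.mpr hs
  have hqt : ∀ s : S, q (algebraMap A S t * s) = 0 := fun s =>
    hqJ _ (Ideal.mul_mem_right _ _ (Ideal.mem_span_singleton_self _))
  have hzq : q ⟨z, hzS⟩ = 1 := by
    have h1 : (⟨z, hzS⟩ : S) = 1 - algebraMap A S t * ⟨aeval x w * z, S.mul_mem (hpS w) hzS⟩ := by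
      apply Subtype.ext
      change z = 1 - τ * (aeval x w * z)
      linear_combination hz
    rw [h1, map_sub, hqt, map_one, sub_zero]
  have hfg : Algebra.FiniteType A S := by
    rw [← Subalgebra.fg_iff_finiteType]
    have hfin : (insert z (Set.range x)).Finite := (Set.finite_range x).insert z
    exact ⟨hfin.toFinset, by rw [Set.Finite.coe_toFinset]⟩
  have hqfg : Algebra.FiniteType A (S ⧸ J) :=
    Algebra.FiniteType.of_surjective q Ideal.Quotient.mk_surjective
  have hqint : Algebra.IsIntegral A (S ⧸ J) := by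
    have key : ∀ (s : L) (hs : s ∈ S), IsIntegral A (q ⟨s, hs⟩) := by
      intro s hs
      refine Algebra.adjoin_induction (p := fun s hs => IsIntegral A (q ⟨s, hs⟩)) ?_ ?_ ?_ ?_ hs
      · rintro y (rfl | ⟨i, rfl⟩)
        · rw [hzq]; exact isIntegral_one
        · refine ⟨P i, hP i, ?_⟩
          have h1 : Polynomial.aeval (x i) (P i) = τ * aeval x (a i) := by
            have h2 := hev L x hGx _ (hPa i)
            rw [map_mul, map_sub, aeval_C, map_mul, aeval_C, map_pow] at h2
            have h3 := (hτu.pow K).mul_right_eq_zero.mp h2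
            have h4 : aeval x (Polynomial.aeval (X i : MvPolynomial (Fin n) A) (P i)) =
                Polynomial.aeval (x i) (P i) := by
              rw [← Polynomial.aeval_algHom_apply, aeval_X]
            rw [h4] at h3
            exact sub_eq_zero.mp h3
          have h5 : Polynomial.aeval (⟨x i, hxS i⟩ : S) (P i) =
              algebraMap A S t * ⟨aeval x (a i), hpS _⟩ := by
            apply Subtype.ext
            have h6 : ((Polynomial.aeval (⟨x i, hxS i⟩ : S) (P i) : S) : L) =
                Polynomial.aeval (x i) (P i) :=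
              (Polynomial.aeval_algHom_apply S.val (⟨x i, hxS i⟩ : S) (P i)).symm
            rw [h6, h1]
            rfl
          change Polynomial.eval₂ (algebraMap A (S ⧸ J)) (q ⟨x i, hxS i⟩) (P i) = 0
          rw [← Polynomial.aeval_def, Polynomial.aeval_algHom_apply, h5, hqt]
      · intro r
        have : q ⟨algebraMap A L r, S.algebraMap_mem r⟩ = algebraMap A (S ⧸ J) r :=
          q.commutes r
        rw [this]
        exact isIntegral_algebraMap
      · intro y y' hy hy' h h'
        have : q ⟨y + y', S.add_mem hy hy'⟩ = q ⟨y, hy⟩ + q ⟨y', hy'⟩ :=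
          map_add q ⟨y, hy⟩ ⟨y', hy'⟩
        rw [this]
        exact h.add h'
      · intro y y' hy hy' h h'
        have : q ⟨y * y', S.mul_mem hy hy'⟩ = q ⟨y, hy⟩ * q ⟨y', hy'⟩ :=
          map_mul q ⟨y, hy⟩ ⟨y', hy'⟩
        rw [this]
        exact h.mul h'
    refine ⟨fun s => ?_⟩
    obtain ⟨s, rfl⟩ := Ideal.Quotient.mk_surjective s
    exact key s.1 s.2
  have hqfin : Module.Finite A (S ⧸ J) := Algebra.IsIntegral.finite
  have hRet : Algebra.Etale A R := Algebra.Etale.of_isLocalizationAway t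
  have hLet' : Algebra.Etale A L := Algebra.Etale.comp A R L
  have hqf : Algebra.QuasiFinite A S := quasiFinite_of_parts t hqfin L
  have hJ : J = (Ideal.span {t}).map (algebraMap A S) := by
    rw [Ideal.map_span, Set.image_singleton]
  obtain ⟨e, he, h1e, hefin⟩ := Groth.Agent.Hensel.FinitePart.exists_finite_part (Ideal.span {t}) S
    (hJ ▸ hqint)
  rw [← hJ] at h1e
  -- the finite part
  let E := L ⧸ Ideal.span {1 - (e : L)}
  have heL : IsIdempotentElem (e : L) := congrArg Subtype.val he
  let π : L →ₐ[R] E := Ideal.Quotient.mkₐ R _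
  have hπ0 : π (1 - (e : L)) = 0 :=
    Ideal.Quotient.eq_zero_iff_mem.mpr (Ideal.mem_span_singleton_self _)
  have hLE : IsLocalization.Away (e : L) E := IsLocalization.Away.quotient_of_isIdempotentElem heL
  have hEt1 : Algebra.Etale L E := Algebra.Etale.of_isLocalizationAway (e : L)
  have hEt : Algebra.Etale R E := Algebra.Etale.comp R L E
  have hARE : IsScalarTower A R E := IsScalarTower.of_algebraMap_eq fun _ => rfl
  let πA : L →ₐ[A] E := π.restrictScalars A
  let S₁ := S ⧸ Ideal.span {1 - e}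
  let ρ : S →ₐ[A] S₁ := Ideal.Quotient.mkₐ A _
  let j : S₁ →ₐ[A] E := Ideal.Quotient.liftₐ _ (πA.comp S.val) (by
    intro s hs
    obtain ⟨s', rfl⟩ := Ideal.mem_span_singleton.mp hs
    have h1 : πA (S.val (1 - e)) = 0 := hπ0
    rw [AlgHom.comp_apply, map_mul, map_mul, h1, zero_mul])
  have hj : ∀ s : S, j (ρ s) = π s := fun _ => rfl
  -- elements of `S` modulo `t` are polynomials in `x`
  have hpoly : ∀ (s : L), s ∈ S → ∃ (p : MvPolynomial (Fin n) A) (s' : L), s' ∈ S ∧
      s = aeval x p + τ * s' := by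
    intro s hs
    refine Algebra.adjoin_induction (p := fun s _ => ∃ (p : MvPolynomial (Fin n) A) (s' : L),
      s' ∈ S ∧ s = aeval x p + τ * s') ?_ ?_ ?_ ?_ hs
    · rintro y (rfl | ⟨i, rfl⟩)
      · refine ⟨1, -(aeval x w * y), S.neg_mem (S.mul_mem (hpS w) hzS), ?_⟩
        rw [map_one]
        linear_combination hz
      · exact ⟨X i, 0, S.zero_mem, by rw [aeval_X, mul_zero, add_zero]⟩
    · intro r
      exact ⟨C r, 0, S.zero_mem, by rw [aeval_C, mul_zero, add_zero]⟩
    · rintro y y' - - ⟨p, s, hs, rfl⟩ ⟨p', s', hs', rfl⟩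
      exact ⟨p + p', s + s', S.add_mem hs hs', by rw [map_add]; ring⟩
    · rintro y y' - - ⟨p, s, hs, rfl⟩ ⟨p', s', hs', rfl⟩
      refine ⟨p * p', aeval x p * s' + s * aeval x p' + τ * s * s', ?_, by rw [map_mul]; ring⟩
      refine S.add_mem (S.add_mem (S.mul_mem (hpS p) hs') (S.mul_mem hs (hpS p'))) ?_
      exact S.mul_mem (S.mul_mem (S.algebraMap_mem t) hs) hs'
  -- Nakayama
  let xS : Fin n → S := fun i => ⟨x i, hxS i⟩
  have hxSv : ∀ p : MvPolynomial (Fin n) A, ((aeval xS p : S) : L) = aeval x p := by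
    intro p
    change S.val (aeval xS p) = _
    rw [← AlgHom.comp_apply, comp_aeval]
    rfl
  let N : Submodule A S₁ := LinearMap.range (ρ.comp (aeval xS)).toLinearMap
  have hN : (⊤ : Submodule A S₁) ≤ N := by
    have hjacA : Ideal.span {t} ≤ Ideal.jacobson (⊥ : Ideal A) :=
      (inferInstance : HenselianRing A (Ideal.span {t})).jac
    refine Submodule.le_of_le_smul_of_le_jacobson_bot hefin.fg_top hjacA ?_
    rintro s -
    obtain ⟨s, rfl⟩ := Ideal.Quotient.mk_surjective s
    obtain ⟨p, s', hs', hs⟩ := hpoly s s.2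
    have h1 : s = aeval xS p + t • (⟨s', hs'⟩ : S) := by
      apply Subtype.ext
      rw [Algebra.smul_def]
      change (s : L) = ((aeval xS p : S) : L) + τ * s'
      rw [hxSv, hs]
    have h2 : Ideal.Quotient.mk (Ideal.span {1 - e}) s = ρ (aeval xS p) + t • ρ ⟨s', hs'⟩ := by
      change ρ s = _
      rw [h1, map_add, map_smul]
    rw [h2]
    refine Submodule.add_mem_sup ⟨p, rfl⟩ ?_
    exact Submodule.smul_mem_smul (Ideal.mem_span_singleton_self t) trivial
  let xE : Fin n → E := fun i => π (x i)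
  have hxEv : ∀ p : MvPolynomial (Fin n) A, aeval xE p = π (aeval x p) := by
    intro p
    have : aeval xE p = πA (aeval x p) := by
      rw [← AlgHom.comp_apply, comp_aeval]
      rfl
    rw [this]
    rfl
  have hSpoly : ∀ s ∈ S, ∃ p : MvPolynomial (Fin n) A, π s = aeval xE p := by
    intro s hs
    obtain ⟨p, hp⟩ := hN (show ρ ⟨s, hs⟩ ∈ ⊤ from trivial)
    refine ⟨p, ?_⟩
    have h1 : ρ (aeval xS p) = ρ ⟨s, hs⟩ := hp
    have h2 := congrArg j h1
    rw [hj, hj, hxSv] at h2
    rw [hxEv, h2]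
  have hRx : ∀ (p : MvPolynomial (Fin n) A), aeval xE p ∈ Algebra.adjoin R (Set.range xE) := by
    intro p
    rw [← hmap]
    rw [Algebra.adjoin_range_eq_range_aeval]
    exact ⟨_, rfl⟩
  have hEx : ∀ l : E, ∃ (c : R) (s : L), s ∈ S ∧ l = algebraMap R E c * π s := by
    intro l
    obtain ⟨l, rfl⟩ := Ideal.Quotient.mk_surjective l
    obtain ⟨k, hk⟩ := hSL l
    refine ⟨((u⁻¹ : Rˣ) : R) ^ k, _, hk, ?_⟩
    change π l = _
    rw [map_mul, map_pow, map_pow, ← mul_assoc, ← mul_pow]
    have h1 : algebraMap R E ((u⁻¹ : Rˣ) : R) * π τ = 1 := by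
      rw [hτ, IsScalarTower.algebraMap_apply A R L, AlgHom.commutes, ← hu, ← map_mul,
        Units.inv_mul, map_one]
    rw [h1, one_pow, one_mul]
  refine ⟨E, inferInstance, inferInstance, inferInstance, hARE, xE, ?_, hEt, ?_, ?_, ?_, ?_⟩
  · -- finite
    have hEint : Algebra.IsIntegral R E := by
      refine ⟨fun l => ?_⟩
      obtain ⟨c, s, hs, rfl⟩ := hEx l
      refine isIntegral_algebraMap.mul ?_
      have h1 : IsIntegral A (ρ ⟨s, hs⟩) := Algebra.IsIntegral.isIntegral _
      exact (h1.map j).tower_top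
    exact Algebra.IsIntegral.finite
  · -- integral
    intro i
    have h1 : IsIntegral A (ρ (xS i)) := Algebra.IsIntegral.isIntegral _
    exact h1.map j
  · -- generation
    rw [eq_top_iff]
    rintro l -
    obtain ⟨c, s, hs, rfl⟩ := hEx l
    obtain ⟨p, hp⟩ := hSpoly s hs
    rw [hp]
    exact Subalgebra.mul_mem _ (Subalgebra.algebraMap_mem _ c) (hRx p)
  · intro i
    rw [hxEv, hGx, map_zero]
  · intro T _ _ _ _ T₀ hT₀ y hy hGy
    have hpT : ∀ p : MvPolynomial (Fin n) A, aeval y p ∈ T₀ := by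
      intro p
      have : aeval y p = T₀.val (aeval (fun i => (⟨y i, hy i⟩ : T₀)) p) := by
        rw [← AlgHom.comp_apply, comp_aeval]
        rfl
      rw [this]
      exact (aeval (fun i => (⟨y i, hy i⟩ : T₀)) p).2
    have htT : IsUnit (algebraMap A T t) := by
      rw [IsScalarTower.algebraMap_apply A R T, ← hu]
      exact u.isUnit.map _
    obtain ⟨b, hb, hwb⟩ := hT₀ _ (hpT w)
    obtain ⟨ψ₂, hψ₂⟩ := hlift T y (fun i => by rw [hmap]; exact hGy i) (by
      rw [hmap, hdet T y hGy]
      exact (htT.pow M).mul (IsUnit.of_mul_eq_one b hwb))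
    have hψx : ∀ p : MvPolynomial (Fin n) A, ψ₂ (aeval x p) = aeval y p := by
      intro p
      have : (ψ₂.restrictScalars A).comp (aeval x) = aeval (R := A) y := by
        rw [comp_aeval]
        congr 1
        funext i
        exact hψ₂ i
      exact DFunLike.congr_fun this p
    have hψt : ψ₂ τ = algebraMap A T t := by
      rw [hτ, IsScalarTower.algebraMap_apply A R L, AlgHom.commutes,
        ← IsScalarTower.algebraMap_apply]
    have hψS : ∀ s ∈ S, ψ₂ s ∈ T₀ := by
      have : S ≤ T₀.comap (ψ₂.restrictScalars A) := by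
        refine Algebra.adjoin_le ?_
        rintro s (rfl | ⟨i, rfl⟩)
        · have h1 : (1 + algebraMap A T t * aeval y w) * ψ₂ s = 1 := by
            rw [← hψx, ← hψt, ← map_mul, ← map_one ψ₂, ← map_add, ← map_mul, hz]
          have h2 : ψ₂ s = b := by
            calc ψ₂ s = ((1 + algebraMap A T t * aeval y w) * b) * ψ₂ s := by rw [hwb, one_mul]
              _ = ((1 + algebraMap A T t * aeval y w) * ψ₂ s) * b := by ring
              _ = b := by rw [h1, one_mul]
          change ψ₂ s ∈ T₀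
          rw [h2]
          exact hb
        · change ψ₂ (x i) ∈ T₀
          rw [hψ₂]
          exact hy i
      exact fun s hs => this hs
    have hε : ψ₂ (1 - (e : L)) = 0 := by
      obtain ⟨s', hs'⟩ := Ideal.mem_span_singleton.mp h1e
      have h1 : 1 - (e : L) = τ * (s' : L) := congrArg Subtype.val hs'
      have h2 : ψ₂ (1 - (e : L)) = algebraMap A T t * ψ₂ s' := by rw [h1, map_mul, hψt]
      obtain ⟨b', -, hb'⟩ := hT₀ _ (T₀.neg_mem (hψS s' s'.2))
      have h3 : ψ₂ (1 - (e : L)) * ψ₂ (1 - (e : L)) = ψ₂ (1 - (e : L)) := by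
        rw [← map_mul]
        exact congrArg ψ₂ heL.one_sub
      have h4 : (1 - ψ₂ (1 - (e : L))) * b' = 1 := by
        have h5 : 1 - ψ₂ (1 - (e : L)) = 1 + algebraMap A T t * -ψ₂ s' := by rw [h2]; ring
        rw [h5, hb']
      calc ψ₂ (1 - (e : L)) = ψ₂ (1 - (e : L)) * ((1 - ψ₂ (1 - (e : L))) * b') := by
            rw [h4, mul_one]
        _ = (ψ₂ (1 - (e : L)) - ψ₂ (1 - (e : L)) * ψ₂ (1 - (e : L))) * b' := by ring
        _ = 0 := by rw [h3, sub_self, zero_mul]
    refine ⟨Ideal.Quotient.liftₐ _ ψ₂ (fun a ha => ?_), fun i => ?_⟩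
    · obtain ⟨a', rfl⟩ := Ideal.mem_span_singleton.mp ha
      rw [map_mul, hε, zero_mul]
    · exact hψ₂ i

end Main

end K141.Split
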