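import Groth.Agent.Hensel.K141.LocUniv
import Mathlib.RingTheory.TensorProduct.Basic

/-!
The henselization (strict henselization) of `S_q` is a henselization of the localization of
`R_p^h ⊗_R S`, and bijectivity of maps between strict henselizations.
-/

universe u

noncomputable section

namespace K141.TensorLoc

open IsLocalRing TensorProduct K141.LocUniv

section

variable {R S : Type u} [CommRing R] [CommRing S] [Algebra R S] (p : Ideal R) [p.IsPrime]
  (q : Ideal S) [q.IsPrime] [q.LiesOver p]
  (Rh : Type u) [CommRing Rh] [IsLocalRing Rh] [Algebra (Localization.AtPrime p) Rh]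
  [IsLocalHom (algebraMap (Localization.AtPrime p) Rh)] [Algebra R Rh]
  [IsScalarTower R (Localization.AtPrime p) Rh]
  (Sh : Type u) [CommRing Sh] [IsLocalRing Sh] [Algebra (Localization.AtPrime q) Sh]
  [IsLocalHom (algebraMap (Localization.AtPrime q) Sh)] [Algebra S Sh]
  [IsScalarTower S (Localization.AtPrime q) Sh]

omit [q.LiesOver p] [IsLocalRing Rh] [IsScalarTower R (Localization.AtPrime p) Rh]
    [Algebra (Localization.AtPrime p) Rh]  [IsLocalHom (algebraMap (Localization.AtPrime p) Rh)]
    [IsLocalRing Sh] [Algebra (Localization.AtPrime q) Sh]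
  [IsLocalHom (algebraMap (Localization.AtPrime q) Sh)] [Algebra S Sh]
  [IsScalarTower S (Localization.AtPrime q) Sh] in
theorem tensor_epi (Q : Ideal (Rh ⊗[R] S)) [Q.IsPrime] (T : Type u) [CommRing T]
    (f g : Localization.AtPrime Q →+* T)
    (h1 : f.comp ((algebraMap (Rh ⊗[R] S) (Localization.AtPrime Q)).comp
        (Algebra.TensorProduct.includeLeft : Rh →ₐ[R] Rh ⊗[R] S).toRingHom) =
      g.comp ((algebraMap (Rh ⊗[R] S) (Localization.AtPrime Q)).comp
        (Algebra.TensorProduct.includeLeft : Rh →ₐ[R] Rh ⊗[R] S).toRingHom))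
    (h2 : f.comp ((algebraMap (Rh ⊗[R] S) (Localization.AtPrime Q)).comp
        (Algebra.TensorProduct.includeRight : S →ₐ[R] Rh ⊗[R] S).toRingHom) =
      g.comp ((algebraMap (Rh ⊗[R] S) (Localization.AtPrime Q)).comp
        (Algebra.TensorProduct.includeRight : S →ₐ[R] Rh ⊗[R] S).toRingHom)) : f = g := by
  apply K141.LocUniv.loc_hom_ext Q
  apply RingHom.ext
  intro x
  induction x using TensorProduct.induction_on with
  | zero => simp
  | add x y hx hy => rw [map_add, map_add, hx, hy]
  | tmul x y =>
    have e : x ⊗ₜ[R] y = (x ⊗ₜ[R] (1 : S)) * ((1 : Rh) ⊗ₜ[R] y) := by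
      rw [Algebra.TensorProduct.tmul_mul_tmul, one_mul, mul_one]
    rw [e, map_mul, map_mul]
    congr 1
    · exact congr($h1 x)
    · exact congr($h2 y)

omit [q.IsPrime] [q.LiesOver p] [IsLocalRing Rh] [IsScalarTower R (Localization.AtPrime p) Rh]
    [p.IsPrime]
    [Algebra (Localization.AtPrime p) Rh]  [IsLocalHom (algebraMap (Localization.AtPrime p) Rh)]
    [IsLocalRing Sh] [Algebra (Localization.AtPrime q) Sh]
  [IsLocalHom (algebraMap (Localization.AtPrime q) Sh)] [Algebra S Sh]
  [IsScalarTower S (Localization.AtPrime q) Sh] in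
theorem tensor_comm (Q : Ideal (Rh ⊗[R] S)) [Q.IsPrime] :
    ((algebraMap (Rh ⊗[R] S) (Localization.AtPrime Q)).comp
      (Algebra.TensorProduct.includeLeft : Rh →ₐ[R] Rh ⊗[R] S).toRingHom).comp (algebraMap R Rh) =
    ((algebraMap (Rh ⊗[R] S) (Localization.AtPrime Q)).comp
      (Algebra.TensorProduct.includeRight : S →ₐ[R] Rh ⊗[R] S).toRingHom).comp (algebraMap R S) := by
  ext r
  simp only [RingHom.comp_apply]
  congr 1
  change (algebraMap R Rh r) ⊗ₜ[R] (1 : S) = (1 : Rh) ⊗ₜ[R] (algebraMap R S r)
  rw [Algebra.algebraMap_eq_smul_one, Algebra.algebraMap_eq_smul_one, TensorProduct.smul_tmul]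

/-- `S_q^h` is a henselization of the localization of `R_p^h ⊗_R S`. -/
theorem exists_isHenselization [Hensel.IsHenselization (Localization.AtPrime p) Rh]
    [Hensel.IsHenselization (Localization.AtPrime q) Sh] (φ : Rh ⊗[R] S →+* Sh)
    (hφ : ∀ s : S, φ (1 ⊗ₜ s) = algebraMap S Sh s) (Q : Ideal (Rh ⊗[R] S)) [Q.IsPrime]
    (hQ : ∀ d, d ∈ Q ↔ φ d ∈ maximalIdeal Sh) :
    ∃ (_ : Algebra (Localization.AtPrime Q) Sh)
      (_ : IsLocalHom (algebraMap (Localization.AtPrime Q) Sh)),
      Hensel.IsHenselization (Localization.AtPrime Q) Sh ∧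
        (algebraMap (Localization.AtPrime Q) Sh).comp (algebraMap (Rh ⊗[R] S) _) = φ := by
  obtain ⟨ψ, hψ, hψl⟩ := exists_lift_loc Q φ hQ
  let _ : Algebra (Localization.AtPrime Q) Sh := ψ.toAlgebra
  have hl : IsLocalHom (algebraMap (Localization.AtPrime Q) Sh) := hψl
  refine ⟨inferInstance, inferInstance, ?_, hψ⟩
  refine isHenselization_of_epi p q Rh Sh (Localization.AtPrime Q)
      ((algebraMap (Rh ⊗[R] S) _).comp Algebra.TensorProduct.includeLeft.toRingHom)
      ((algebraMap (Rh ⊗[R] S) _).comp Algebra.TensorProduct.includeRight.toRingHom) ?_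
      (tensor_comm Rh Q) (tensor_epi Rh Q)
  rw [← RingHom.comp_assoc]
  change (ψ.comp _).comp _ = _
  rw [hψ]
  ext s
  exact hφ s

/-- `S_q^{sh}` is a strict henselization of the localization of `R_p^{sh} ⊗_R S`. -/
theorem exists_isStrictHenselization [Hensel.IsStrictHenselization (Localization.AtPrime p) Rh]
    [Hensel.IsStrictHenselization (Localization.AtPrime q) Sh] (φ : Rh ⊗[R] S →+* Sh)
    (hφ : ∀ s : S, φ (1 ⊗ₜ s) = algebraMap S Sh s) (Q : Ideal (Rh ⊗[R] S)) [Q.IsPrime]
    (hQ : ∀ d, d ∈ Q ↔ φ d ∈ maximalIdeal Sh) :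
    ∃ (_ : Algebra (Localization.AtPrime Q) Sh)
      (_ : IsLocalHom (algebraMap (Localization.AtPrime Q) Sh)),
      Hensel.IsStrictHenselization (Localization.AtPrime Q) Sh ∧
        (algebraMap (Localization.AtPrime Q) Sh).comp (algebraMap (Rh ⊗[R] S) _) = φ := by
  obtain ⟨ψ, hψ, hψl⟩ := exists_lift_loc Q φ hQ
  let _ : Algebra (Localization.AtPrime Q) Sh := ψ.toAlgebra
  have hl : IsLocalHom (algebraMap (Localization.AtPrime Q) Sh) := hψl
  refine ⟨inferInstance, inferInstance, ?_, hψ⟩
  refine isStrictHenselization_of_epi p q Rh Sh (Localization.AtPrime Q)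
      ((algebraMap (Rh ⊗[R] S) _).comp Algebra.TensorProduct.includeLeft.toRingHom)
      ((algebraMap (Rh ⊗[R] S) _).comp Algebra.TensorProduct.includeRight.toRingHom) ?_
      (tensor_comm Rh Q) (tensor_epi Rh Q)
  rw [← RingHom.comp_assoc]
  change (ψ.comp _).comp _ = _
  rw [hψ]
  ext s
  exact hφ s

/-- Every henselization of the localization of `R_p^h ⊗_R S` is `S_q^h`. -/
theorem exists_ringEquiv_henselization [Hensel.IsHenselization (Localization.AtPrime p) Rh]
    [Hensel.IsHenselization (Localization.AtPrime q) Sh] [Algebra R Sh]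
    (φ : Rh ⊗[R] S →ₐ[R] Sh)
    (hφ : ∀ s : S, φ (1 ⊗ₜ s) = algebraMap S Sh s)
    (E : Type u) [CommRing E] [IsLocalRing E]
    [Algebra (Localization.AtPrime (Ideal.comap φ (maximalIdeal Sh))) E]
    [IsLocalHom (algebraMap (Localization.AtPrime (Ideal.comap φ (maximalIdeal Sh))) E)]
    [Hensel.IsHenselization (Localization.AtPrime (Ideal.comap φ (maximalIdeal Sh))) E] :
    ∃ e : E ≃+* Sh, ∀ d : Rh ⊗[R] S,
      e (algebraMap (Localization.AtPrime (Ideal.comap φ (maximalIdeal Sh))) E
        (algebraMap (Rh ⊗[R] S) _ d)) = φ d := by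
  obtain ⟨_, _, hH, hψ⟩ := exists_isHenselization p q Rh Sh φ.toRingHom hφ
    (Ideal.comap φ (maximalIdeal Sh)) (fun d => Iff.rfl)
  obtain ⟨e⟩ := Groth.Agent.Hensel.Exist.nonempty_algEquiv_of_isHenselization
    (Localization.AtPrime (Ideal.comap φ (maximalIdeal Sh))) E Sh
  exact ⟨e.toRingEquiv, fun d => (e.commutes _).trans congr($hψ d)⟩

/-- Every strict henselization of the localization of `R_p^{sh} ⊗_R S` is `S_q^{sh}`. -/
theorem exists_ringEquiv_strictHenselization
    [Hensel.IsStrictHenselization (Localization.AtPrime p) Rh]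
    [Hensel.IsStrictHenselization (Localization.AtPrime q) Sh] [Algebra R Sh]
    (φ : Rh ⊗[R] S →ₐ[R] Sh)
    (hφ : ∀ s : S, φ (1 ⊗ₜ s) = algebraMap S Sh s)
    (E : Type u) [CommRing E] [IsLocalRing E]
    [Algebra (Localization.AtPrime (Ideal.comap φ (maximalIdeal Sh))) E]
    [IsLocalHom (algebraMap (Localization.AtPrime (Ideal.comap φ (maximalIdeal Sh))) E)]
    [Hensel.IsStrictHenselization (Localization.AtPrime (Ideal.comap φ (maximalIdeal Sh))) E] :
    ∃ e : E ≃+* Sh, ∀ d : Rh ⊗[R] S,
      e (algebraMap (Localization.AtPrime (Ideal.comap φ (maximalIdeal Sh))) E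
        (algebraMap (Rh ⊗[R] S) _ d)) = φ d := by
  obtain ⟨_, _, hH, hψ⟩ := exists_isStrictHenselization p q Rh Sh φ.toRingHom hφ
    (Ideal.comap φ (maximalIdeal Sh)) (fun d => Iff.rfl)
  obtain ⟨e⟩ := Groth.Agent.Hensel.Exist.exists_algEquiv_of_isStrictHenselization
    (Localization.AtPrime (Ideal.comap φ (maximalIdeal Sh))) E Sh
  exact ⟨e.toRingEquiv, fun d => (e.commutes _).trans congr($hψ d)⟩

end

section Bijective

/-- The structure map from a henselian local ring to its henselization is bijective. -/
theorem bijective_of_isHenselization (R S : Type u) [CommRing R] [HenselianLocalRing R] [CommRing S]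
    [IsLocalRing S] [Algebra R S] [IsLocalHom (algebraMap R S)] [Hensel.IsHenselization R S] :
    Function.Bijective (algebraMap R S) := by
  obtain ⟨g, hg, -⟩ := Hensel.IsHenselization.universal (R := R) (S := S) R (RingHom.id R)
    inferInstance
  have hS : HenselianLocalRing S := Hensel.IsHenselization.henselian R
  obtain ⟨g', -, hgu⟩ := Hensel.IsHenselization.universal (R := R) (S := S) S (algebraMap R S)
    inferInstance
  have h1 := hgu (RingHom.id S) (RingHom.id_comp _)
  have h2 := hgu ((algebraMap R S).comp g) (by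
    dsimp only
    rw [RingHom.comp_assoc, hg, RingHom.comp_id])
  rw [← h1] at h2
  exact ⟨Function.LeftInverse.injective (g := g) fun r => congr($hg r),
    fun s => ⟨g s, congr($h2 s)⟩⟩

/-- A local map over `R` between strict henselizations of `R` is bijective. -/
theorem bijective_of_isStrictHenselization (R S S' : Type u) [CommRing R] [IsLocalRing R]
    [CommRing S] [IsLocalRing S] [Algebra R S] [IsLocalHom (algebraMap R S)]
    [Hensel.IsStrictHenselization R S] [CommRing S'] [IsLocalRing S'] [Algebra R S']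
    [IsLocalHom (algebraMap R S')] [Hensel.IsStrictHenselization R S'] (g : S →+* S')
    [IsLocalHom g] (hg : g.comp (algebraMap R S) = algebraMap R S') : Function.Bijective g := by
  have hS : HenselianLocalRing S := Hensel.IsStrictHenselization.henselian R
  have hS' : HenselianLocalRing S' := Hensel.IsStrictHenselization.henselian R
  obtain ⟨c1, c2⟩ := (isSepClosure_iff).mp (Hensel.IsStrictHenselization.isSepClosure
      (R := R) (S := S))
  obtain ⟨c1', c2'⟩ := (isSepClosure_iff).mp (Hensel.IsStrictHenselization.isSepClosure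
      (R := R) (S := S'))
  have hb : Function.Bijective (ResidueField.map g) := by
    let _ : Algebra (ResidueField S) (ResidueField S') := (ResidueField.map g).toAlgebra
    have : IsScalarTower (ResidueField R) (ResidueField S) (ResidueField S') := by
      refine IsScalarTower.of_algebraMap_eq fun x => ?_
      obtain ⟨x, rfl⟩ := residue_surjective x
      change residue S' (algebraMap _ S' x) = residue S' (g (algebraMap R S x))
      rw [← hg]
      rfl
    have : Algebra.IsSeparable (ResidueField S) (ResidueField S') :=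
      Algebra.isSeparable_tower_top_of_isSeparable (ResidueField R) _ _
    exact IsSepClosed.algebraMap_bijective (ResidueField S) (ResidueField S')
  let e := RingEquiv.ofBijective _ hb
  obtain ⟨g', ⟨hg', hg'r⟩, -⟩ := Hensel.IsStrictHenselization.universal (R := R) (S := S') S
    (algebraMap R S) e.symm.toRingHom (by
      apply RingHom.ext
      intro x
      obtain ⟨x, rfl⟩ := residue_surjective x
      change e.symm _ = _
      rw [RingEquiv.symm_apply_eq]
      change residue S' (algebraMap R S' x) = residue S' (g (algebraMap R S x))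
      rw [← hg]
      rfl)
  have he : ∀ s : S, e (residue S s) = residue S' (g s) := fun s => rfl
  obtain ⟨t, -, ht⟩ := Hensel.IsStrictHenselization.universal (R := R) (S := S) S
    (algebraMap R S) (RingHom.id _) (by rw [RingHom.id_comp])
  obtain ⟨t', -, ht'⟩ := Hensel.IsStrictHenselization.universal (R := R) (S := S') S'
    (algebraMap R S') (RingHom.id _) (by rw [RingHom.id_comp])
  have h1 : g'.comp g = RingHom.id S := by
    rw [ht (g'.comp g) ⟨by rw [RingHom.comp_assoc, hg, hg'], fun x => ?_⟩,
      ht (RingHom.id S) ⟨RingHom.id_comp _, fun x => rfl⟩]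
    rw [RingHom.comp_apply, hg'r, ← he]
    exact e.symm_apply_apply _
  have h2 : g.comp g' = RingHom.id S' := by
    rw [ht' (g.comp g') ⟨by rw [RingHom.comp_assoc, hg', hg], fun x => ?_⟩,
      ht' (RingHom.id S') ⟨RingHom.id_comp _, fun x => rfl⟩]
    rw [RingHom.comp_apply, ← he, hg'r]
    exact e.apply_symm_apply _
  exact ⟨Function.LeftInverse.injective (g := g') fun r => congr($h1 r),
    fun s => ⟨g' s, congr($h2 s)⟩⟩

/-- The structure map from a strictly henselian local ring to a strict henselization is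
bijective. -/
theorem bijective_algebraMap_of_isStrictHenselization (R S : Type u) [CommRing R]
    [HenselianLocalRing R] [IsSepClosed (ResidueField R)] [CommRing S] [IsLocalRing S]
    [Algebra R S] [IsLocalHom (algebraMap R S)] [Hensel.IsStrictHenselization R S] :
    Function.Bijective (algebraMap R S) := by
  have hS : HenselianLocalRing S := Hensel.IsStrictHenselization.henselian R
  obtain ⟨c1, c2⟩ := (isSepClosure_iff).mp (Hensel.IsStrictHenselization.isSepClosure
      (R := R) (S := S))
  have hb : Function.Bijective (algebraMap (ResidueField R) (ResidueField S)) :=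
    IsSepClosed.algebraMap_bijective (ResidueField R) (ResidueField S)
  let e := RingEquiv.ofBijective _ hb
  have he : ∀ s : R, e (residue R s) = residue S (algebraMap R S s) := fun s => rfl
  obtain ⟨g, ⟨hg, hgr⟩, -⟩ := Hensel.IsStrictHenselization.universal (R := R) (S := S) R
    (RingHom.id R) e.symm.toRingHom (by
      apply RingHom.ext
      intro x
      obtain ⟨x, rfl⟩ := residue_surjective x
      change e.symm _ = _
      rw [RingEquiv.symm_apply_eq]
      rfl)
  obtain ⟨t, -, ht⟩ := Hensel.IsStrictHenselization.universal (R := R) (S := S) S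
    (algebraMap R S) (RingHom.id _) (by rw [RingHom.id_comp])
  have h2 : (algebraMap R S).comp g = RingHom.id S := by
    rw [ht ((algebraMap R S).comp g) ⟨by rw [RingHom.comp_assoc, hg, RingHom.comp_id],
      fun x => ?_⟩, ht (RingHom.id S) ⟨RingHom.id_comp _, fun x => rfl⟩]
    rw [RingHom.comp_apply, ← he, hgr]
    exact e.apply_symm_apply _
  exact ⟨Function.LeftInverse.injective (g := g) fun r => congr($hg r),
    fun s => ⟨g s, congr($h2 s)⟩⟩

end Bijective

end K141.TensorLoc
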