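import Groth.Agent.Hensel.LocalSplit
import Groth.Agent.UnramB.IntHensel
import Groth.Agent.Hensel.K141.TensorLoc
import Mathlib.FieldTheory.PurelyInseparable.Basic

/-!
Localizations of finite type algebras over henselian local rings at quasi-finite primes.
-/

universe u

noncomputable section

namespace K141.FiniteLoc

open IsLocalRing TensorProduct K141.LocUniv

/-- The local ring of a finite type algebra over a henselian local ring at a quasi-finite prime over
the closed point is finite. -/
theorem finite_localization {R : Type u} [CommRing R] [HenselianLocalRing R] {S : Type u}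
    [CommRing S] [Algebra R S] [Algebra.FiniteType R S] (q : Ideal S) [q.IsPrime]
    [q.LiesOver (maximalIdeal R)] [Algebra.QuasiFiniteAt R q] :
    Module.Finite R (Localization.AtPrime q) := by
  obtain ⟨e, he, heq, hfin, hq⟩ :=
    Groth.Agent.Hensel.LocalSplit.exists_isIdempotentElem_of_quasiFiniteAt (R := R) q
  let f : (S ⧸ Ideal.span {1 - e}) →ₐ[R] Localization.AtPrime q :=
    Ideal.Quotient.liftₐ _ (IsScalarTower.toAlgHom R S (Localization.AtPrime q)) (by
      intro x hx
      obtain ⟨y, rfl⟩ := Ideal.mem_span_singleton.mp hx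
      have h1 : algebraMap S (Localization.AtPrime q) (1 - e) = 0 := by
        rw [IsLocalization.map_eq_zero_iff q.primeCompl]
        exact ⟨⟨e, heq⟩, he.mul_one_sub_self⟩
      change algebraMap S (Localization.AtPrime q) ((1 - e) * y) = 0
      rw [map_mul, h1, zero_mul])
  refine Module.Finite.of_surjective f.toLinearMap fun x => ?_
  obtain ⟨a, s, rfl⟩ := IsLocalization.exists_mk'_eq q.primeCompl x
  have hs : IsUnit (Ideal.Quotient.mk (Ideal.span {1 - e}) (s : S)) := by
    by_contra hns
    obtain ⟨M, hM, hsM⟩ := exists_max_ideal_of_mem_nonunits hns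
    have h1 : M.LiesOver (maximalIdeal R) :=
      Groth.Agent.Hensel.LocalSplit.comap_eq_maximalIdeal M
    have h2 : (M.comap (Ideal.Quotient.mk (Ideal.span {1 - e}))).LiesOver (maximalIdeal R) := by
      constructor
      rw [h1.over]
      rfl
    have h3 : e ∉ M.comap (Ideal.Quotient.mk (Ideal.span {1 - e})) := by
      intro h4
      have h5 : Ideal.Quotient.mk (Ideal.span {1 - e}) (1 - e) = 0 :=
        Ideal.Quotient.eq_zero_iff_mem.mpr (Ideal.mem_span_singleton_self _)
      rw [map_sub, map_one, sub_eq_zero] at h5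
      rw [Ideal.mem_comap, ← h5] at h4
      exact hM.ne_top (M.eq_top_iff_one.mpr h4)
    have h4 := hq _ (hM.isPrime.comap _) h2 h3
    exact s.2 (h4 ▸ hsM)
  obtain ⟨u, hu⟩ := hs
  obtain ⟨v, hv⟩ := Ideal.Quotient.mk_surjective (u⁻¹ : (S ⧸ Ideal.span {1 - e})ˣ).val
  refine ⟨Ideal.Quotient.mk _ (a * v), ?_⟩
  change algebraMap S (Localization.AtPrime q) (a * v) = _
  rw [IsLocalization.eq_mk'_iff_mul_eq, ← map_mul]
  change f (Ideal.Quotient.mk _ (a * v * s)) = f (Ideal.Quotient.mk _ a)
  congr 1
  rw [map_mul, map_mul, hv, ← hu, mul_assoc, Units.inv_mul, mul_one]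

/-- A henselian local ring with separably closed residue field: local algebras which are integral
over it have the same property. -/
theorem isSepClosed_of_isIntegral (A B : Type u) [CommRing A] [IsLocalRing A]
    [IsSepClosed (ResidueField A)] [CommRing B] [IsLocalRing B] [Algebra A B]
    [IsLocalHom (algebraMap A B)] [Algebra.IsIntegral A B] : IsSepClosed (ResidueField B) := by
  have h1 : Algebra.IsIntegral (ResidueField A) (ResidueField B) := by
    constructor
    intro x
    obtain ⟨x, rfl⟩ := residue_surjective x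
    have h2 : IsIntegral A (residue B x) := (Algebra.IsIntegral.isIntegral (R := A) x).map
      (IsScalarTower.toAlgHom A B (ResidueField B))
    exact h2.tower_top
  have : Algebra.IsAlgebraic (ResidueField A) (ResidueField B) := h1.isAlgebraic
  exact Algebra.IsAlgebraic.isSepClosed (F := ResidueField A) (E := ResidueField B)

section

variable {R S : Type u} [CommRing R] [CommRing S] [Algebra R S] (p : Ideal R) [p.IsPrime]
  (q : Ideal S) [q.IsPrime] [q.LiesOver p]
  (Rh : Type u) [CommRing Rh] [IsLocalRing Rh] [Algebra (Localization.AtPrime p) Rh]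
  [IsLocalHom (algebraMap (Localization.AtPrime p) Rh)] [Algebra R Rh]
  [IsScalarTower R (Localization.AtPrime p) Rh]
  (Sh : Type u) [CommRing Sh] [IsLocalRing Sh] [Algebra (Localization.AtPrime q) Sh]
  [IsLocalHom (algebraMap (Localization.AtPrime q) Sh)] [Algebra S Sh]
  [IsScalarTower S (Localization.AtPrime q) Sh]

omit [IsLocalHom (algebraMap (Localization.AtPrime p) Rh)] in
include q in
theorem isLocalHom_of_map_maximalIdeal (g : Rh →+* Sh)
    (hg : g.comp (algebraMap R Rh) = (algebraMap S Sh).comp (algebraMap R S))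
    (hm : (maximalIdeal (Localization.AtPrime p)).map (algebraMap _ Rh) = maximalIdeal Rh) :
    IsLocalHom g := by
  apply isLocalHom_of_map_le
  rw [← hm, Ideal.map_map, ← Localization.AtPrime.map_eq_maximalIdeal,
      Ideal.map_map, RingHom.comp_assoc, ← IsScalarTower.algebraMap_eq, hg,
      Ideal.map_le_iff_le_comap]
  intro r hr
  rw [Ideal.mem_comap, RingHom.comp_apply, ← mem_iff_of_loc q Sh]
  rw [Ideal.LiesOver.over (p := p) (P := q)] at hr
  exact hr

omit [IsLocalRing Rh] [Algebra (Localization.AtPrime p) Rh]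
  [IsLocalHom (algebraMap (Localization.AtPrime p) Rh)] [IsScalarTower R (Localization.AtPrime p) Rh]
  [p.IsPrime] [q.IsPrime] [q.LiesOver p] [IsLocalRing Sh] [Algebra (Localization.AtPrime q) Sh]
  [IsLocalHom (algebraMap (Localization.AtPrime q) Sh)]
  [IsScalarTower S (Localization.AtPrime q) Sh] in
/-- The map from the tensor product. -/
theorem exists_tensor_map (g : Rh →+* Sh)
    (hg : g.comp (algebraMap R Rh) = (algebraMap S Sh).comp (algebraMap R S)) :
    ∃ φ : Rh ⊗[R] S →+* Sh, (∀ x, φ (x ⊗ₜ 1) = g x) ∧ ∀ s, φ (1 ⊗ₜ s) = algebraMap S Sh s := by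
  let _ : Algebra R Sh := ((algebraMap S Sh).comp (algebraMap R S)).toAlgebra
  have : IsScalarTower R S Sh := IsScalarTower.of_algebraMap_eq fun _ => rfl
  let g' : Rh →ₐ[R] Sh := { g with commutes' := fun r => congr($hg r) }
  exact ⟨(Algebra.TensorProduct.lift g' (IsScalarTower.toAlgHom R S Sh)
    (fun _ _ => Commute.all _ _)).toRingHom, fun x => by simp [g'], fun s => by simp⟩

omit [Algebra S Sh] in
theorem liesOver_maximalIdeal (g : Rh →+* Sh) [IsLocalHom g] (φ : Rh ⊗[R] S →+* Sh)
    (hφ : ∀ x, φ (x ⊗ₜ 1) = g x) :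
    ((maximalIdeal Sh).comap φ).LiesOver (maximalIdeal Rh) := by
  constructor
  ext x
  rw [← mem_max_iff g, ← hφ]
  rfl

omit [IsLocalRing Rh] in
theorem comap_includeRight (φ : Rh ⊗[R] S →+* Sh) (hφ : ∀ s, φ (1 ⊗ₜ s) = algebraMap S Sh s) :
    q = ((maximalIdeal Sh).comap φ).comap
      (Algebra.TensorProduct.includeRight : S →ₐ[R] Rh ⊗[R] S).toRingHom := by
  ext s
  rw [mem_iff_of_loc q Sh, ← hφ]
  rfl

/-- Quasi-finite case: the map of henselizations is finite. -/
theorem finite_henselization [Algebra.FiniteType R S] [Algebra.QuasiFiniteAt R q]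
    [Hensel.IsHenselization (Localization.AtPrime p) Rh]
    [Hensel.IsHenselization (Localization.AtPrime q) Sh] (g : Rh →+* Sh)
    (hg : g.comp (algebraMap R Rh) = (algebraMap S Sh).comp (algebraMap R S)) : g.Finite := by
  have hRh : HenselianLocalRing Rh := Hensel.IsHenselization.henselian (Localization.AtPrime p)
  have hgl := isLocalHom_of_map_maximalIdeal p q Rh Sh g hg
    (Groth.Agent.Hensel.Exist.map_maximalIdeal_of_isHenselization _ _)
  obtain ⟨φ, hφ1, hφ2⟩ := exists_tensor_map Rh Sh g hg
  have h1 := liesOver_maximalIdeal Rh Sh g φ hφ1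
  have h2 := Algebra.QuasiFiniteAt.baseChange (R := R) q (A := Rh) ((maximalIdeal Sh).comap φ)
    (comap_includeRight q Rh Sh φ hφ2)
  have h3 := finite_localization (R := Rh) ((maximalIdeal Sh).comap φ)
  obtain ⟨_, _, h4, h5⟩ := TensorLoc.exists_isHenselization p q Rh Sh φ hφ2
    ((maximalIdeal Sh).comap φ) (fun d => Iff.rfl)
  have h6 : HenselianLocalRing (Localization.AtPrime ((maximalIdeal Sh).comap φ)) :=
    Groth.Agent.UnramB.IntHensel.henselianLocalRing_of_isIntegral Rh _
  have h7 := TensorLoc.bijective_of_isHenselization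
    (Localization.AtPrime ((maximalIdeal Sh).comap φ)) Sh
  have h8 : g = (algebraMap (Localization.AtPrime ((maximalIdeal Sh).comap φ)) Sh).comp
      (algebraMap Rh _) := by
    rw [IsScalarTower.algebraMap_eq Rh (Rh ⊗[R] S), ← RingHom.comp_assoc, h5]
    ext x
    exact (hφ1 x).symm
  rw [h8]
  exact (RingHom.Finite.of_surjective _ h7.2).comp (RingHom.finite_algebraMap.mpr h3)

/-- Quasi-finite case: the map of strict henselizations is finite. -/
theorem finite_strictHenselization [Algebra.FiniteType R S] [Algebra.QuasiFiniteAt R q]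
    [Hensel.IsStrictHenselization (Localization.AtPrime p) Rh]
    [Hensel.IsStrictHenselization (Localization.AtPrime q) Sh] (g : Rh →+* Sh)
    (hg : g.comp (algebraMap R Rh) = (algebraMap S Sh).comp (algebraMap R S)) : g.Finite := by
  have hRh : HenselianLocalRing Rh :=
    Hensel.IsStrictHenselization.henselian (Localization.AtPrime p)
  have hRs : IsSepClosed (ResidueField Rh) := ((isSepClosure_iff).mp
    (Hensel.IsStrictHenselization.isSepClosure (R := Localization.AtPrime p) (S := Rh))).1
  have hgl := isLocalHom_of_map_maximalIdeal p q Rh Sh g hg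
    (Groth.Agent.Hensel.Exist.map_maximalIdeal_of_isStrictHenselization _ _)
  obtain ⟨φ, hφ1, hφ2⟩ := exists_tensor_map Rh Sh g hg
  have h1 := liesOver_maximalIdeal Rh Sh g φ hφ1
  have h2 := Algebra.QuasiFiniteAt.baseChange (R := R) q (A := Rh) ((maximalIdeal Sh).comap φ)
    (comap_includeRight q Rh Sh φ hφ2)
  have h3 := finite_localization (R := Rh) ((maximalIdeal Sh).comap φ)
  obtain ⟨_, _, h4, h5⟩ := TensorLoc.exists_isStrictHenselization p q Rh Sh φ hφ2
    ((maximalIdeal Sh).comap φ) (fun d => Iff.rfl)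
  have h6 : HenselianLocalRing (Localization.AtPrime ((maximalIdeal Sh).comap φ)) :=
    Groth.Agent.UnramB.IntHensel.henselianLocalRing_of_isIntegral Rh _
  have h9 : IsLocalHom (algebraMap Rh (Localization.AtPrime ((maximalIdeal Sh).comap φ))) := by
    apply isLocalHom_of_map_le
    rw [Ideal.map_le_iff_le_comap]
    intro x hx
    rw [Ideal.mem_comap, IsScalarTower.algebraMap_apply Rh (Rh ⊗[R] S),
      IsLocalization.AtPrime.to_map_mem_maximal_iff _ ((maximalIdeal Sh).comap φ),
      Ideal.mem_comap]
    rw [h1.over] at hx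
    exact hx
  have h10 : IsSepClosed (ResidueField (Localization.AtPrime ((maximalIdeal Sh).comap φ))) :=
    isSepClosed_of_isIntegral Rh _
  have h7 := TensorLoc.bijective_algebraMap_of_isStrictHenselization
    (Localization.AtPrime ((maximalIdeal Sh).comap φ)) Sh
  have h8 : g = (algebraMap (Localization.AtPrime ((maximalIdeal Sh).comap φ)) Sh).comp
      (algebraMap Rh _) := by
    rw [IsScalarTower.algebraMap_eq Rh (Rh ⊗[R] S), ← RingHom.comp_assoc, h5]
    ext x
    exact (hφ1 x).symm
  rw [h8]
  exact (RingHom.Finite.of_surjective _ h7.2).comp (RingHom.finite_algebraMap.mpr h3)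

end

end K141.FiniteLoc
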