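import Groth.Agent.Hensel.K141.GlueRed
import Groth.Agent.Hensel.K141.FEtClopen
import Groth.Agent.AlgSp.K641.GlueLocal
import Groth.Agent.AlgSp.K641.Glueable
import Groth.Agent.EtAlg.K363.GlueAlg

/-!
# Clopen subsets and glueing pairs

* `isClopen_of_glueingPair`: a subset of `Spec N` is clopen if its preimages in `Spec N'` and in
  `Spec N[1/s]` are, `(N → N', s)` a glueing pair.
* `clopenBij`: for `T` flat over `A`, `(A → B, t)` a glueing pair, clopen subsets of `T` and of
  `T ×_A B` correspond if this holds for `T[1/t]`.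
-/

set_option autoImplicit false
universe u

open CategoryTheory CategoryTheory.Limits AlgebraicGeometry TensorProduct
open K141.Clopen

namespace K141.GlueClopen

section Affine

variable {N N' : Type u} [CommRing N] [CommRing N'] [Algebra N N'] {s : N}

/-- Primes of `N'` containing `s` are determined by their contraction to `N`. -/
theorem eq_of_comap_eq (h : Cong (algebraMap N N') s) (q₁ q₂ : PrimeSpectrum N')
    (h₁ : s ∈ (q₁.comap (algebraMap N N')).asIdeal)
    (h₁₂ : q₁.comap (algebraMap N N') = q₂.comap (algebraMap N N')) : q₁ = q₂ := by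
  have key : ∀ q q' : PrimeSpectrum N', s ∈ (q.comap (algebraMap N N')).asIdeal →
      q.comap (algebraMap N N') = q'.comap (algebraMap N N') → q ≤ q' := by
    intro q q' hs hqq x hx
    have hs' : s ∈ (q'.comap (algebraMap N N')).asIdeal := hqq ▸ hs
    obtain ⟨n, y, hxy⟩ := h.surj 1 x
    rw [pow_one] at hxy
    have h2 : algebraMap N N' n ∈ q.asIdeal := by
      have : algebraMap N N' n = x - algebraMap N N' s * y := by rw [hxy]; ring
      rw [this]
      exact Ideal.sub_mem _ hx (Ideal.mul_mem_right _ _ hs)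
    have h3 : n ∈ (q.comap (algebraMap N N')).asIdeal := h2
    rw [hqq] at h3
    change x ∈ q'.asIdeal
    rw [hxy]
    exact Ideal.add_mem _ h3 (Ideal.mul_mem_right _ _ hs')
  exact le_antisymm (key q₁ q₂ h₁ h₁₂) (key q₂ q₁ (h₁₂ ▸ h₁) h₁₂.symm)

/-- Primes of `N` containing `s` lift to `N'`. -/
theorem exists_comap_eq (h : EtGlue.QuotPowBijective N N' s) (y : PrimeSpectrum N)
    (hy : s ∈ y.asIdeal) : ∃ y' : PrimeSpectrum N', y'.comap (algebraMap N N') = y := by
  obtain ⟨y', hy'⟩ := K641.GlueLocal.exists_point h (A := N) y hy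
  refine ⟨y'.comap (Algebra.TensorProduct.includeLeftRingHom : N' →+* N' ⊗[N] N), ?_⟩
  rw [← hy']
  rw [← PrimeSpectrum.comap_comp_apply]
  congr 1
  ext n
  change (algebraMap N N' n) ⊗ₜ[N] (1 : N) = (1 : N') ⊗ₜ[N] n
  rw [Algebra.algebraMap_eq_smul_one, TensorProduct.smul_tmul, smul_eq_mul, mul_one]

theorem basicOpen_inj {R : Type*} [CommRing R] {e e' : R} (he : IsIdempotentElem e)
    (he' : IsIdempotentElem e')
    (h : (PrimeSpectrum.basicOpen e : Set (PrimeSpectrum R)) = PrimeSpectrum.basicOpen e') :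
    e = e' :=
  PrimeSpectrum.basicOpen_injOn_isIdempotentElem he he' (TopologicalSpace.Opens.ext h)

theorem isClopen_of_glueingPair (h : EtGlue.IsGlueingPair N N' s) (Z : Set (PrimeSpectrum N))
    (h₁ : IsClopen (PrimeSpectrum.comap (algebraMap N N') ⁻¹' Z))
    (h₂ : IsClopen (PrimeSpectrum.comap (algebraMap N (Localization.Away s)) ⁻¹' Z)) :
    IsClopen Z := by
  obtain ⟨e', he', hZ'⟩ := PrimeSpectrum.isClopen_iff.mp h₁
  obtain ⟨e₁, he₁, hZ₁⟩ := PrimeSpectrum.isClopen_iff.mp h₂
  have h3 : algebraMap N' (Localization.Away (algebraMap N N' s)) e' =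
      Localization.awayMap (algebraMap N N') s e₁ := by
    refine basicOpen_inj (he'.map _) (he₁.map _) ?_
    have ha : (PrimeSpectrum.basicOpen (algebraMap N' (Localization.Away (algebraMap N N' s)) e') :
        Set (PrimeSpectrum (Localization.Away (algebraMap N N' s)))) =
        PrimeSpectrum.comap (algebraMap N' (Localization.Away (algebraMap N N' s))) ⁻¹'
        (PrimeSpectrum.basicOpen e') := rfl
    have hb : (PrimeSpectrum.basicOpen (Localization.awayMap (algebraMap N N') s e₁) :
        Set (PrimeSpectrum (Localization.Away (algebraMap N N' s)))) =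
        PrimeSpectrum.comap (Localization.awayMap (algebraMap N N') s) ⁻¹'
        (PrimeSpectrum.basicOpen e₁) := rfl
    rw [ha, hb, ← hZ', ← hZ₁, ← Set.preimage_comp, ← Set.preimage_comp]
    congr 1
    funext x
    change (x.comap _).comap _ = (x.comap _).comap _
    rw [← PrimeSpectrum.comap_comp_apply, ← PrimeSpectrum.comap_comp_apply]
    congr 1
    exact (IsLocalization.map_comp _).symm
  obtain ⟨e, h4, h5⟩ := h.2.2.1 e' e₁ h3
  have he : IsIdempotentElem e := by
    apply h.2.1
    ext1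
    · change algebraMap N N' (e * e) = algebraMap N N' e
      rw [map_mul, h4]; exact he'
    · change algebraMap N _ (e * e) = algebraMap N _ e
      rw [map_mul, h5]; exact he₁
  have hZ : Z = PrimeSpectrum.basicOpen e := by
    ext y
    by_cases hy : s ∈ y.asIdeal
    · obtain ⟨y', rfl⟩ := exists_comap_eq h.1 y hy
      have h6 : y' ∈ PrimeSpectrum.comap (algebraMap N N') ⁻¹' Z ↔ y' ∈ PrimeSpectrum.basicOpen e' :=
        by rw [hZ']; rfl
      refine h6.trans ?_
      rw [← h4]
      rfl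
    · have h7 : y ∈ Set.range (PrimeSpectrum.comap (algebraMap N (Localization.Away s))) := by
        rw [PrimeSpectrum.localization_away_comap_range (Localization.Away s) s]
        exact hy
      obtain ⟨y', rfl⟩ := h7
      have h6 : y' ∈ PrimeSpectrum.comap (algebraMap N (Localization.Away s)) ⁻¹' Z ↔
          y' ∈ PrimeSpectrum.basicOpen e₁ := by rw [hZ₁]; rfl
      refine h6.trans ?_
      rw [← h5]
      rfl
  rw [hZ]
  exact PrimeSpectrum.isClopen_iff.mpr ⟨e, he, rfl⟩

end Affine

/-- Openness is local for affine opens. -/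
theorem isOpen_of_affine {T : Scheme.{u}} (Z : Set T)
    (h : ∀ (N : CommRingCat.{u}) (j : Spec N ⟶ T) [IsOpenImmersion j], IsOpen (j ⁻¹' Z)) :
    IsOpen Z := by
  rw [isOpen_iff_mem_nhds]
  intro y hy
  obtain ⟨x, hx⟩ := T.affineOpenCover.covers y
  have h1 := (T.affineOpenCover.f (T.affineOpenCover.idx y)).isOpenEmbedding.isOpenMap _
    (h _ (T.affineOpenCover.f (T.affineOpenCover.idx y)))
  refine Filter.mem_of_superset (h1.mem_nhds ⟨x, ?_, hx⟩) ?_
  · change (T.affineOpenCover.f (T.affineOpenCover.idx y)) x ∈ Z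
    have : (T.affineOpenCover.f (T.affineOpenCover.idx y)) x = y := hx
    rwa [this]
  rintro _ ⟨z, hz, rfl⟩
  exact hz

theorem isClopen_of_affine {T : Scheme.{u}} (Z : Set T)
    (h : ∀ (N : CommRingCat.{u}) (j : Spec N ⟶ T) [IsOpenImmersion j], IsClopen (j ⁻¹' Z)) :
    IsClopen Z := by
  refine ⟨?_, isOpen_of_affine Z fun N j _ => (h N j).2⟩
  rw [← isOpen_compl_iff]
  refine isOpen_of_affine _ fun N j _ => ?_
  exact (h N j).1.isOpen_compl

theorem exists_affine {T : Scheme.{u}} (y : T) :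
    ∃ (N : CommRingCat.{u}) (j : Spec N ⟶ T) (_ : IsOpenImmersion j) (x : Spec N), j x = y := by
  obtain ⟨x, hx⟩ := T.affineOpenCover.covers y
  exact ⟨_, T.affineOpenCover.f (T.affineOpenCover.idx y), inferInstance, x, hx⟩

/-- The ring itself is glueable. -/
theorem glueable_self {R R' : Type u} [CommRing R] [CommRing R'] [Algebra R R'] {f : R}
    (h : EtGlue.IsGlueingPair R R' f) : EtGlue.IsGlueable R R' f R := by
  rw [K641.Glueable.glueable_iff h]
  rintro m hm h1
  refine ((Groth.Agent.S2004.result R R' f h.1).mp h).1 m hm ?_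
  have h2 := congrArg (TensorProduct.rid R R') h1
  rw [TensorProduct.rid_tmul, map_zero, Algebra.smul_def, mul_one] at h2
  exact h2

section Global

attribute [local instance] Algebra.TensorProduct.rightAlgebra

variable {A B : Type u} [CommRing A] [CommRing B] [Algebra A B] {t : A}
  {T P : Scheme.{u}} {h : T ⟶ Spec (CommRingCat.of A)} {p : P ⟶ T}
  {b : P ⟶ Spec (CommRingCat.of B)}

/-- Charts. -/
theorem exists_chart (sq : IsPullback p b h (Spec.map (CommRingCat.ofHom (algebraMap A B))))
    (N : CommRingCat.{u}) (j : Spec N ⟶ T) :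
    ∃ (_ : Algebra A N) (j' : Spec (CommRingCat.of (B ⊗[A] N)) ⟶ P),
      Spec.map (CommRingCat.ofHom (algebraMap A N)) = j ≫ h ∧
      IsPullback j' (Spec.map (CommRingCat.ofHom
        (Algebra.TensorProduct.includeRight : N →ₐ[A] B ⊗[A] N).toRingHom)) p j := by
  letI : Algebra A N := (Spec.preimage (j ≫ h)).hom.toAlgebra
  have h1 : Spec.map (CommRingCat.ofHom (algebraMap A N)) = j ≫ h := Spec.map_preimage (j ≫ h)
  have h2 : IsPullback (Spec.map (CommRingCat.ofHom
      (Algebra.TensorProduct.includeRight : N →ₐ[A] B ⊗[A] N).toRingHom))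
      (Spec.map (CommRingCat.ofHom (Algebra.TensorProduct.includeLeftRingHom : B →+* B ⊗[A] N)))
      (j ≫ h) (Spec.map (CommRingCat.ofHom (algebraMap A B))) := by
    rw [← h1]
    exact isPullback_SpecMap_of_isPushout _ _ _ _ (CommRingCat.isPushout_tensorProduct A B N).flip
  exact ⟨inferInstance, _, h1, IsPullback.of_right' h2.flip sq.flip⟩

/-- Points of `T` over `V(t)` lift to `P`. -/
theorem exists_point (sq : IsPullback p b h (Spec.map (CommRingCat.ofHom (algebraMap A B))))
    (hg : EtGlue.QuotPowBijective A B t) (y : T) (hy : t ∈ (h y : PrimeSpectrum A).asIdeal) :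
    ∃ y' : P, p y' = y := by
  obtain ⟨N, j, _, x, rfl⟩ := exists_affine y
  obtain ⟨_, j', h1, sq'⟩ := exists_chart sq N j
  obtain ⟨x', hx'⟩ := K641.GlueLocal.exists_point hg (A := N) x (by
    rw [← Scheme.Hom.comp_apply, ← h1] at hy
    exact hy)
  have key : ∀ z : Spec (CommRingCat.of (B ⊗[A] N)), p (j' z) = j ((Spec.map (CommRingCat.ofHom
      (Algebra.TensorProduct.includeRight : N →ₐ[A] B ⊗[A] N).toRingHom)) z) := fun z => by
    rw [← Scheme.Hom.comp_apply, sq'.w, Scheme.Hom.comp_apply]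
  exact ⟨j' x', (key x').trans (congrArg j hx')⟩

/-- They lift uniquely. -/
theorem point_unique (sq : IsPullback p b h (Spec.map (CommRingCat.ofHom (algebraMap A B))))
    (hg : Cong (algebraMap A B) t) (y₁ y₂ : P) (hy : t ∈ (h (p y₁) : PrimeSpectrum A).asIdeal)
    (h₁₂ : p y₁ = p y₂) : y₁ = y₂ := by
  obtain ⟨N, j, _, x, hx⟩ := exists_affine (p y₁)
  obtain ⟨_, j', h1, sq'⟩ := exists_chart sq N j
  obtain ⟨z₁, h2, h3⟩ := Scheme.exists_preimage_of_isPullback sq' y₁ x hx.symm
  obtain ⟨z₂, h4, h5⟩ := Scheme.exists_preimage_of_isPullback sq' y₂ x (hx.trans h₁₂).symm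
  rw [← h2, ← h4]
  congr 1
  refine eq_of_comap_eq (N := N) (N' := B ⊗[A] N) (s := algebraMap A N t) (hg.tensor N) z₁ z₂ ?_ ?_
  · have h6 : PrimeSpectrum.comap (algebraMap N (B ⊗[A] N)) z₁ = x := h3
    rw [h6]
    rw [← hx, ← Scheme.Hom.comp_apply, ← h1] at hy
    exact hy
  · exact h3.trans h5.symm

/-- Clopen subsets of `T`, `T` flat over `A`. -/
theorem isClopen_of (sq : IsPullback p b h (Spec.map (CommRingCat.ofHom (algebraMap A B))))
    [Flat h] (hg : EtGlue.IsGlueingPair A B t) {Tt : Scheme.{u}} (a : Tt ⟶ T) [IsOpenImmersion a]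
    (ha : ∀ y : T, t ∉ (h y : PrimeSpectrum A).asIdeal → ∃ z : Tt, a z = y) (Z : Set T)
    (h₁ : IsClopen (p ⁻¹' Z)) (h₂ : IsClopen (a ⁻¹' Z)) : IsClopen Z := by
  refine isClopen_of_affine Z fun N j _ => ?_
  obtain ⟨_, j', h1, sq'⟩ := exists_chart sq N j
  have hflat : Module.Flat A N := by
    have : Flat (Spec.map (CommRingCat.ofHom (algebraMap A N))) := by
      rw [h1]; infer_instance
    rw [Flat.SpecMap_iff] at this
    exact (RingHom.flat_algebraMap_iff (R := A) (S := N)).mp this
  have hN : EtGlue.IsGlueable A B t N := K641.Glueable.of_flat hg (A := A) (glueable_self hg)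
  have pair := K363.GlueAlg.glueingPair_baseChange N hg hN
  refine isClopen_of_glueingPair (N := N) (N' := B ⊗[A] N) pair (j ⁻¹' Z) ?_ ?_
  · have h3 : PrimeSpectrum.comap (algebraMap N (B ⊗[A] N)) ⁻¹' (j ⁻¹' Z) = j' ⁻¹' (p ⁻¹' Z) := by
      have key : ∀ z : Spec (CommRingCat.of (B ⊗[A] N)), p (j' z) = j ((Spec.map
          (CommRingCat.ofHom (Algebra.TensorProduct.includeRight :
            N →ₐ[A] B ⊗[A] N).toRingHom)) z) := fun z => by
        rw [← Scheme.Hom.comp_apply, sq'.w, Scheme.Hom.comp_apply]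
      ext x
      have h4 : p (j' x) ∈ Z ↔ _ := iff_of_eq (congrArg (· ∈ Z) (key x))
      exact h4.symm
    rw [h3]
    exact h₁.preimage j'.continuous
  · let k : Spec (CommRingCat.of (Localization.Away (algebraMap A N t))) ⟶ T :=
      Spec.map (CommRingCat.ofHom (algebraMap N (Localization.Away (algebraMap A N t)))) ≫ j
    have hk : Set.range k ⊆ Set.range a := by
      rintro _ ⟨x, rfl⟩
      refine ha _ ?_
      have h4 : h (k x) = Spec.map (CommRingCat.ofHom (algebraMap A N)) (Spec.map (CommRingCat.ofHom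
        (algebraMap N (Localization.Away (algebraMap A N t)))) x) := by
        rw [h1, Scheme.Hom.comp_apply, Scheme.Hom.comp_apply]
      rw [h4]
      intro h5
      have h6 : algebraMap N (Localization.Away (algebraMap A N t)) (algebraMap A N t) ∈
          (x : PrimeSpectrum (Localization.Away (algebraMap A N t))).asIdeal := h5
      exact x.isPrime.ne_top (Ideal.eq_top_of_isUnit_mem _ h6
        (IsLocalization.Away.algebraMap_isUnit _))
    have h3 : PrimeSpectrum.comap (algebraMap N (Localization.Away (algebraMap A N t))) ⁻¹'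
        (j ⁻¹' Z) = (IsOpenImmersion.lift a k hk) ⁻¹' (a ⁻¹' Z) := by
      have key : ∀ z : Spec (CommRingCat.of (Localization.Away (algebraMap A N t))),
          a ((IsOpenImmersion.lift a k hk) z) = j ((Spec.map (CommRingCat.ofHom
            (algebraMap N (Localization.Away (algebraMap A N t))))) z) := fun z => by
        rw [← Scheme.Hom.comp_apply, IsOpenImmersion.lift_fac, Scheme.Hom.comp_apply]
      ext x
      have h4 : a ((IsOpenImmersion.lift a k hk) x) ∈ Z ↔ _ := iff_of_eq (congrArg (· ∈ Z) (key x))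
      exact h4.symm
    rw [h3]
    exact h₂.preimage (IsOpenImmersion.lift a k hk).continuous

/-- Clopen subsets of `T` and of `T ×_A B` correspond if this holds over `A[1/t]`. -/
theorem clopenBij (sq : IsPullback p b h (Spec.map (CommRingCat.ofHom (algebraMap A B))))
    [Flat h] (hc : Cong (algebraMap A B) t) (hg : EtGlue.IsGlueingPair A B t)
    {Tt Pt : Scheme.{u}} (a : Tt ⟶ T)
    [IsOpenImmersion a]
    (ha : ∀ y : T, t ∉ (h y : PrimeSpectrum A).asIdeal ↔ ∃ z : Tt, a z = y) {pt : Pt ⟶ Tt}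
    {a' : Pt ⟶ P} (sqt : IsPullback a' pt p a) (hp : ClopenBij pt) : ClopenBij p := by
  constructor
  · intro U hU h0
    have h1 := hp.inj (a ⁻¹' U) (hU.preimage a.continuous) (by
      rw [Set.eq_empty_iff_forall_notMem] at h0 ⊢
      intro x hx
      apply h0 (a' x)
      change p (a' x) ∈ U
      rw [← Scheme.Hom.comp_apply, sqt.w, Scheme.Hom.comp_apply]
      exact hx)
    rw [Set.eq_empty_iff_forall_notMem] at h1 h0 ⊢
    intro y hy
    by_cases ht : t ∈ (h y : PrimeSpectrum A).asIdeal
    · obtain ⟨y', rfl⟩ := exists_point sq hg.1 y ht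
      exact h0 y' hy
    · obtain ⟨z, rfl⟩ := (ha y).mp ht
      exact h1 z hy
  · intro V hV
    obtain ⟨Zt, hZt, hV'⟩ := hp.surj (a' ⁻¹' V) (hV.preimage a'.continuous)
    let Z : Set T := a '' Zt ∪ {y | t ∈ (h y : PrimeSpectrum A).asIdeal ∧ ∃ y' ∈ V, p y' = y}
    have hinj : Function.Injective a := a.isOpenEmbedding.injective
    have h1 : a ⁻¹' Z = Zt := by
      ext z
      constructor
      · rintro (⟨z', hz', hzz⟩ | ⟨hz, -⟩)
        · rwa [hinj hzz] at hz'
        · exact absurd hz ((ha (a z)).mpr ⟨z, rfl⟩)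
      · intro hz
        exact Or.inl ⟨z, hz, rfl⟩
    have h2 : p ⁻¹' Z = V := by
      ext y'
      by_cases ht : t ∈ (h (p y') : PrimeSpectrum A).asIdeal
      · constructor
        · rintro (⟨z', hz', hzz⟩ | ⟨hz, y'', hy'', hyy⟩)
          · exact absurd ht ((ha (p y')).mpr ⟨z', hzz⟩)
          · rwa [point_unique sq hc y' y'' ht hyy.symm]
        · intro hy'
          exact Or.inr ⟨ht, y', hy', rfl⟩
      · obtain ⟨z, hz⟩ := (ha (p y')).mp ht
        obtain ⟨w, h3, h4⟩ := Scheme.exists_preimage_of_isPullback sqt y' z hz.symm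
        have h5 : y' ∈ p ⁻¹' Z ↔ z ∈ a ⁻¹' Z := by
          change p y' ∈ Z ↔ a z ∈ Z
          rw [hz]
        rw [h5, h1]
        have h6 : w ∈ pt ⁻¹' Zt ↔ w ∈ a' ⁻¹' V := by rw [hV']
        have h7 : w ∈ pt ⁻¹' Zt ↔ z ∈ Zt := by
          change pt w ∈ Zt ↔ _
          rw [← h4]
        have h8 : w ∈ a' ⁻¹' V ↔ y' ∈ V := by
          change a' w ∈ V ↔ _
          rw [← h3]
        rw [← h7, h6, h8]
    refine ⟨Z, ?_, h2⟩
    refine isClopen_of sq hg a (fun y hy => (ha y).mp hy) Z ?_ ?_
    · rw [h2]; exact hV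
    · rw [h1]; exact hZt

end Global

end K141.GlueClopen
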