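import Groth.Agent.Hensel.K141.GlueEt
import Groth.Agent.Pi1A.FEtFormalGlue
import Groth.Agent.S16574

/-!
# Essential surjectivity of `FEt(U) → FEt(U')` for a glueing pair, `U ⊇ D(t)`
-/

set_option autoImplicit false
universe u

open CategoryTheory CategoryTheory.Limits AlgebraicGeometry TensorProduct
open Groth.Agent.Pi1A.FEtAffine

namespace K141.GlueEss

attribute [local instance] Algebra.TensorProduct.rightAlgebra in
/-- `N[1/s] = R ⊗ N` for `R = A[1/s]`. -/
noncomputable def awayEquiv (A R N : Type u) [CommRing A] [CommRing R] [CommRing N] [Algebra A R]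
    [Algebra A N] (s : A) [IsLocalization.Away s R] :
    Localization.Away (algebraMap A N s) ≃ₐ[A] R ⊗[A] N :=
  have h4 : IsLocalization.Away (algebraMap A N s) (R ⊗[A] N) := by
    have h5 := IsLocalization.tensorRight (R := A) (A := R) (S := N) (Submonoid.powers s)
    rw [Algebra.algebraMapSubmonoid, Submonoid.map_powers] at h5
    exact h5
  (IsLocalization.algEquiv (Submonoid.powers (algebraMap A N s))
    (Localization.Away (algebraMap A N s)) (R ⊗[A] N)).restrictScalars A

section

variable {A B : Type u} [CommRing A] [CommRing B] [Algebra A B] {t : A}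

/-- Finiteness of a glued algebra. -/
theorem finite_of_glue (hg : EtGlue.IsGlueingPair A B t) (N : Type u) [CommRing N] [Algebra A N]
    (hN : EtGlue.IsGlueable A B t N) (F : Type u) [CommRing F] [Algebra A F]
    (e₁ : Localization.Away (algebraMap A N t) ≃ₐ[A] F)
    (hF : ∀ (R : Type u) [CommRing R] [Algebra A R] [IsLocalization.Away t R] (χ : R →+* F),
      χ.comp (algebraMap A R) = algebraMap A F → χ.Finite)
    (hM : Module.Finite B (B ⊗[A] N)) : Module.Finite A N := by
  have h1 : (Algebra.ofId A N).toRingHom.Finite := by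
    rw [Groth.Agent.S12187.result A B t hg A N (GlueClopen.glueable_self hg) hN]
    constructor
    · have h2 : IsLocalization.Away t (Localization.Away (algebraMap A A t)) :=
        inferInstanceAs (IsLocalization.Away t (Localization.Away t))
      let χ : Localization.Away (algebraMap A A t) →+* F := e₁.toRingEquiv.toRingHom.comp
        (Localization.awayMap (Algebra.ofId A N).toRingHom (algebraMap A A t))
      have h3 : χ.comp (algebraMap A _) = algebraMap A F := by
        ext a
        have h4 : Localization.awayMap (Algebra.ofId A N).toRingHom (algebraMap A A t)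
            (algebraMap A _ a) = algebraMap N (Localization.Away (algebraMap A N t))
              (algebraMap A N a) := IsLocalization.map_eq _ _
        change e₁ (Localization.awayMap (Algebra.ofId A N).toRingHom (algebraMap A A t)
            (algebraMap A _ a)) = _
        rw [h4, ← IsScalarTower.algebraMap_apply A N, e₁.commutes]
      have h5 : Localization.awayMap (Algebra.ofId A N).toRingHom (algebraMap A A t) =
          e₁.symm.toRingEquiv.toRingHom.comp χ := by
        ext x
        exact (e₁.symm_apply_apply _).symm
      have h6 := hF (Localization.Away (algebraMap A A t)) χ h3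
      rw [h5]
      exact RingHom.finite_respectsIso.1 _ _ h6
    · refine RingHom.Finite.of_comp_finite (f := (Algebra.TensorProduct.includeLeftRingHom :
        B →+* B ⊗[A] A)) ?_
      have h2 : (Algebra.TensorProduct.map (AlgHom.id A B) (Algebra.ofId A N)).toRingHom.comp
          (Algebra.TensorProduct.includeLeftRingHom : B →+* B ⊗[A] A) =
          algebraMap B (B ⊗[A] N) := by
        ext b
        change Algebra.TensorProduct.map (AlgHom.id A B) (Algebra.ofId A N) (b ⊗ₜ[A] (1 : A)) = _
        rw [Algebra.TensorProduct.map_tmul, map_one]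
        rfl
      rw [h2]
      exact RingHom.finite_algebraMap.mpr hM
  exact RingHom.finite_algebraMap.mp h1

/-- The glued algebra. -/
theorem exists_glued [HenselianRing A (Ideal.span {t})]
    [HenselianRing B (Ideal.span {algebraMap A B t})] (hc : Cong (algebraMap A B) t)
    (hg : EtGlue.IsGlueingPair A B t) (M : Type u) [CommRing M] [Algebra B M] [Module.Finite B M]
    (hM : Algebra.Etale (Localization.Away (algebraMap A B t))
      (Localization.Away (algebraMap A B t) ⊗[B] M)) :
    ∃ (N : Type u) (_ : CommRing N) (_ : Algebra A N) (_ : Module.Finite A N)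
      (_ : EtGlue.IsGlueable A B t N),
      Nonempty (B ⊗[A] N ≃ₐ[B] M) ∧
      Algebra.Etale (Localization.Away t) (Localization.Away t ⊗[A] N) := by
  let R := Localization.Away t
  let R' := Localization.Away (algebraMap A B t)
  let _ : Algebra R R' := (Localization.awayMap (algebraMap A B) t).toAlgebra
  have hw : (Localization.awayMap (algebraMap A B) t).comp (algebraMap A R) =
      (algebraMap B R').comp (algebraMap A B) := IsLocalization.map_comp _
  have i2 : IsScalarTower A R R' := IsScalarTower.of_algebraMap_eq fun a =>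
    (DFunLike.congr_fun hw a).symm
  let E := R' ⊗[B] M
  obtain ⟨F, _, _, hF1, hF2, ⟨ε⟩⟩ :=
    Descend.exists_descent (A := A) (B := B) (R := R) (R' := R') t hc E
  let _ : Algebra A F := ((algebraMap R F).comp (algebraMap A R)).toAlgebra
  have i3 : IsScalarTower A R F := IsScalarTower.of_algebraMap_eq fun _ => rfl
  let _ : Algebra A M := ((algebraMap B M).comp (algebraMap A B)).toAlgebra
  have i4 : IsScalarTower A B M := IsScalarTower.of_algebraMap_eq fun _ => rfl
  have h1 : IsLocalization (Algebra.algebraMapSubmonoid B (Submonoid.powers t)) R' := by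
    rw [Algebra.algebraMapSubmonoid, Submonoid.map_powers]
    infer_instance
  have h2 : Algebra.IsPushout A B R R' :=
    Algebra.isPushout_of_isLocalization (Submonoid.powers t) R B R'
  let α₁ : Localization.Away (algebraMap B M (algebraMap A B t)) ≃ₐ[B] E :=
    awayEquiv B R' M (algebraMap A B t)
  let α₂ : E ≃ₐ[B] R' ⊗[R] F := ε.symm.restrictScalars B
  let α₃ : R' ⊗[R] F ≃ₐ[B] B ⊗[A] F := Algebra.IsPushout.cancelBaseChangeAlg A B R R' F
  let φ : Localization.Away (algebraMap A M t) ≃ₐ[B] B ⊗[A] F := (α₁.trans α₂).trans α₃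
  have h3 : IsUnit (algebraMap A F t) := by
    rw [IsScalarTower.algebraMap_apply A R F]
    exact (IsLocalization.Away.algebraMap_isUnit t).map _
  obtain ⟨N, _, _, hN, e₁, e', -, -, -, -, -⟩ := K616.BLAlg.exists_glue hg F h3 M φ
  have h4 : Module.Finite B (B ⊗[A] N) := Module.Finite.equiv e'.symm.toLinearEquiv
  have h5 : Module.Finite A N := by
    refine finite_of_glue hg N hN F e₁ ?_ h4
    intro R₂ _ _ _ χ hχ
    let e : R ≃ₐ[A] R₂ := IsLocalization.algEquiv (Submonoid.powers t) R R₂
    have h6 : χ.comp e.toRingEquiv.toRingHom = algebraMap R F := by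
      apply IsLocalization.ringHom_ext (Submonoid.powers t)
      ext a
      change χ (e (algebraMap A R a)) = algebraMap R F (algebraMap A R a)
      rw [e.commutes]
      exact DFunLike.congr_fun hχ a
    refine RingHom.Finite.of_comp_finite (f := e.toRingEquiv.toRingHom) ?_
    rw [h6]
    exact RingHom.finite_algebraMap.mpr hF1
  refine ⟨N, inferInstance, inferInstance, h5, hN, ⟨e'⟩, ?_⟩
  let β : F ≃ₐ[A] R ⊗[A] N := e₁.symm.trans (awayEquiv A R N t)
  exact Algebra.Etale.of_equiv (β.extendScalarsOfIsLocalization R (Submonoid.powers t))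

/-- The spectrum square of a base changed algebra. -/
theorem isPullback_of_equiv (N M : Type u) [CommRing N] [CommRing M] [Algebra A N] [Algebra B M]
    (e' : B ⊗[A] N ≃ₐ[B] M) : ∃ w : Spec (CommRingCat.of M) ⟶ Spec (CommRingCat.of N),
      IsPullback w (specMap B M) (specMap A N) (specMap A B) := by
  have h1 := GlueEt.isPullback_tensor' A N B
  let k : Spec (CommRingCat.of M) ⟶ Spec (CommRingCat.of (B ⊗[A] N)) :=
    Spec.map (CommRingCat.ofHom e'.toRingEquiv.toRingHom)
  have hk : IsIso k := by
    have : IsIso (CommRingCat.ofHom e'.toRingEquiv.toRingHom) :=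
      inferInstanceAs (IsIso e'.toRingEquiv.toCommRingCatIso.hom)
    infer_instance
  have hk2 : k ≫ specMap B (B ⊗[A] N) = specMap B M ≫ 𝟙 _ := by
    rw [Category.comp_id, ← Spec.map_comp]
    congr 1
    ext b
    exact e'.commutes b
  have h2 : IsPullback k (specMap B M) (specMap B (B ⊗[A] N)) (𝟙 _) :=
    IsPullback.of_horiz_isIso ⟨hk2⟩
  have h3 := h2.paste_horiz h1
  rw [Category.id_comp] at h3
  exact ⟨_, h3⟩

theorem essSurj [HenselianRing A (Ideal.span {t})]
    [HenselianRing B (Ideal.span {algebraMap A B t})] (hc : Cong (algebraMap A B) t)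
    (hg : EtGlue.IsGlueingPair A B t) (U : (Spec (CommRingCat.of A)).Opens)
    (hUc : IsCompact (U : Set (Spec (CommRingCat.of A))))
    (hU : ∀ x : Spec (CommRingCat.of A), x ∉ U → t ∈ x.asIdeal) :
    (FEt.restrict (specMap A B ∣_ U)).EssSurj := by
  constructor
  intro V
  let U' := specMap A B ⁻¹ᵁ U
  have hU' : ∀ x : Spec (CommRingCat.of B), x ∉ U' → algebraMap A B t ∈ x.asIdeal :=
    fun x hx => hU (specMap A B x) hx
  have hUc' : IsCompact (U' : Set (Spec (CommRingCat.of B))) :=
    QuasiCompact.isCompact_preimage (f := specMap A B) _ U.2 hUc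
  let v : V.left ⟶ (U' : Scheme.{u}) := V.hom
  have hv1 : IsFinite v := V.prop.1
  have hv2 : Etale v := V.prop.2
  obtain ⟨M, _, _, i, _, sq⟩ := Groth.Agent.S16574.result B U' hUc' V.left v
  have hM : Algebra.Etale (Localization.Away (algebraMap A B t))
      (Localization.Away (algebraMap A B t) ⊗[B] M) :=
    GlueEt.etale_of_isPullback U' v M sq _
      (GlueFF.jt U' (Localization.Away (algebraMap A B t)) hU') (GlueFF.jt_ι _ _ _)
  obtain ⟨N, _, _, hN1, hN2, ⟨e'⟩, hN3⟩ := exists_glued hc hg M hM
  have hW : Etale (pullback.snd (specMap A N) U.ι) := by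
    refine GlueEt.etale_snd U N fun g hgU => ?_
    refine GlueEt.etale_glue hg N hN2 (Localization.Away g) ?_ ?_
    · let R := Localization.Away t
      let C := Localization.Away (algebraMap A (Localization.Away g) t)
      have hu : IsUnit (algebraMap A C t) := by
        rw [IsScalarTower.algebraMap_apply A (Localization.Away g) C]
        exact IsLocalization.Away.algebraMap_isUnit _
      let _ : Algebra R C := (IsLocalization.Away.lift t hu).toAlgebra
      have i1 : IsScalarTower A R C := IsScalarTower.of_algebraMap_eq fun a =>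
        (IsLocalization.Away.lift_eq t hu a).symm
      exact GlueEt.etale_mono A N R C hN3
    · let C := B ⊗[A] Localization.Away g
      let c : Spec (CommRingCat.of C) ⟶ (U' : Scheme.{u}) :=
        IsOpenImmersion.lift U'.ι (specMap B C) (by
          rintro _ ⟨x, rfl⟩
          rw [Scheme.Opens.range_ι]
          change specMap A B (specMap B C x) ∈ U
          by_contra hx
          have h1 := hgU _ hx
          have h2 : algebraMap B C (algebraMap A B g) ∈ (x : PrimeSpectrum C).asIdeal := h1
          refine x.isPrime.ne_top (Ideal.eq_top_of_isUnit_mem _ h2 ?_)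
          have h3 : algebraMap B C (algebraMap A B g) =
              (Algebra.TensorProduct.includeRight : Localization.Away g →ₐ[A] C)
                (algebraMap A _ g) := by
            rw [AlgHom.commutes, ← IsScalarTower.algebraMap_apply A B C]
          rw [h3]
          exact (IsLocalization.Away.algebraMap_isUnit g).map _)
      have h4 := GlueEt.etale_of_isPullback U' v M sq C c (IsOpenImmersion.lift_fac _ _ _)
      let ε : C ⊗[B] M ≃ₐ[C] C ⊗[A] N :=
        (Algebra.TensorProduct.congr AlgEquiv.refl e'.symm).trans
          (Algebra.TensorProduct.cancelBaseChange A B C C N)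
      exact Algebra.Etale.of_equiv (R := C) (A := C ⊗[B] M) (B := C ⊗[A] N) ε
  have hWf : IsFinite (pullback.snd (specMap A N) U.ι) := by
    have : IsFinite (specMap A N) :=
      (IsFinite.SpecMap_iff _).mpr (RingHom.finite_algebraMap.mpr hN1)
    infer_instance
  let W : FEt.Cat (U : Scheme.{u}) :=
    MorphismProperty.Over.mk ⊤ (pullback.snd (specMap A N) U.ι) ⟨hWf, hW⟩
  obtain ⟨w, hw⟩ := isPullback_of_equiv N M e'
  have h5 : IsPullback (i ≫ w) v (specMap A N) ((specMap A B ∣_ U) ≫ U.ι) := by
    rw [morphismRestrict_ι]
    exact sq.paste_horiz hw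
  have h6 := IsPullback.of_right' h5 (IsPullback.of_hasPullback (specMap A N) U.ι)
  exact ⟨W, Groth.Agent.Pi1A.FEtFormalGlue.nonempty_iso_of_isPullback _ W V _ h6.flip⟩

end

end K141.GlueEss
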