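import Groth.Agent.Hensel.K141.GlueFF
import Groth.Agent.AlgSp.K616.BLAlg
import Groth.Agent.S12187

/-!
# Étaleness of a glued algebra over an open containing `D(t)`
-/

set_option autoImplicit false
universe u

open CategoryTheory CategoryTheory.Limits AlgebraicGeometry TensorProduct
open Groth.Agent.Pi1A.FEtAffine

namespace K141.GlueEt

theorem etale_mono (A N C D : Type u) [CommRing A] [CommRing N] [CommRing C] [CommRing D]
    [Algebra A N] [Algebra A C] [Algebra A D] [Algebra C D] [IsScalarTower A C D]
    (h : Algebra.Etale C (C ⊗[A] N)) : Algebra.Etale D (D ⊗[A] N) := by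
  have h1 : Algebra.Etale D (D ⊗[C] (C ⊗[A] N)) := inferInstance
  exact Algebra.Etale.of_equiv (Algebra.TensorProduct.cancelBaseChange A C D D N)

attribute [local instance] Algebra.TensorProduct.rightAlgebra in
theorem flat_right (A C N : Type u) [CommRing A] [CommRing N] [CommRing C] [Algebra A N]
    [Algebra A C] [Module.Flat A C] : Module.Flat N (C ⊗[A] N) := by
  let e : N ⊗[A] C ≃ₗ[N] C ⊗[A] N :=
    { TensorProduct.comm A N C with
      map_smul' := by
        intro n x
        change TensorProduct.comm A N C (n • x) = n • TensorProduct.comm A N C x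
        rw [Algebra.smul_def, Algebra.smul_def]
        change (Algebra.TensorProduct.comm A N C) (algebraMap N (N ⊗[A] C) n * x) =
          algebraMap N (C ⊗[A] N) n * Algebra.TensorProduct.comm A N C x
        rw [map_mul]
        rfl }
  exact Module.Flat.of_linearEquiv e.symm

section

variable {A B : Type u} [CommRing A] [CommRing B] [Algebra A B] {t : A}

attribute [local instance] Algebra.TensorProduct.rightAlgebra in
theorem etale_glue (hg : EtGlue.IsGlueingPair A B t) (N : Type u) [CommRing N] [Algebra A N]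
    (hN : EtGlue.IsGlueable A B t N) (C : Type u) [CommRing C] [Algebra A C] [Module.Flat A C]
    (h₁ : Algebra.Etale (Localization.Away (algebraMap A C t))
      (Localization.Away (algebraMap A C t) ⊗[A] N))
    (h₂ : Algebra.Etale (B ⊗[A] C) ((B ⊗[A] C) ⊗[A] N)) : Algebra.Etale C (C ⊗[A] N) := by
  let D := C ⊗[A] N
  let Ct := Localization.Away (algebraMap A C t)
  have hC : EtGlue.IsGlueable A B t C :=
    K641.Glueable.of_flat hg (A := A) (GlueClopen.glueable_self hg)
  have hD : EtGlue.IsGlueable A B t D := by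
    have : Module.Flat N D := flat_right A C N
    exact K641.Glueable.of_flat hg (A := N) hN
  have h3 : Algebra.Etale Ct (Ct ⊗[C] D) :=
    Algebra.Etale.of_equiv (Algebra.TensorProduct.cancelBaseChange A C Ct Ct N).symm
  have h4 : IsLocalization.Away (algebraMap A D t) (Ct ⊗[C] D) := by
    have h5 := IsLocalization.tensorRight (R := C) (A := Ct) (S := D)
      (Submonoid.powers (algebraMap A C t))
    rw [Algebra.algebraMapSubmonoid, Submonoid.map_powers] at h5
    exact h5
  let e₁ : Localization.Away (algebraMap A D t) ≃ₐ[D] (Ct ⊗[C] D) :=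
    IsLocalization.algEquiv (Submonoid.powers (algebraMap A D t)) _ _
  let φ : C →ₐ[A] D := Algebra.TensorProduct.includeLeft
  have h6 : φ.toRingHom.Etale := by
    refine K616.BLAlg.etale_glue hg hC hD φ (algebraMap D (Ct ⊗[C] D)) e₁.toRingEquiv ?_
      (Algebra.TensorProduct.assoc A A A B C N).symm.toRingEquiv
      (algebraMap Ct (Ct ⊗[C] D)) (algebraMap (B ⊗[A] C) ((B ⊗[A] C) ⊗[A] N)) ?_ ?_ ?_ ?_ ?_
    · intro b
      exact e₁.commutes b
    · exact RingHom.etale_algebraMap.mpr h3
    · exact RingHom.etale_algebraMap.mpr h₂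
    · intro a
      change (algebraMap C Ct a) ⊗ₜ[C] (1 : D) = (1 : Ct) ⊗ₜ[C] (algebraMap C D a)
      exact Algebra.TensorProduct.tmul_one_eq_one_tmul a
    · intro a
      rfl
    · intro r
      rfl
  have h7 : φ.toRingHom = algebraMap C D := rfl
  rw [h7] at h6
  exact RingHom.etale_algebraMap.mp h6

end

theorem etale_specMap_iff (C D : Type u) [CommRing C] [CommRing D] [Algebra C D] :
    Etale (specMap C D) ↔ Algebra.Etale C D :=
  (HasRingHomProperty.Spec_iff (P := @Etale)).trans RingHom.etale_algebraMap

/-- The square of `Spec (C ⊗ M)`. -/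
theorem isPullback_tensor' (B M C : Type u) [CommRing B] [CommRing M] [CommRing C] [Algebra B M]
    [Algebra B C] :
    IsPullback (Spec.map (CommRingCat.ofHom
      (Algebra.TensorProduct.includeRight : M →ₐ[B] C ⊗[B] M).toRingHom))
      (specMap C (C ⊗[B] M)) (specMap B M) (specMap B C) :=
  isPullback_SpecMap_of_isPushout _ _ _ _ (CommRingCat.isPushout_tensorProduct B C M).flip

/-- Base change of `V = Spec M ×_B U'` along `Spec C → U'`. -/
theorem exists_isPullback {B : Type u} [CommRing B] (U' : (Spec (CommRingCat.of B)).Opens)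
    {V : Scheme.{u}} (v : V ⟶ (U' : Scheme.{u})) (M : Type u) [CommRing M] [Algebra B M]
    {i : V ⟶ Spec (CommRingCat.of M)} (sq : IsPullback i v (specMap B M) U'.ι) (C : Type u)
    [CommRing C] [Algebra B C] (c : Spec (CommRingCat.of C) ⟶ (U' : Scheme.{u}))
    (hc : c ≫ U'.ι = specMap B C) :
    ∃ i' : Spec (CommRingCat.of (C ⊗[B] M)) ⟶ V, IsPullback i' (specMap C (C ⊗[B] M)) v c := by
  have h1 := isPullback_tensor' B M C
  rw [← hc] at h1
  exact ⟨_, IsPullback.of_right' h1 sq⟩

theorem etale_of_isPullback {B : Type u} [CommRing B] (U' : (Spec (CommRingCat.of B)).Opens)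
    {V : Scheme.{u}} (v : V ⟶ (U' : Scheme.{u})) [Etale v] (M : Type u) [CommRing M] [Algebra B M]
    {i : V ⟶ Spec (CommRingCat.of M)} (sq : IsPullback i v (specMap B M) U'.ι) (C : Type u)
    [CommRing C] [Algebra B C] (c : Spec (CommRingCat.of C) ⟶ (U' : Scheme.{u}))
    (hc : c ≫ U'.ι = specMap B C) : Algebra.Etale C (C ⊗[B] M) := by
  obtain ⟨i', h1⟩ := exists_isPullback U' v M sq C c hc
  rw [← etale_specMap_iff]
  exact MorphismProperty.of_isPullback h1 inferInstance

/-- Étaleness of `Spec N ×_A U → U` is checked on basic opens. -/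
theorem etale_snd {A : Type u} [CommRing A] (U : (Spec (CommRingCat.of A)).Opens) (N : Type u)
    [CommRing N] [Algebra A N] (h : ∀ g : A, (∀ x : Spec (CommRingCat.of A), x ∉ U → g ∈ x.asIdeal) →
      Algebra.Etale (Localization.Away g) (Localization.Away g ⊗[A] N)) :
    Etale (pullback.snd (specMap A N) U.ι) := by
  let 𝒰 : (U : Scheme.{u}).OpenCover := Scheme.Cover.mkOfCovers
    {g : A // ∀ x : Spec (CommRingCat.of A), x ∉ U → g ∈ x.asIdeal}
    (fun g => Spec (CommRingCat.of (Localization.Away g.1)))
    (fun g => GlueFF.jt U (Localization.Away g.1) g.2)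
    (fun x => by
      have hxU : U.ι x ∈ U := x.2
      obtain ⟨_, ⟨g, rfl⟩, hx, hg⟩ := (PrimeSpectrum.isTopologicalBasis_basic_opens (R := A)
        ).exists_subset_of_mem_open hxU U.2
      have hg' : ∀ x : Spec (CommRingCat.of A), x ∉ U → g ∈ x.asIdeal := by
        intro y hy
        by_contra h1
        exact hy (hg h1)
      exact ⟨⟨g, hg'⟩, GlueFF.mem_range_jt U (Localization.Away g) hg' x hx⟩)
    (fun g => inferInstanceAs (IsOpenImmersion (GlueFF.jt U (Localization.Away g.1) g.2)))
  have hloc : IsZariskiLocalAtTarget @Etale.{u} := HasRingHomProperty.instIsZariskiLocalAtTarget _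
  apply IsZariskiLocalAtTarget.of_openCover 𝒰
  rintro ⟨g, hg⟩
  obtain ⟨i', h1⟩ := exists_isPullback U (pullback.snd (specMap A N) U.ι) N
    (IsPullback.of_hasPullback (specMap A N) U.ι) (Localization.Away g)
    (GlueFF.jt U (Localization.Away g) hg) (GlueFF.jt_ι _ _ _)
  have h2 : Etale (specMap (Localization.Away g) (Localization.Away g ⊗[A] N)) :=
    (etale_specMap_iff _ _).mpr (h g hg)
  have h3 : pullback.snd (pullback.snd (specMap A N) U.ι) (GlueFF.jt U (Localization.Away g) hg) =
      h1.isoPullback.inv ≫ specMap (Localization.Away g) (Localization.Away g ⊗[A] N) :=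
    h1.isoPullback_inv_snd.symm
  change Etale (pullback.snd (pullback.snd (specMap A N) U.ι)
    (GlueFF.jt U (Localization.Away g) hg))
  rw [h3]
  infer_instance

end K141.GlueEt
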