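import Groth.Agent.Hensel.K141.FEtCong
import Groth.Agent.Hensel.K141.FEtIdem
import Groth.Agent.S2004
import Groth.Agent.S0526

/-!
# Killing the bad torsion of a pair `A → B` with `A/t^n = B/t^n`

`bad A t = {a | t ∣ a, t^k a = 0 for some k}` is a nil ideal; `(A/bad A → B/bad B, t)` is a
glueing pair as soon as `A/t^n = B/t^n` for all `n`.
-/

set_option autoImplicit false
universe u

namespace K141.GlueRed

/-- The elements divisible by `t` and killed by a power of `t`. -/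
def bad (A : Type u) [CommRing A] (t : A) : Ideal A where
  carrier := {a | t ∣ a ∧ ∃ k : ℕ, t ^ k * a = 0}
  add_mem' := by
    rintro a b ⟨h1, k, h2⟩ ⟨h3, m, h4⟩
    refine ⟨dvd_add h1 h3, k + m, ?_⟩
    have : t ^ (k + m) * (a + b) = t ^ m * (t ^ k * a) + t ^ k * (t ^ m * b) := by ring
    rw [this, h2, h4, mul_zero, mul_zero, add_zero]
  zero_mem' := ⟨dvd_zero t, 0, mul_zero _⟩
  smul_mem' := by
    rintro c a ⟨h1, k, h2⟩
    refine ⟨h1.mul_left c, k, ?_⟩
    rw [smul_eq_mul, mul_left_comm, h2, mul_zero]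

theorem mem_bad {A : Type u} [CommRing A] {t a : A} :
    a ∈ bad A t ↔ t ∣ a ∧ ∃ k : ℕ, t ^ k * a = 0 := Iff.rfl

theorem isNilpotent_of_mem_bad {A : Type u} [CommRing A] {t a : A} (h : a ∈ bad A t) :
    IsNilpotent a := by
  obtain ⟨⟨b, rfl⟩, k, hk⟩ := h
  refine ⟨k + 1, ?_⟩
  rw [pow_succ, mul_pow]
  have : t ^ k * b ^ k * (t * b) = b ^ k * (t ^ k * (t * b)) := by ring
  rw [this, hk, mul_zero]

theorem bad_le_nilradical (A : Type u) [CommRing A] (t : A) : bad A t ≤ nilradical A :=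
  fun _ h => isNilpotent_of_mem_bad h

variable {A B : Type u} [CommRing A] [CommRing B] (φ : A →+* B) (t : A)

theorem bad_le_comap : bad A t ≤ (bad B (φ t)).comap φ := by
  rintro a ⟨h1, k, h2⟩
  exact ⟨(map_dvd φ h1), k, by rw [← map_pow, ← map_mul, h2, map_zero]⟩

/-- The reduced map. -/
def redMap : A ⧸ bad A t →+* B ⧸ bad B (φ t) := Ideal.quotientMap _ φ (bad_le_comap φ t)

variable {φ t}

theorem cong (h : Cong φ t) : Cong (redMap φ t) (Ideal.Quotient.mk (bad A t) t) := by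
  have hmk : redMap φ t (Ideal.Quotient.mk (bad A t) t) = Ideal.Quotient.mk (bad B (φ t)) (φ t) :=
    rfl
  constructor
  · intro n b
    obtain ⟨b, rfl⟩ := Ideal.Quotient.mk_surjective b
    obtain ⟨a, c, hb⟩ := h.surj n b
    refine ⟨Ideal.Quotient.mk _ a, Ideal.Quotient.mk _ c, ?_⟩
    rw [hmk, hb, map_add, map_mul, map_pow]
    rfl
  · intro n a b hab
    obtain ⟨a, rfl⟩ := Ideal.Quotient.mk_surjective a
    obtain ⟨b, rfl⟩ := Ideal.Quotient.mk_surjective b
    rw [hmk] at hab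
    have h1 : Ideal.Quotient.mk (bad B (φ t)) (φ a) =
        Ideal.Quotient.mk (bad B (φ t)) (φ t ^ n * b) := by
      rw [map_mul, map_pow]; exact hab
    rw [Ideal.Quotient.mk_eq_mk_iff_sub_mem] at h1
    obtain ⟨⟨c, hc⟩, k, hk⟩ := h1
    rcases Nat.eq_zero_or_pos n with rfl | hn
    · exact ⟨Ideal.Quotient.mk _ a, by rw [pow_zero, one_mul]⟩
    obtain ⟨m, rfl⟩ := Nat.exists_eq_add_of_lt hn
    rw [zero_add] at *
    obtain ⟨a', ha'⟩ := h.inj 1 a (φ t ^ m * b + c) (by linear_combination hc)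
    obtain ⟨a'', ha''⟩ := h.inj (k + (m + 1)) (t ^ k * a) b (by
      rw [map_mul, map_pow]
      linear_combination hk)
    refine ⟨Ideal.Quotient.mk _ a'', ?_⟩
    rw [← map_pow, ← map_mul, Ideal.Quotient.mk_eq_mk_iff_sub_mem]
    refine ⟨?_, k, ?_⟩
    · rw [ha', pow_one]
      exact dvd_sub (dvd_mul_right _ _) ((dvd_pow_self t (by omega)).mul_right _)
    · rw [mul_sub, ha'']
      ring

theorem quotPowBijective {A B : Type u} [CommRing A] [CommRing B] [Algebra A B] {t : A}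
    (h : Cong (algebraMap A B) t) : EtGlue.QuotPowBijective A B t := by
  intro n _
  constructor
  · rw [injective_iff_map_eq_zero]
    intro a ha
    obtain ⟨a, rfl⟩ := Ideal.Quotient.mk_surjective a
    rw [Ideal.quotientMap_mk, Ideal.Quotient.eq_zero_iff_mem, Ideal.map_span, Set.image_singleton,
      Ideal.mem_span_singleton, map_pow] at ha
    obtain ⟨b, hb⟩ := ha
    obtain ⟨a', ha'⟩ := h.inj n a b hb
    rw [Ideal.Quotient.eq_zero_iff_mem, Ideal.mem_span_singleton]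
    exact ⟨a', ha'⟩
  · intro b
    obtain ⟨b, rfl⟩ := Ideal.Quotient.mk_surjective b
    obtain ⟨a, c, hb⟩ := h.surj n b
    refine ⟨Ideal.Quotient.mk _ a, ?_⟩
    rw [Ideal.quotientMap_mk, Ideal.Quotient.mk_eq_mk_iff_sub_mem, Ideal.map_span,
      Set.image_singleton, Ideal.mem_span_singleton, map_pow]
    exact ⟨-c, by rw [hb]; ring⟩

theorem cong_of_quotPowBijective {A B : Type u} [CommRing A] [CommRing B] [Algebra A B] {t : A}
    (h : EtGlue.QuotPowBijective A B t) : Cong (algebraMap A B) t := by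
  constructor
  · intro n b
    rcases Nat.eq_zero_or_pos n with rfl | hn
    · exact ⟨0, b, by simp⟩
    obtain ⟨a, ha⟩ := (h n hn).2 (Ideal.Quotient.mk _ b)
    obtain ⟨a, rfl⟩ := Ideal.Quotient.mk_surjective a
    rw [Ideal.quotientMap_mk, Ideal.Quotient.mk_eq_mk_iff_sub_mem, Ideal.map_span,
      Set.image_singleton, Ideal.mem_span_singleton, map_pow] at ha
    obtain ⟨c, hc⟩ := ha
    exact ⟨a, -c, by linear_combination -hc⟩
  · intro n a b hab
    rcases Nat.eq_zero_or_pos n with rfl | hn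
    · exact ⟨a, by simp⟩
    have h1 : Ideal.quotientMap (Ideal.map (algebraMap A B) (Ideal.span {t ^ n})) (algebraMap A B)
        Ideal.le_comap_map (Ideal.Quotient.mk _ a) = 0 := by
      rw [Ideal.quotientMap_mk, Ideal.Quotient.eq_zero_iff_mem, Ideal.map_span,
        Set.image_singleton, Ideal.mem_span_singleton, map_pow]
      exact ⟨b, hab⟩
    have h2 := (injective_iff_map_eq_zero _).mp (h n hn).1 _ h1
    rw [Ideal.Quotient.eq_zero_iff_mem, Ideal.mem_span_singleton] at h2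
    exact h2

/-- The reduced pair is a glueing pair. -/
theorem isGlueingPair {A B : Type u} [CommRing A] [CommRing B] {φ : A →+* B} {t : A}
    (h : Cong φ t) [inst : Algebra (A ⧸ bad A t) (B ⧸ bad B (φ t))]
    (halg : algebraMap (A ⧸ bad A t) (B ⧸ bad B (φ t)) = redMap φ t) :
    EtGlue.IsGlueingPair (A ⧸ bad A t) (B ⧸ bad B (φ t)) (Ideal.Quotient.mk (bad A t) t) := by
  have hc : Cong (algebraMap (A ⧸ bad A t) (B ⧸ bad B (φ t))) (Ideal.Quotient.mk (bad A t) t) := by
    rw [halg]; exact cong h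
  have hmk : ∀ a, redMap φ t (Ideal.Quotient.mk (bad A t) a) =
      Ideal.Quotient.mk (bad B (φ t)) (φ a) := fun a => rfl
  rw [Groth.Agent.S2004.result _ _ _ (quotPowBijective hc)]
  rw [halg]
  constructor
  · rintro a ⟨n, hn⟩ h0
    obtain ⟨a, rfl⟩ := Ideal.Quotient.mk_surjective a
    rw [hmk, Ideal.Quotient.eq_zero_iff_mem] at h0
    obtain ⟨⟨b, hb⟩, -⟩ := h0
    rw [← map_pow, ← map_mul, Ideal.Quotient.eq_zero_iff_mem] at hn
    obtain ⟨-, k, hk⟩ := hn
    obtain ⟨a', ha'⟩ := h.inj 1 a b (by rw [hb, pow_one])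
    rw [Ideal.Quotient.eq_zero_iff_mem]
    exact ⟨⟨a', by rw [ha', pow_one]⟩, k + n, by rw [← hk]; ring⟩
  · rintro b ⟨n, hn⟩
    obtain ⟨b, rfl⟩ := Ideal.Quotient.mk_surjective b
    rw [hmk, ← map_pow, ← map_mul, Ideal.Quotient.eq_zero_iff_mem] at hn
    obtain ⟨-, k, hk⟩ := hn
    obtain ⟨a, c, hb⟩ := h.surj 1 b
    obtain ⟨a', ha'⟩ := h.inj (k + n + 1) (t ^ (k + n) * a) (-c) (by
      rw [map_mul, map_pow]
      rw [hb] at hk
      linear_combination hk)
    have h0 : t ^ (k + n) * (a - t * a') = 0 := by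
      rw [mul_sub, ha']; ring
    refine ⟨Ideal.Quotient.mk _ (a - t * a'), ⟨k + n, ?_⟩, ?_⟩
    · rw [← map_pow, ← map_mul, h0, map_zero]
    · rw [hmk, Ideal.Quotient.mk_eq_mk_iff_sub_mem]
      refine ⟨⟨-(φ a' + c), ?_⟩, k + n, ?_⟩
      · rw [hb, map_sub, map_mul]
        ring
      · rw [mul_sub, ← map_pow, ← map_mul, h0, map_zero, map_pow]
        linear_combination -hk

end K141.GlueRed
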