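import Groth.Agent.Hensel.K141.FiniteLoc

/-!
If `S` is a directed union of quasi-finite `R`-algebras of finite type, then `R^{sh} → S^{sh}` is
integral.
-/

universe u

noncomputable section

namespace K141.IndQF

open IsLocalRing TensorProduct K141.LocUniv K141.FiniteLoc

/-- Elements of a tensor product come from a finitely generated piece. -/
theorem exists_finset {R S T : Type*} [CommRing R] [CommRing S] [CommRing T] [Algebra R S]
    [Algebra R T] (x : T ⊗[R] S) : ∃ s : Finset S, ∀ S₀ : Subalgebra R S, (s : Set S) ⊆ S₀ →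
      x ∈ (Algebra.TensorProduct.map (AlgHom.id T T) S₀.val).range := by
  classical
  induction x using TensorProduct.induction_on with
  | zero => exact ⟨∅, fun S₀ _ => zero_mem _⟩
  | tmul t s =>
    refine ⟨{s}, fun S₀ hS₀ => ⟨t ⊗ₜ ⟨s, hS₀ (by simp)⟩, ?_⟩⟩
    simp
  | add x y hx hy =>
    obtain ⟨s, hs⟩ := hx
    obtain ⟨t, ht⟩ := hy
    refine ⟨s ∪ t, fun S₀ hS₀ => ?_⟩
    rw [Finset.coe_union, Set.union_subset_iff] at hS₀
    exact add_mem (hs S₀ hS₀.1) (ht S₀ hS₀.2)

section

variable {R S : Type u} [CommRing R] [CommRing S] [Algebra R S] (p : Ideal R) [p.IsPrime]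
  (q : Ideal S) [q.IsPrime] [q.LiesOver p]
  (Rh : Type u) [CommRing Rh] [IsLocalRing Rh] [Algebra (Localization.AtPrime p) Rh]
  [IsLocalHom (algebraMap (Localization.AtPrime p) Rh)] [Algebra R Rh]
  [IsScalarTower R (Localization.AtPrime p) Rh]
  (Sh : Type u) [CommRing Sh] [IsLocalRing Sh] [Algebra (Localization.AtPrime q) Sh]
  [IsLocalHom (algebraMap (Localization.AtPrime q) Sh)] [Algebra S Sh]
  [IsScalarTower S (Localization.AtPrime q) Sh]

/-- The local ring of an ind-quasi-finite algebra over a henselian local ring is integral. -/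
theorem isIntegral_localization {T : Type u} [CommRing T] [HenselianLocalRing T] [Algebra R T]
    (hS : ∀ s : Finset S, ∃ S₀ : Subalgebra R S, (s : Set S) ⊆ S₀ ∧ Algebra.FiniteType R S₀ ∧
      Algebra.QuasiFinite R S₀) (Q : Ideal (T ⊗[R] S)) [Q.IsPrime] [Q.LiesOver (maximalIdeal T)] :
    Algebra.IsIntegral T (Localization.AtPrime Q) := by
  classical
  constructor
  intro x
  obtain ⟨a, s, rfl⟩ := IsLocalization.exists_mk'_eq Q.primeCompl x
  obtain ⟨u, hu⟩ := exists_finset a
  obtain ⟨v, hv⟩ := exists_finset (s : T ⊗[R] S)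
  obtain ⟨S₀, hS₀, _, _⟩ := hS (u ∪ v)
  rw [Finset.coe_union, Set.union_subset_iff] at hS₀
  obtain ⟨a₀, ha₀⟩ := hu S₀ hS₀.1
  obtain ⟨s₀, hs₀⟩ := hv S₀ hS₀.2
  let f : T ⊗[R] S₀ →ₐ[T] T ⊗[R] S := Algebra.TensorProduct.map (AlgHom.id T T) S₀.val
  change f a₀ = a at ha₀
  change f s₀ = s at hs₀
  let Q₀ : Ideal (T ⊗[R] S₀) := Q.comap f
  have hQ₀ : Q₀.LiesOver (maximalIdeal T) := by
    constructor
    have h1 : Q.LiesOver (maximalIdeal T) := inferInstance
    rw [h1.over]
    ext t
    change algebraMap T _ t ∈ Q ↔ f (algebraMap T _ t) ∈ Q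
    rw [f.commutes]
  have hfin : Module.Finite T (Localization.AtPrime Q₀) := finite_localization (R := T) Q₀
  let g : Localization.AtPrime Q₀ →+* Localization.AtPrime Q :=
    Localization.localRingHom Q₀ Q f.toRingHom rfl
  have hg : ∀ z, g (algebraMap _ _ z) = algebraMap _ _ (f z) := fun z =>
    Localization.localRingHom_to_map Q₀ Q f.toRingHom rfl z
  have hgT : ∀ t : T, g (algebraMap T _ t) = algebraMap T _ t := fun t => by
    rw [IsScalarTower.algebraMap_apply T (T ⊗[R] S₀) (Localization.AtPrime Q₀), hg, f.commutes,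
      ← IsScalarTower.algebraMap_apply]
  let g' : Localization.AtPrime Q₀ →ₐ[T] Localization.AtPrime Q := { g with commutes' := hgT }
  have hs₀' : s₀ ∈ Q₀.primeCompl := fun h => s.2 (by
    have h1 : f s₀ ∈ Q := h
    rwa [hs₀] at h1)
  have h2 : g' (IsLocalization.mk' _ a₀ ⟨s₀, hs₀'⟩) = IsLocalization.mk' _ a s := by
    rw [IsLocalization.eq_mk'_iff_mul_eq]
    have h3 : algebraMap (T ⊗[R] S) (Localization.AtPrime Q) s = g (algebraMap _ _ s₀) := by
      rw [hg, hs₀]
    rw [h3]
    change g _ * g _ = _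
    rw [← map_mul, IsLocalization.mk'_spec, hg, ha₀]
  rw [← h2]
  exact (Algebra.IsIntegral.isIntegral _).map g'

/-- Ind-quasi-finite case: the map of strict henselizations is integral. -/
theorem isIntegral_strictHenselization
    (hS : ∀ s : Finset S, ∃ S₀ : Subalgebra R S, (s : Set S) ⊆ S₀ ∧ Algebra.FiniteType R S₀ ∧
      Algebra.QuasiFinite R S₀)
    [Hensel.IsStrictHenselization (Localization.AtPrime p) Rh]
    [Hensel.IsStrictHenselization (Localization.AtPrime q) Sh] (g : Rh →+* Sh)
    (hg : g.comp (algebraMap R Rh) = (algebraMap S Sh).comp (algebraMap R S)) :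
    g.IsIntegral := by
  have hRh : HenselianLocalRing Rh :=
    Hensel.IsStrictHenselization.henselian (Localization.AtPrime p)
  have hRs : IsSepClosed (ResidueField Rh) := ((isSepClosure_iff).mp
    (Hensel.IsStrictHenselization.isSepClosure (R := Localization.AtPrime p) (S := Rh))).1
  have hgl := isLocalHom_of_map_maximalIdeal p q Rh Sh g hg
    (Groth.Agent.Hensel.Exist.map_maximalIdeal_of_isStrictHenselization _ _)
  obtain ⟨φ, hφ1, hφ2⟩ := exists_tensor_map Rh Sh g hg
  have h1 := liesOver_maximalIdeal Rh Sh g φ hφ1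
  have h3 := isIntegral_localization (T := Rh) hS ((maximalIdeal Sh).comap φ)
  obtain ⟨_, _, h4, h5⟩ := TensorLoc.exists_isStrictHenselization p q Rh Sh φ hφ2
    ((maximalIdeal Sh).comap φ) (fun d => Iff.rfl)
  have h6 : HenselianLocalRing (Localization.AtPrime ((maximalIdeal Sh).comap φ)) :=
    Groth.Agent.UnramB.IntHensel.henselianLocalRing_of_isIntegral Rh _
  have h9 : IsLocalHom (algebraMap Rh (Localization.AtPrime ((maximalIdeal Sh).comap φ))) := by
    apply isLocalHom_of_map_le
    rw [Ideal.map_le_iff_le_comap]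
    intro x hx
    rw [Ideal.mem_comap, IsScalarTower.algebraMap_apply Rh (Rh ⊗[R] S),
      IsLocalization.AtPrime.to_map_mem_maximal_iff _ ((maximalIdeal Sh).comap φ),
      Ideal.mem_comap]
    rw [h1.over] at hx
    exact hx
  have h10 : IsSepClosed (ResidueField (Localization.AtPrime ((maximalIdeal Sh).comap φ))) :=
    isSepClosed_of_isIntegral Rh _
  have h7 := TensorLoc.bijective_algebraMap_of_isStrictHenselization
    (Localization.AtPrime ((maximalIdeal Sh).comap φ)) Sh
  have h8 : g = (algebraMap (Localization.AtPrime ((maximalIdeal Sh).comap φ)) Sh).comp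
      (algebraMap Rh _) := by
    rw [IsScalarTower.algebraMap_eq Rh (Rh ⊗[R] S), ← RingHom.comp_assoc, h5]
    ext x
    exact (hφ1 x).symm
  rw [h8]
  exact RingHom.IsIntegral.trans _ _ (algebraMap_isIntegral_iff.mpr h3)
    (RingHom.isIntegral_of_surjective _ h7.2)

end

/-- Integral algebras are directed unions of finite algebras. -/
theorem exists_subalgebra_of_isIntegral {R S : Type u} [CommRing R] [CommRing S] [Algebra R S]
    [Algebra.IsIntegral R S] (s : Finset S) :
    ∃ S₀ : Subalgebra R S, (s : Set S) ⊆ S₀ ∧ Algebra.FiniteType R S₀ ∧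
      Algebra.QuasiFinite R S₀ := by
  have h1 : Module.Finite R (Algebra.adjoin R (s : Set S)) :=
    Algebra.finite_adjoin_of_finite_of_isIntegral s.finite_toSet fun x _ =>
      Algebra.IsIntegral.isIntegral x
  exact ⟨Algebra.adjoin R s, Algebra.subset_adjoin, inferInstance, inferInstance⟩

end K141.IndQF
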