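import Groth.Agent.Hensel.K141.TensorLocal
import Groth.Agent.Hensel.K141.FiniteLoc

/-!
If `A^{sh} → B^{sh}` is integral then `B^{sh} ⊗_{A^{sh}} C^{sh} → D^{sh}` is bijective, for
`D = B ⊗_A C`.
-/

universe u

noncomputable section

namespace K141.StrictTensor

open IsLocalRing TensorProduct K141.LocUniv

/-- A map to a local ring from a local ring integral over a third local ring `C` is local if `C` maps
locally. -/
theorem isLocalHom_of_isIntegral {C E D : Type*} [CommRing C] [IsLocalRing C] [CommRing E]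
    [IsLocalRing E] [CommRing D] [IsLocalRing D] (i : C →+* E) (hi : i.IsIntegral) (θ : E →+* D)
    [IsLocalHom (θ.comp i)] : IsLocalHom θ := by
  let _ : Algebra C E := i.toAlgebra
  have : Algebra.IsIntegral C E := ⟨hi⟩
  have h1 : ((maximalIdeal D).comap θ).IsMaximal := by
    have : ((maximalIdeal D).comap θ).IsPrime := inferInstance
    apply Ideal.isMaximal_of_isIntegral_of_isMaximal_comap (R := C)
    have h2 : ((maximalIdeal D).comap θ).comap (algebraMap C E) = maximalIdeal C :=
      ((IsLocalRing.local_hom_TFAE (θ.comp i)).out 0 4 rfl rfl).mp inferInstance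
    rw [h2]
    infer_instance
  exact ((IsLocalRing.local_hom_TFAE _).out 0 4).mpr (IsLocalRing.eq_maximalIdeal h1)

/-- Ring maps out of a tensor product. -/
theorem exists_ringHom {A B C E : Type*} [CommRing A] [CommRing B] [CommRing C] [CommRing E]
    [Algebra A B] [Algebra A C] (f : B →+* E) (g : C →+* E)
    (h : f.comp (algebraMap A B) = g.comp (algebraMap A C)) :
    ∃ δ : B ⊗[A] C →+* E, (∀ b, δ (b ⊗ₜ 1) = f b) ∧ (∀ c, δ (1 ⊗ₜ c) = g c) := by
  let _ : Algebra A E := (f.comp (algebraMap A B)).toAlgebra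
  let f1 : B →ₐ[A] E := { f with commutes' := fun a => rfl }
  let f2 : C →ₐ[A] E := { g with commutes' := fun a => congr($h.symm a) }
  exact ⟨(Algebra.TensorProduct.lift f1 f2 (fun _ _ => Commute.all _ _)).toRingHom,
    fun b => by simp [f1], fun c => by simp [f2]⟩

/-- The universal property of a strict henselization of `R_p`, in terms of `R`. -/
theorem universal_loc {R : Type u} [CommRing R] (p : Ideal R) [p.IsPrime]
    (Rh : Type u) [CommRing Rh] [IsLocalRing Rh] [Algebra (Localization.AtPrime p) Rh]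
    [IsLocalHom (algebraMap (Localization.AtPrime p) Rh)] [Algebra R Rh]
    [IsScalarTower R (Localization.AtPrime p) Rh]
    [Hensel.IsStrictHenselization (Localization.AtPrime p) Rh]
    (T : Type u) [CommRing T] [HenselianLocalRing T] (f : R →+* T)
    (τ : ResidueField Rh →+* ResidueField T)
    (hτ : ∀ r : R, τ (residue Rh (algebraMap R Rh r)) = residue T (f r)) :
    ∃! g : Rh →+* T, g.comp (algebraMap R Rh) = f ∧ ∀ x, residue T (g x) = τ (residue Rh x) := by
  have hf : ∀ r : R, r ∈ p ↔ f r ∈ maximalIdeal T := fun r => by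
    rw [← residue_eq_zero_iff, ← hτ, map_eq_zero, residue_eq_zero_iff, ← mem_iff_of_loc p Rh]
  obtain ⟨f', hf', hfl⟩ := exists_lift_loc p f hf
  obtain ⟨g, ⟨hg1, hg2⟩, hgu⟩ := Hensel.IsStrictHenselization.universal
    (R := Localization.AtPrime p) (S := Rh) T f' τ (by
      have h1 : (τ.comp (ResidueField.map (algebraMap (Localization.AtPrime p) Rh))).comp
          (residue (Localization.AtPrime p)) = (ResidueField.map f').comp
          (residue (Localization.AtPrime p)) := by
        apply loc_hom_ext p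
        ext r
        change τ (residue Rh (algebraMap (Localization.AtPrime p) Rh (algebraMap R _ r))) =
          residue T (f' (algebraMap R _ r))
        rw [← IsScalarTower.algebraMap_apply, hτ, ← hf']
        rfl
      apply RingHom.ext
      intro x
      obtain ⟨x, rfl⟩ := residue_surjective x
      exact congr($h1 x))
  refine ⟨g, ⟨?_, hg2⟩, ?_⟩
  · rw [IsScalarTower.algebraMap_eq R (Localization.AtPrime p) Rh, ← RingHom.comp_assoc, hg1, hf']
  · rintro g' ⟨h1, h2⟩
    refine hgu _ ⟨?_, h2⟩
    apply loc_hom_ext p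
    rw [RingHom.comp_assoc, ← IsScalarTower.algebraMap_eq, h1, hf']

variable (A B C : Type u) [CommRing A] [CommRing B]
    [CommRing C] [Algebra A B] [Algebra A C]
    (pA : Ideal A) [pA.IsPrime] (pB : Ideal B) [pB.IsPrime] [pB.LiesOver pA]
    (pC : Ideal C) [pC.IsPrime] [pC.LiesOver pA]
    (pD : Ideal (B ⊗[A] C)) [pD.IsPrime] [pD.LiesOver pB]
    (hDC : pD.comap (Algebra.TensorProduct.includeRight : C →ₐ[A] B ⊗[A] C).toRingHom = pC)
    (Ash : Type u) [CommRing Ash] [IsLocalRing Ash] [Algebra (Localization.AtPrime pA) Ash]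
    [IsLocalHom (algebraMap (Localization.AtPrime pA) Ash)]
    [Hensel.IsStrictHenselization (Localization.AtPrime pA) Ash] [Algebra A Ash]
    [IsScalarTower A (Localization.AtPrime pA) Ash]
    (Bsh : Type u) [CommRing Bsh] [IsLocalRing Bsh] [Algebra (Localization.AtPrime pB) Bsh]
    [IsLocalHom (algebraMap (Localization.AtPrime pB) Bsh)]
    [Hensel.IsStrictHenselization (Localization.AtPrime pB) Bsh] [Algebra B Bsh]
    [IsScalarTower B (Localization.AtPrime pB) Bsh] [Algebra A Bsh] [IsScalarTower A B Bsh]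
    [Algebra Ash Bsh] [IsScalarTower A Ash Bsh] [IsLocalHom (algebraMap Ash Bsh)]
    (Csh : Type u) [CommRing Csh] [IsLocalRing Csh] [Algebra (Localization.AtPrime pC) Csh]
    [IsLocalHom (algebraMap (Localization.AtPrime pC) Csh)]
    [Hensel.IsStrictHenselization (Localization.AtPrime pC) Csh] [Algebra C Csh]
    [IsScalarTower C (Localization.AtPrime pC) Csh] [Algebra A Csh] [IsScalarTower A C Csh]
    [Algebra Ash Csh] [IsScalarTower A Ash Csh] [IsLocalHom (algebraMap Ash Csh)]
    (Dsh : Type u) [CommRing Dsh] [IsLocalRing Dsh] [Algebra (Localization.AtPrime pD) Dsh]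
    [IsLocalHom (algebraMap (Localization.AtPrime pD) Dsh)]
    [Hensel.IsStrictHenselization (Localization.AtPrime pD) Dsh] [Algebra (B ⊗[A] C) Dsh]
    [IsScalarTower (B ⊗[A] C) (Localization.AtPrime pD) Dsh]
    [Algebra Bsh Dsh] [IsLocalHom (algebraMap Bsh Dsh)] [Algebra B Dsh] [IsScalarTower B Bsh Dsh]
    [IsScalarTower B (B ⊗[A] C) Dsh]
    [Algebra Csh Dsh] [IsLocalHom (algebraMap Csh Dsh)]
    (hC : ∀ c : C, algebraMap Csh Dsh (algebraMap C Csh c) = algebraMap (B ⊗[A] C) Dsh (1 ⊗ₜ[A] c))
    [Algebra Ash Dsh] [IsScalarTower Ash Bsh Dsh] [IsScalarTower Ash Csh Dsh]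

include pA pB pC pD hC in
theorem tensor_bijective [Algebra.IsIntegral Ash Bsh] :
    Function.Bijective (Algebra.TensorProduct.lift (IsScalarTower.toAlgHom Ash Bsh Dsh)
      (IsScalarTower.toAlgHom Ash Csh Dsh) (fun _ _ => Commute.all _ _)) := by
  have hAh : HenselianLocalRing Ash :=
    Hensel.IsStrictHenselization.henselian (Localization.AtPrime pA)
  have hAs : IsSepClosed (ResidueField Ash) := ((isSepClosure_iff).mp
    (Hensel.IsStrictHenselization.isSepClosure (R := Localization.AtPrime pA) (S := Ash))).1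
  have hCh : HenselianLocalRing Csh :=
    Hensel.IsStrictHenselization.henselian (Localization.AtPrime pC)
  have hCs : IsSepClosed (ResidueField Csh) := ((isSepClosure_iff).mp
    (Hensel.IsStrictHenselization.isSepClosure (R := Localization.AtPrime pC) (S := Csh))).1
  have hDs : Algebra.IsSeparable (ResidueField (Localization.AtPrime pD)) (ResidueField Dsh) :=
    ((isSepClosure_iff).mp
    (Hensel.IsStrictHenselization.isSepClosure (R := Localization.AtPrime pD) (S := Dsh))).2
  set θ : Bsh ⊗[Ash] Csh →ₐ[Ash] Dsh := Algebra.TensorProduct.lift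
    (IsScalarTower.toAlgHom Ash Bsh Dsh) (IsScalarTower.toAlgHom Ash Csh Dsh)
    (fun _ _ => Commute.all _ _) with hθ
  have hθB : ∀ b, θ (b ⊗ₜ 1) = algebraMap Bsh Dsh b := fun b => by simp [hθ]
  have hθC : ∀ c, θ (1 ⊗ₜ c) = algebraMap Csh Dsh c := fun c => by simp [hθ]
  have hnt : Nontrivial (Bsh ⊗[Ash] Csh) := θ.toRingHom.domain_nontrivial
  -- the residue field extension
  have hint : Algebra.IsAlgebraic (ResidueField Ash) (ResidueField Bsh) := by
    have h1 : Algebra.IsIntegral (ResidueField Ash) (ResidueField Bsh) := by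
      constructor
      intro x
      obtain ⟨x, rfl⟩ := residue_surjective x
      have h2 : IsIntegral Ash (residue Bsh x) :=
        (Algebra.IsIntegral.isIntegral (R := Ash) x).map
          (IsScalarTower.toAlgHom Ash Bsh (ResidueField Bsh))
      exact h2.tower_top
    exact h1.isAlgebraic
  have hpi : IsPurelyInseparable (ResidueField Ash) (ResidueField Bsh) := inferInstance
  have hE : IsLocalRing (Bsh ⊗[Ash] Csh) := TensorLocal.isLocalRing_tensor Ash Bsh Csh
  have hBE := TensorLocal.isLocalHom_includeLeft Ash Bsh Csh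
  have hCE := TensorLocal.isLocalHom_includeRight Ash Bsh Csh
  have hCEint := TensorLocal.isIntegral_includeRight Ash Bsh Csh
  have hθl : IsLocalHom θ.toRingHom := by
    have : IsLocalHom (θ.toRingHom.comp (Algebra.TensorProduct.includeRight :
        Csh →ₐ[Ash] Bsh ⊗[Ash] Csh).toRingHom) := by
      have e : θ.toRingHom.comp (Algebra.TensorProduct.includeRight :
        Csh →ₐ[Ash] Bsh ⊗[Ash] Csh).toRingHom = algebraMap Csh Dsh := by
        ext c
        exact hθC c
      rw [e]
      infer_instance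
    exact isLocalHom_of_isIntegral _ hCEint θ.toRingHom
  have hEh : HenselianLocalRing (Bsh ⊗[Ash] Csh) ∧
      IsSepClosed (ResidueField (Bsh ⊗[Ash] Csh)) := by
    let _ : Algebra Csh (Bsh ⊗[Ash] Csh) := (Algebra.TensorProduct.includeRight :
        Csh →ₐ[Ash] Bsh ⊗[Ash] Csh).toRingHom.toAlgebra
    have : Algebra.IsIntegral Csh (Bsh ⊗[Ash] Csh) := ⟨hCEint⟩
    have : IsLocalHom (algebraMap Csh (Bsh ⊗[Ash] Csh)) := hCE
    exact ⟨Groth.Agent.UnramB.IntHensel.henselianLocalRing_of_isIntegral Csh _,
      FiniteLoc.isSepClosed_of_isIntegral Csh _⟩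
  -- the map from `B ⊗ C`
  have hAE : ∀ a : A, (algebraMap B Bsh (algebraMap A B a)) ⊗ₜ[Ash] (1 : Csh) =
      (1 : Bsh) ⊗ₜ[Ash] (algebraMap C Csh (algebraMap A C a)) := fun a => by
    rw [← IsScalarTower.algebraMap_apply A B Bsh, ← IsScalarTower.algebraMap_apply A C Csh,
      IsScalarTower.algebraMap_apply A Ash Bsh, IsScalarTower.algebraMap_apply A Ash Csh,
      Algebra.algebraMap_eq_smul_one (algebraMap A Ash a),
      Algebra.algebraMap_eq_smul_one (algebraMap A Ash a), TensorProduct.smul_tmul]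
  obtain ⟨δ, hδB, hδC⟩ : ∃ δ : B ⊗[A] C →+* Bsh ⊗[Ash] Csh,
      (∀ b, δ (b ⊗ₜ 1) = (algebraMap B Bsh b) ⊗ₜ 1) ∧
      ∀ c, δ (1 ⊗ₜ c) = 1 ⊗ₜ (algebraMap C Csh c) :=
    exists_ringHom ((Algebra.TensorProduct.includeLeft :
          Bsh →ₐ[Ash] Bsh ⊗[Ash] Csh).toRingHom.comp (algebraMap B Bsh))
      ((Algebra.TensorProduct.includeRight :
          Csh →ₐ[Ash] Bsh ⊗[Ash] Csh).toRingHom.comp (algebraMap C Csh))
      (RingHom.ext hAE)
  have hθδ : θ.toRingHom.comp δ = algebraMap (B ⊗[A] C) Dsh := by
    apply RingHom.ext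
    intro x
    induction x using TensorProduct.induction_on with
    | zero => simp
    | add x y hx hy => rw [map_add, map_add, hx, hy]
    | tmul x y =>
      have e : x ⊗ₜ[A] y = (x ⊗ₜ[A] (1 : C)) * ((1 : B) ⊗ₜ[A] y) := by
        rw [Algebra.TensorProduct.tmul_mul_tmul, one_mul, mul_one]
      rw [e, map_mul, map_mul]
      congr 1
      · change θ (δ _) = _
        rw [hδB, hθB, ← IsScalarTower.algebraMap_apply B Bsh Dsh,
          IsScalarTower.algebraMap_apply B (B ⊗[A] C) Dsh]
        rfl
      · change θ (δ _) = _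
        rw [hδC, hθC, hC]
  have hpD : ∀ d, d ∈ pD ↔ δ d ∈ maximalIdeal (Bsh ⊗[Ash] Csh) := fun d => by
    rw [← mem_max_iff θ.toRingHom, ← RingHom.comp_apply, hθδ, ← mem_iff_of_loc pD Dsh]
  obtain ⟨δ', hδ', hδ'l⟩ := exists_lift_loc pD δ hpD
  let _ : Algebra (Localization.AtPrime pD) (Bsh ⊗[Ash] Csh) := δ'.toAlgebra
  have hl : IsLocalHom (algebraMap (Localization.AtPrime pD) (Bsh ⊗[Ash] Csh)) := hδ'l
  have hθδ' : θ.toRingHom.comp (algebraMap (Localization.AtPrime pD) (Bsh ⊗[Ash] Csh)) =
      algebraMap (Localization.AtPrime pD) Dsh := by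
    apply loc_hom_ext pD
    rw [RingHom.comp_assoc]
    change θ.toRingHom.comp (δ'.comp _) = _
    rw [hδ', hθδ, ← IsScalarTower.algebraMap_eq]
  have hSH : Hensel.IsStrictHenselization (Localization.AtPrime pD) (Bsh ⊗[Ash] Csh) := by
    refine ⟨hEh.1, ?_, ?_⟩
    · rw [isSepClosure_iff]
      refine ⟨hEh.2, ?_⟩
      let h : ResidueField (Bsh ⊗[Ash] Csh) →ₐ[ResidueField (Localization.AtPrime pD)]
        ResidueField Dsh := { ResidueField.map θ.toRingHom with
          commutes' := fun x => by
            obtain ⟨x, rfl⟩ := residue_surjective x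
            change residue Dsh (θ.toRingHom (algebraMap _ _ x)) =
              residue Dsh (algebraMap _ Dsh x)
            rw [← hθδ']
            rfl }
      exact Algebra.IsSeparable.of_algHom _ _ h
    · intro T _ _ f hf τ hτ
      have hτ' : ∀ d : Localization.AtPrime pD,
          τ (residue _ (δ' d)) = residue T (f d) := fun d => congr($hτ (residue _ d))
      have hτd : ∀ d : B ⊗[A] C, τ (residue _ (δ d)) = residue T (f (algebraMap _ _ d)) :=
        fun d => by
          rw [← hτ', ← hδ']
          rfl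
      let iB : Bsh →+* Bsh ⊗[Ash] Csh := (Algebra.TensorProduct.includeLeft :
        Bsh →ₐ[Ash] Bsh ⊗[Ash] Csh).toRingHom
      let iC : Csh →+* Bsh ⊗[Ash] Csh := (Algebra.TensorProduct.includeRight :
        Csh →ₐ[Ash] Bsh ⊗[Ash] Csh).toRingHom
      have hBE' : IsLocalHom iB := hBE
      have hCE' : IsLocalHom iC := hCE
      obtain ⟨gB, ⟨hgB, hgB'⟩, hgBu⟩ := universal_loc pB Bsh T
        ((f.comp (algebraMap (B ⊗[A] C) _)).comp (algebraMap B (B ⊗[A] C)))
        (τ.comp (ResidueField.map iB)) (fun b =>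
          (congrArg (fun z => τ (residue _ z)) (hδB b).symm).trans (hτd (b ⊗ₜ 1)))
      obtain ⟨gC, ⟨hgC, hgC'⟩, hgCu⟩ := universal_loc pC Csh T
        ((f.comp (algebraMap (B ⊗[A] C) _)).comp
          (Algebra.TensorProduct.includeRight : C →ₐ[A] B ⊗[A] C).toRingHom)
        (τ.comp (ResidueField.map iC)) (fun c =>
          (congrArg (fun z => τ (residue _ z)) (hδC c).symm).trans (hτd (1 ⊗ₜ c)))
      have hAB : gB.comp (algebraMap Ash Bsh) = gC.comp (algebraMap Ash Csh) := by
        have hiAB : iB.comp (algebraMap Ash Bsh) = iC.comp (algebraMap Ash Csh) := by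
          ext a
          exact ((Algebra.TensorProduct.includeLeft : Bsh →ₐ[Ash] Bsh ⊗[Ash] Csh).commutes a).trans
            ((Algebra.TensorProduct.includeRight : Csh →ₐ[Ash] Bsh ⊗[Ash] Csh).commutes a).symm
        have hlA : IsLocalHom (iB.comp (algebraMap Ash Bsh)) := inferInstance
        obtain ⟨gA, -, hgAu⟩ := universal_loc pA Ash T
          ((f.comp (algebraMap (B ⊗[A] C) _)).comp (algebraMap A (B ⊗[A] C)))
          (τ.comp (ResidueField.map (iB.comp (algebraMap Ash Bsh)))) (fun a => by
            change τ (residue _ (iB (algebraMap Ash Bsh (algebraMap A Ash a)))) = _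
            rw [← IsScalarTower.algebraMap_apply A Ash Bsh, IsScalarTower.algebraMap_apply A B Bsh]
            exact (congrArg (fun z => τ (residue _ z)) (hδB (algebraMap A B a)).symm).trans
              (hτd ((algebraMap A B a) ⊗ₜ 1)))
        rw [hgAu (gB.comp (algebraMap Ash Bsh)) ⟨?_, fun x => ?_⟩,
          hgAu (gC.comp (algebraMap Ash Csh)) ⟨?_, fun x => ?_⟩]
        · rw [RingHom.comp_assoc, ← IsScalarTower.algebraMap_eq,
            IsScalarTower.algebraMap_eq A C Csh, ← RingHom.comp_assoc, hgC]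
          ext a
          simp only [RingHom.comp_apply]
          congr 2
          exact (Algebra.TensorProduct.includeRight : C →ₐ[A] B ⊗[A] C).commutes a
        · rw [RingHom.comp_apply, hgC']
          change τ (residue _ ((iC.comp (algebraMap Ash Csh)) x)) = _
          rw [← hiAB]
          rfl
        · rw [RingHom.comp_assoc, ← IsScalarTower.algebraMap_eq,
            IsScalarTower.algebraMap_eq A B Bsh, ← RingHom.comp_assoc, hgB]
          ext a
          simp only [RingHom.comp_apply]
          rfl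
        · rw [RingHom.comp_apply, hgB']
          rfl
      obtain ⟨g, hgiB, hgiC⟩ := exists_ringHom (A := Ash) gB gC hAB
      have ext_hom : ∀ (g₁ g₂ : Bsh ⊗[Ash] Csh →+* T), 
          (∀ b : Bsh, g₁ (b ⊗ₜ (1 : Csh)) = g₂ (b ⊗ₜ (1 : Csh))) →
          (∀ c : Csh, g₁ ((1 : Bsh) ⊗ₜ c) = g₂ ((1 : Bsh) ⊗ₜ c)) → g₁ = g₂ := by
        intro g₁ g₂ h1 h2
        apply RingHom.ext
        intro x
        induction x using TensorProduct.induction_on with
        | zero => simp
        | add x y hx hy => rw [map_add, map_add, hx, hy]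
        | tmul x y =>
          have e : x ⊗ₜ[Ash] y = (x ⊗ₜ[Ash] (1 : Csh)) * ((1 : Bsh) ⊗ₜ[Ash] y) := by
            rw [Algebra.TensorProduct.tmul_mul_tmul, one_mul, mul_one]
          rw [e, map_mul, map_mul, h1, h2]
      have ext_homD : ∀ (g₁ g₂ : Localization.AtPrime pD →+* T),
          (∀ b : B, g₁ (algebraMap (B ⊗[A] C) _ (b ⊗ₜ[A] (1 : C))) =
            g₂ (algebraMap (B ⊗[A] C) _ (b ⊗ₜ[A] (1 : C)))) →
          (∀ c : C, g₁ (algebraMap (B ⊗[A] C) _ ((1 : B) ⊗ₜ[A] c)) =
            g₂ (algebraMap (B ⊗[A] C) _ ((1 : B) ⊗ₜ[A] c))) →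
          g₁ = g₂ := by
        intro g₁ g₂ h1 h2
        apply loc_hom_ext pD
        apply RingHom.ext
        intro x
        induction x using TensorProduct.induction_on with
        | zero => simp
        | add x y hx hy => rw [map_add, map_add, hx, hy]
        | tmul x y =>
          have e : x ⊗ₜ[A] y = (x ⊗ₜ[A] (1 : C)) * ((1 : B) ⊗ₜ[A] y) := by
            rw [Algebra.TensorProduct.tmul_mul_tmul, one_mul, mul_one]
          rw [e, map_mul, map_mul, RingHom.comp_apply, RingHom.comp_apply, h1, h2]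
          rfl
      refine ⟨g, ⟨?_, ?_⟩, ?_⟩
      · apply ext_homD
        · intro b
          change g (δ' (algebraMap _ _ _)) = _
          rw [← RingHom.comp_apply δ', hδ', hδB, hgiB]
          exact congr($hgB b)
        · intro c
          change g (δ' (algebraMap _ _ _)) = _
          rw [← RingHom.comp_apply δ', hδ', hδC, hgiC]
          exact congr($hgC c)
      · intro x
        induction x using TensorProduct.induction_on with
        | zero => simp
        | add x y hx hy => simp only [map_add, hx, hy]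
        | tmul x y =>
          have e : x ⊗ₜ[Ash] y = (x ⊗ₜ[Ash] (1 : Csh)) * ((1 : Bsh) ⊗ₜ[Ash] y) := by
            rw [Algebra.TensorProduct.tmul_mul_tmul, one_mul, mul_one]
          rw [e]
          simp only [map_mul]
          rw [hgiB, hgiC, hgB', hgC']
          rfl
      · rintro g₂ ⟨h1, h2⟩
        apply ext_hom
        · intro b
          rw [hgiB, ← hgBu (g₂.comp iB) ⟨?_, fun x => ?_⟩]
          · rfl
          · ext b
            have h3 : g₂ (δ' (algebraMap _ _ (b ⊗ₜ[A] (1 : C)))) =
              f (algebraMap _ _ (b ⊗ₜ[A] (1 : C))) := congr($h1 _)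
            rw [← RingHom.comp_apply δ', hδ', hδB] at h3
            exact h3
          · exact h2 (iB x)
        · intro c
          rw [hgiC, ← hgCu (g₂.comp iC) ⟨?_, fun x => ?_⟩]
          · rfl
          · ext c
            have h3 : g₂ (δ' (algebraMap _ _ ((1 : B) ⊗ₜ[A] c))) =
              f (algebraMap _ _ ((1 : B) ⊗ₜ[A] c)) := congr($h1 _)
            rw [← RingHom.comp_apply δ', hδ', hδC] at h3
            exact h3
          · exact h2 (iC x)
  exact TensorLoc.bijective_of_isStrictHenselization (Localization.AtPrime pD)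
    (Bsh ⊗[Ash] Csh) Dsh θ.toRingHom hθδ'

end K141.StrictTensor
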