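import Groth.Agent.Hensel.K141.IndQF
import Groth.Agent.Hensel.K141.StrictTensor

/-!
If `S_q` is a directed union of quasi-finite `R_p`-algebras of finite type, then `R^{sh} → S^{sh}` is
integral.
-/

universe u

noncomputable section

namespace K141.IndQFLoc

open IsLocalRing TensorProduct K141.LocUniv K141.FiniteLoc

variable {R S : Type u} [CommRing R] [CommRing S] [Algebra R S] (p : Ideal R) [p.IsPrime]
  (q : Ideal S) [q.IsPrime] [q.LiesOver p]
  (Rh : Type u) [CommRing Rh] [IsLocalRing Rh] [Algebra (Localization.AtPrime p) Rh]
  [IsLocalHom (algebraMap (Localization.AtPrime p) Rh)] [Algebra R Rh]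
  [IsScalarTower R (Localization.AtPrime p) Rh]
  (Sh : Type u) [CommRing Sh] [IsLocalRing Sh] [Algebra (Localization.AtPrime q) Sh]
  [IsLocalHom (algebraMap (Localization.AtPrime q) Sh)] [Algebra S Sh]
  [IsScalarTower S (Localization.AtPrime q) Sh]
  [Algebra (Localization.AtPrime p) (Localization.AtPrime q)]
  [IsScalarTower R (Localization.AtPrime p) (Localization.AtPrime q)]

/-- Ind-quasi-finite case for the local rings: the map of strict henselizations is integral. -/
theorem isIntegral_strictHenselization
    (hS : ∀ s : Finset (Localization.AtPrime q),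
      ∃ S₀ : Subalgebra (Localization.AtPrime p) (Localization.AtPrime q),
        (s : Set (Localization.AtPrime q)) ⊆ S₀ ∧ Algebra.FiniteType (Localization.AtPrime p) S₀ ∧
      Algebra.QuasiFinite (Localization.AtPrime p) S₀)
    [Hensel.IsStrictHenselization (Localization.AtPrime p) Rh]
    [Hensel.IsStrictHenselization (Localization.AtPrime q) Sh] (g : Rh →+* Sh)
    (hg : g.comp (algebraMap R Rh) = (algebraMap S Sh).comp (algebraMap R S)) :
    g.IsIntegral := by
  have hRh : HenselianLocalRing Rh :=
    Hensel.IsStrictHenselization.henselian (Localization.AtPrime p)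
  have hRs : IsSepClosed (ResidueField Rh) := ((isSepClosure_iff).mp
    (Hensel.IsStrictHenselization.isSepClosure (R := Localization.AtPrime p) (S := Rh))).1
  have hgl := isLocalHom_of_map_maximalIdeal p q Rh Sh g hg
    (Groth.Agent.Hensel.Exist.map_maximalIdeal_of_isStrictHenselization _ _)
  have hgloc : g.comp (algebraMap (Localization.AtPrime p) Rh) =
      (algebraMap (Localization.AtPrime q) Sh).comp
        (algebraMap (Localization.AtPrime p) (Localization.AtPrime q)) := by
    apply loc_hom_ext p
    ext r
    simp only [RingHom.comp_apply]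
    rw [← IsScalarTower.algebraMap_apply R (Localization.AtPrime p) Rh,
      ← IsScalarTower.algebraMap_apply R (Localization.AtPrime p) (Localization.AtPrime q),
      IsScalarTower.algebraMap_apply R S (Localization.AtPrime q),
      ← IsScalarTower.algebraMap_apply S (Localization.AtPrime q) Sh]
    exact congr($hg r)
  obtain ⟨φ, hφ1, hφ2⟩ := StrictTensor.exists_ringHom g
    (algebraMap (Localization.AtPrime q) Sh) hgloc
  obtain ⟨Q, hQ⟩ : ∃ Q : Ideal (Rh ⊗[Localization.AtPrime p] (Localization.AtPrime q)),
    Q = (maximalIdeal Sh).comap φ := ⟨_, rfl⟩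
  have hQp : Q.IsPrime := hQ ▸ inferInstance
  have h1 : Q.LiesOver (maximalIdeal Rh) := by
    constructor
    ext x
    rw [← mem_max_iff g, ← hφ1, hQ]
    rfl
  have h3 := IndQF.isIntegral_localization (T := Rh) hS Q
  obtain ⟨ψ, hψ, hψl⟩ := exists_lift_loc Q φ (fun d => by rw [hQ]; rfl)
  let _ : Algebra (Localization.AtPrime Q) Sh := ψ.toAlgebra
  have hl : IsLocalHom (algebraMap (Localization.AtPrime Q) Sh) := hψl
  have h4 : Hensel.IsStrictHenselization (Localization.AtPrime Q) Sh := by
    refine isStrictHenselization_of_epi p q Rh Sh (Localization.AtPrime Q)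
      ((algebraMap (Rh ⊗[Localization.AtPrime p] (Localization.AtPrime q)) _).comp
        (Algebra.TensorProduct.includeLeft : Rh →ₐ[Localization.AtPrime p]
          Rh ⊗[Localization.AtPrime p] (Localization.AtPrime q)).toRingHom)
      (((algebraMap (Rh ⊗[Localization.AtPrime p] (Localization.AtPrime q)) _).comp
        (Algebra.TensorProduct.includeRight : Localization.AtPrime q →ₐ[Localization.AtPrime p]
          Rh ⊗[Localization.AtPrime p] (Localization.AtPrime q)).toRingHom).comp
            (algebraMap S _)) ?_ ?_ ?_
    · rw [← RingHom.comp_assoc, ← RingHom.comp_assoc]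
      change ((ψ.comp _).comp _).comp _ = _
      rw [hψ]
      ext s
      change φ (1 ⊗ₜ (algebraMap S _ s)) = _
      rw [hφ2, ← IsScalarTower.algebraMap_apply]
    · have h5 := TensorLoc.tensor_comm (R := Localization.AtPrime p)
        (S := Localization.AtPrime q) Rh Q
      rw [IsScalarTower.algebraMap_eq R (Localization.AtPrime p) Rh, ← RingHom.comp_assoc, h5]
      ext r
      simp only [RingHom.comp_apply]
      rw [← IsScalarTower.algebraMap_apply R (Localization.AtPrime p) (Localization.AtPrime q),
        IsScalarTower.algebraMap_apply R S (Localization.AtPrime q)]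
    · intro T _ f₁ f₂ e1 e2
      refine TensorLoc.tensor_epi (R := Localization.AtPrime p)
        (S := Localization.AtPrime q) Rh Q T f₁ f₂ e1 ?_
      apply loc_hom_ext q
      rw [RingHom.comp_assoc, RingHom.comp_assoc]
      exact e2
  have h6 : HenselianLocalRing (Localization.AtPrime Q) :=
    Groth.Agent.UnramB.IntHensel.henselianLocalRing_of_isIntegral Rh _
  have h9 : IsLocalHom (algebraMap Rh (Localization.AtPrime Q)) := by
    refine isLocalHom_of_map_le (A := Rh) (B := Localization.AtPrime Q)
      (algebraMap Rh (Localization.AtPrime Q)) ?_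
    rw [Ideal.map_le_iff_le_comap]
    intro x hx
    rw [Ideal.mem_comap, IsScalarTower.algebraMap_apply Rh
      (Rh ⊗[Localization.AtPrime p] (Localization.AtPrime q)),
      IsLocalization.AtPrime.to_map_mem_maximal_iff _ Q]
    rw [h1.over] at hx
    exact hx
  have h10 : IsSepClosed (ResidueField (Localization.AtPrime Q)) :=
    isSepClosed_of_isIntegral Rh _
  have h7 := TensorLoc.bijective_algebraMap_of_isStrictHenselization
    (Localization.AtPrime Q) Sh
  have h8 : g = (algebraMap (Localization.AtPrime Q) Sh).comp
      (algebraMap Rh _) := by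
    rw [IsScalarTower.algebraMap_eq Rh (Rh ⊗[Localization.AtPrime p] (Localization.AtPrime q)),
      ← RingHom.comp_assoc]
    change _ = (ψ.comp _).comp _
    rw [hψ]
    ext x
    exact (hφ1 x).symm
  rw [h8]
  exact RingHom.IsIntegral.trans _ _ (algebraMap_isIntegral_iff.mpr h3)
    (RingHom.isIntegral_of_surjective _ h7.2)

end K141.IndQFLoc
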