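import Groth.Agent.Hensel.Exist

/-!
The henselization (strict henselization) of `S_q` is also a henselization (strict henselization) of a
local ring `D` lying between `S_q` and its henselization that is generated, as an epimorphism, by `S`
and the henselization of a smaller ring `R_p`.
-/

universe u

noncomputable section

namespace K141.LocUniv

open IsLocalRing

theorem mem_max_iff {A B : Type*} [CommRing A] [IsLocalRing A] [CommRing B] [IsLocalRing B]
    (f : A →+* B) [IsLocalHom f] (a : A) : f a ∈ maximalIdeal B ↔ a ∈ maximalIdeal A := by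
  rw [mem_maximalIdeal, mem_maximalIdeal, mem_nonunits_iff, mem_nonunits_iff, isUnit_map_iff]

theorem isLocalHom_of_map_le {A B : Type*} [CommRing A] [IsLocalRing A] [CommRing B]
    [IsLocalRing B] (f : A →+* B) (h : (maximalIdeal A).map f ≤ maximalIdeal B) :
    IsLocalHom f :=
  ((IsLocalRing.local_hom_TFAE f).out 0 2 rfl rfl).mpr h

/-- Lifting a map from `R` to a local ring `T` to the localization at `p`. -/
theorem exists_lift_loc {R : Type u} [CommRing R] (p : Ideal R) [p.IsPrime] {T : Type u} [CommRing T]
    [IsLocalRing T] (f : R →+* T) (hf : ∀ r : R, r ∈ p ↔ f r ∈ maximalIdeal T) :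
    ∃ g : Localization.AtPrime p →+* T, g.comp (algebraMap R _) = f ∧ IsLocalHom g := by
  have h1 : ∀ y : p.primeCompl, IsUnit (f y) := fun y => by
    rw [← IsLocalRing.notMem_maximalIdeal, ← hf]
    exact y.2
  refine ⟨IsLocalization.lift h1, IsLocalization.lift_comp h1, ⟨fun x hx => ?_⟩⟩
  obtain ⟨a, s, rfl⟩ := IsLocalization.exists_mk'_eq p.primeCompl x
  rw [IsLocalization.lift_mk'] at hx
  have h2 : IsUnit (f a) := isUnit_of_mul_isUnit_left hx
  rw [IsLocalization.AtPrime.isUnit_mk'_iff (Localization.AtPrime p) p]
  intro h3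
  exact (hf a).mp h3 h2

theorem loc_hom_ext {R : Type u} [CommRing R] (p : Ideal R) [p.IsPrime] {T : Type u} [CommRing T]
    (f g : Localization.AtPrime p →+* T)
    (h : f.comp (algebraMap R _) = g.comp (algebraMap R _)) : f = g :=
  IsLocalization.ringHom_ext p.primeCompl h

section

variable {R S : Type u} [CommRing R] [CommRing S] [Algebra R S] (p : Ideal R) [p.IsPrime]
  (q : Ideal S) [q.IsPrime] [q.LiesOver p]
  (Rh : Type u) [CommRing Rh] [IsLocalRing Rh] [Algebra (Localization.AtPrime p) Rh]
  [IsLocalHom (algebraMap (Localization.AtPrime p) Rh)] [Algebra R Rh]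
  [IsScalarTower R (Localization.AtPrime p) Rh]
  (Sh : Type u) [CommRing Sh] [IsLocalRing Sh] [Algebra (Localization.AtPrime q) Sh]
  [IsLocalHom (algebraMap (Localization.AtPrime q) Sh)] [Algebra S Sh]
  [IsScalarTower S (Localization.AtPrime q) Sh]
  (D : Type u) [CommRing D] [IsLocalRing D] [Algebra D Sh] [IsLocalHom (algebraMap D Sh)]

omit [Algebra R S] in
theorem mem_iff_of_loc (r : R) : r ∈ p ↔ algebraMap R Rh r ∈ maximalIdeal Rh := by
  rw [IsScalarTower.algebraMap_apply R (Localization.AtPrime p) Rh, mem_max_iff,
    IsLocalization.AtPrime.to_map_mem_maximal_iff (Localization.AtPrime p) p]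

/-- The henselization of `S_q` is a henselization of every local ring `D` between. -/
theorem isHenselization_of_epi [Hensel.IsHenselization (Localization.AtPrime p) Rh]
    [Hensel.IsHenselization (Localization.AtPrime q) Sh] (i : Rh →+* D) (j : S →+* D)
    (hj : (algebraMap D Sh).comp j = algebraMap S Sh)
    (hij : i.comp (algebraMap R Rh) = j.comp (algebraMap R S))
    (epi : ∀ (T : Type u) [CommRing T] (f g : D →+* T), f.comp i = g.comp i →
      f.comp j = g.comp j → f = g) : Hensel.IsHenselization D Sh where
  henselian := Hensel.IsHenselization.henselian (Localization.AtPrime q)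
  universal T _ _ f hf := by
    have hjm : ∀ s : S, s ∈ q ↔ j s ∈ maximalIdeal D := fun s => by
      rw [mem_iff_of_loc q Sh, ← hj, RingHom.comp_apply, mem_max_iff]
    have hfm : ∀ d : D, d ∈ maximalIdeal D ↔ f d ∈ maximalIdeal T := fun d =>
      (mem_max_iff f d).symm
    obtain ⟨fS, hfS, hfSl⟩ := exists_lift_loc q (f.comp j) (fun s => (hjm s).trans (hfm _))
    have hR : ∀ r : R, r ∈ p ↔ f (i (algebraMap R Rh r)) ∈ maximalIdeal T := fun r => by
      have h1 : i (algebraMap R Rh r) = j (algebraMap R S r) := congr($hij r)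
      rw [h1, ← hfm, ← hjm, Ideal.LiesOver.over (p := p) (P := q)]
      rfl
    obtain ⟨fR, hfR, hfRl⟩ := exists_lift_loc p ((f.comp i).comp (algebraMap R Rh)) hR
    obtain ⟨g, hg, hgu⟩ := Hensel.IsHenselization.universal (R := Localization.AtPrime q)
      (S := Sh) T fS hfSl
    dsimp only at hgu
    have hgj : (g.comp (algebraMap D Sh)).comp j = f.comp j := by
      rw [RingHom.comp_assoc, hj, IsScalarTower.algebraMap_eq S (Localization.AtPrime q) Sh,
        ← RingHom.comp_assoc, hg, hfS]
    refine ⟨g, ?_, ?_⟩
    · dsimp only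
      refine epi T _ _ ?_ hgj
      obtain ⟨g', hg', hgu'⟩ := Hensel.IsHenselization.universal (R := Localization.AtPrime p)
        (S := Rh) T fR hfRl
      dsimp only at hgu'
      have e1 : (f.comp i).comp (algebraMap (Localization.AtPrime p) Rh) = fR := by
        apply loc_hom_ext p
        rw [RingHom.comp_assoc, ← IsScalarTower.algebraMap_eq, hfR]
      have e2 : ((g.comp (algebraMap D Sh)).comp i).comp (algebraMap (Localization.AtPrime p) Rh)
          = fR := by
        apply loc_hom_ext p
        rw [RingHom.comp_assoc, ← IsScalarTower.algebraMap_eq, hfR, RingHom.comp_assoc, hij,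
          ← RingHom.comp_assoc, hgj, RingHom.comp_assoc, ← hij, ← RingHom.comp_assoc]
      rw [hgu' _ e1, hgu' _ e2]
    · intro g₂ hg₂
      apply hgu
      apply loc_hom_ext q
      rw [hfS, RingHom.comp_assoc, ← IsScalarTower.algebraMap_eq, ← hj, ← RingHom.comp_assoc, hg₂]

/-- The strict henselization of `S_q` is a strict henselization of every local ring `D` between. -/
theorem isStrictHenselization_of_epi [Hensel.IsStrictHenselization (Localization.AtPrime p) Rh]
    [Hensel.IsStrictHenselization (Localization.AtPrime q) Sh] (i : Rh →+* D) (j : S →+* D)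
    (hj : (algebraMap D Sh).comp j = algebraMap S Sh)
    (hij : i.comp (algebraMap R Rh) = j.comp (algebraMap R S))
    (epi : ∀ (T : Type u) [CommRing T] (f g : D →+* T), f.comp i = g.comp i →
      f.comp j = g.comp j → f = g) : Hensel.IsStrictHenselization D Sh := by
  have hjm : ∀ s : S, s ∈ q ↔ j s ∈ maximalIdeal D := fun s => by
    rw [mem_iff_of_loc q Sh, ← hj, RingHom.comp_apply, mem_max_iff]
  obtain ⟨j', hj', hj'l⟩ := exists_lift_loc q j hjm
  have hj'S : (algebraMap D Sh).comp j' = algebraMap (Localization.AtPrime q) Sh := by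
    apply loc_hom_ext q
    rw [RingHom.comp_assoc, hj', hj, ← IsScalarTower.algebraMap_eq]
  have hRi : ∀ r : R, r ∈ p ↔ i (algebraMap R Rh r) ∈ maximalIdeal D := fun r => by
    have h1 : i (algebraMap R Rh r) = j (algebraMap R S r) := congr($hij r)
    rw [h1, ← hjm, Ideal.LiesOver.over (p := p) (P := q)]
    rfl
  have hil : IsLocalHom i := by
    apply isLocalHom_of_map_le
    rw [← Groth.Agent.Hensel.Exist.map_maximalIdeal_of_isStrictHenselization
      (Localization.AtPrime p) Rh, Ideal.map_map, ← Localization.AtPrime.map_eq_maximalIdeal,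
      Ideal.map_map, RingHom.comp_assoc, ← IsScalarTower.algebraMap_eq, Ideal.map_le_iff_le_comap]
    exact fun r hr => (hRi r).mp hr
  refine ⟨Hensel.IsStrictHenselization.henselian (Localization.AtPrime q), ?_, ?_⟩
  · obtain ⟨h1, h2⟩ := (isSepClosure_iff).mp (Hensel.IsStrictHenselization.isSepClosure
      (R := Localization.AtPrime q) (S := Sh))
    rw [isSepClosure_iff]
    refine ⟨h1, ?_⟩
    let _ : Algebra (ResidueField (Localization.AtPrime q)) (ResidueField D) :=
      (ResidueField.map j').toAlgebra
    have : IsScalarTower (ResidueField (Localization.AtPrime q)) (ResidueField D)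
        (ResidueField Sh) := by
      refine IsScalarTower.of_algebraMap_eq fun x => ?_
      obtain ⟨x, rfl⟩ := residue_surjective x
      change residue Sh (algebraMap _ Sh x) = residue Sh (algebraMap D Sh (j' x))
      rw [← hj'S]
      rfl
    exact Algebra.isSeparable_tower_top_of_isSeparable (ResidueField (Localization.AtPrime q)) _ _
  · intro T _ _ f hf τ hτ
    have hτ' : ∀ d : D, τ (residue Sh (algebraMap D Sh d)) = residue T (f d) := fun d =>
      congr($hτ (residue D d))
    obtain ⟨g, ⟨hg, hg'⟩, hgu⟩ := Hensel.IsStrictHenselization.universal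
      (R := Localization.AtPrime q) (S := Sh) T (f.comp j') τ (by
        apply RingHom.ext
        intro x
        obtain ⟨x, rfl⟩ := residue_surjective x
        change τ (residue Sh (algebraMap _ Sh x)) = residue T (f (j' x))
        rw [← hτ', ← hj'S]
        rfl)
    have hgj' : (g.comp (algebraMap D Sh)).comp j' = f.comp j' := by
      rw [RingHom.comp_assoc, hj'S, hg]
    have hgj : (g.comp (algebraMap D Sh)).comp j = f.comp j := by
      rw [← hj', ← RingHom.comp_assoc, hgj', RingHom.comp_assoc]
    refine ⟨g, ⟨epi T _ _ ?_ hgj, hg'⟩, ?_⟩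
    · have hl : IsLocalHom (f.comp i) := inferInstance
      have hpl : IsLocalHom ((f.comp i).comp (algebraMap (Localization.AtPrime p) Rh)) :=
        inferInstance
      obtain ⟨g', -, hgu'⟩ := Hensel.IsStrictHenselization.universal
        (R := Localization.AtPrime p) (S := Rh) T
        ((f.comp i).comp (algebraMap (Localization.AtPrime p) Rh))
        (ResidueField.map (f.comp i)) (by
          apply RingHom.ext
          intro x
          obtain ⟨x, rfl⟩ := residue_surjective x
          rfl)
      rw [hgu' (f.comp i) ⟨rfl, fun x => rfl⟩]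
      refine hgu' _ ⟨?_, fun x => ?_⟩
      · apply loc_hom_ext p
        simp only [RingHom.comp_assoc]
        rw [← IsScalarTower.algebraMap_eq, hij]
        simp only [← RingHom.comp_assoc]
        rw [hgj]
      · change residue T (g (algebraMap D Sh (i x))) = residue T (f (i x))
        rw [hg', hτ']
    · rintro g₂ ⟨hg₂, hg₂'⟩
      apply hgu _ ⟨?_, hg₂'⟩
      rw [← hj'S, ← RingHom.comp_assoc, hg₂]

end

end K141.LocUniv
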