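import Mathlib.RingTheory.Henselian
import Mathlib.RingTheory.Polynomial.GaussLemma
import Mathlib.FieldTheory.Minpoly.IsIntegrallyClosed
import Mathlib.FieldTheory.IsSepClosed
import Mathlib.RingTheory.IntegralClosure.IsIntegralClosure.Basic
import Mathlib.RingTheory.Ideal.GoingUp

/-!
A normal local domain whose integral closure in a separably closed extension of its fraction field is
local, is henselian.
-/

universe u v w

noncomputable section

namespace K141.NormalHensel

open IsLocalRing Polynomial

variable (V L Ω : Type*) [CommRing V] [IsDomain V] [IsLocalRing V] [IsIntegrallyClosed V]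
  [Field L] [Algebra V L] [IsFractionRing V L] [Field Ω] [IsSepClosed Ω] [Algebra L Ω]
  [Algebra V Ω] [IsScalarTower V L Ω] (W : Type*) [CommRing W] [IsLocalRing W] [Algebra V W]
  [Algebra W Ω] [IsScalarTower V W Ω] [IsIntegralClosure W V Ω]

/-- Roots of an irreducible monic polynomial are congruent to each residual root. -/
theorem sub_mem [Algebra.IsIntegral V W] [IsDomain W] [Module.IsTorsionFree V W]
    (f : V[X]) (hf : f.Monic) (hirr : Irreducible f) (a₀ : V)
    (h1 : f.eval a₀ ∈ maximalIdeal V) (α : W) (hα : aeval α f = 0) :
    algebraMap V W a₀ - α ∈ maximalIdeal W := by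
  rw [mem_maximalIdeal, mem_nonunits_iff]
  intro hu
  have hmp : f = minpoly V α := by
    have h2 := minpoly.isIntegrallyClosed_dvd (Algebra.IsIntegral.isIntegral (R := V) α) hα
    obtain ⟨g, hg⟩ := h2
    have h3 := hirr.isUnit_or_isUnit hg
    rcases h3 with h3 | h3
    · exact absurd h3 (minpoly.not_isUnit V α)
    · have hm := minpoly.monic (Algebra.IsIntegral.isIntegral (R := V) α)
      have hgm : g.Monic := hm.of_mul_monic_left (hg ▸ hf)
      rw [hgm.eq_one_of_isUnit h3, mul_one] at hg
      exact hg
  let V' := Algebra.adjoin V {α}
  have hint : Algebra.IsIntegral V' W := Algebra.IsIntegral.tower_top (R := V)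
  let y : V' := algebraMap V V' a₀ - ⟨α, Algebra.subset_adjoin (by simp)⟩
  have hy : algebraMap V' W y = algebraMap V W a₀ - α := rfl
  have hlh : IsLocalHom (algebraMap V' W) := RingHom.IsIntegral.isLocalHom
    (algebraMap_isIntegral_iff.mpr hint) Subtype.val_injective
  rw [← hy] at hu
  have hy' : IsUnit y := (isUnit_map_iff (algebraMap V' W) y).mp hu
  obtain ⟨z, hz⟩ := isUnit_iff_exists_inv.mp hy'
  obtain ⟨u, hu'⟩ : ∃ u : V[X], aeval α u = z.1 := by
    have h7 : z.1 ∈ (aeval α : V[X] →ₐ[V] W).range := by
      rw [← Algebra.adjoin_singleton_eq_range_aeval]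
      exact z.2
    exact h7
  have hz' : (algebraMap V W a₀ - α) * aeval α u = 1 := by
    have := congr(algebraMap V' W $hz)
    rw [map_mul, hy, map_one] at this
    rw [← this, hu']
    rfl
  have h4 : aeval α ((C a₀ - X) * u - 1) = 0 := by
    rw [map_sub, map_mul, map_sub, aeval_C, aeval_X, map_one, hz', sub_self]
  obtain ⟨w, hw⟩ := minpoly.isIntegrallyClosed_dvd (Algebra.IsIntegral.isIntegral (R := V) α) h4
  rw [← hmp] at hw
  have h5 := congr(eval a₀ $hw)
  rw [eval_sub, eval_mul, eval_sub, eval_C, eval_X, sub_self, zero_mul, zero_sub, eval_one,
    eval_mul] at h5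
  have h6 : (-1 : V) ∈ maximalIdeal V := by
    rw [h5]
    exact Ideal.mul_mem_right _ _ h1
  exact (maximalIdeal.isMaximal V).ne_top ((Ideal.eq_top_iff_one _).mpr (by simpa using h6))

include L Ω W in
/-- A normal local domain is henselian if its integral closure in a separably closed extension of
the fraction field is local. -/
theorem henselianLocalRing : HenselianLocalRing V := by
  have hWinj : Function.Injective (algebraMap W Ω) :=
    IsIntegralClosure.algebraMap_injective W V Ω
  have hWdom : IsDomain W := hWinj.isDomain (algebraMap W Ω)
  have hVΩ : Function.Injective (algebraMap V Ω) := by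
    rw [IsScalarTower.algebraMap_eq V L Ω]
    exact (algebraMap L Ω).injective.comp (IsFractionRing.injective V L)
  have hVW : Function.Injective (algebraMap V W) := by
    rw [IsScalarTower.algebraMap_eq V W Ω] at hVΩ
    exact Function.Injective.of_comp hVΩ
  have hint : Algebra.IsIntegral V W := IsIntegralClosure.isIntegral_algebra V Ω
  have htf : Module.IsTorsionFree V W := by
    have : FaithfulSMul V W := (faithfulSMul_iff_algebraMap_injective V W).mpr hVW
    infer_instance
  have hlVW : IsLocalHom (algebraMap V W) := RingHom.IsIntegral.isLocalHom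
    (algebraMap_isIntegral_iff.mpr hint) hVW
  have key : ∀ (n : ℕ) (f : V[X]), f.natDegree = n → f.Monic → ∀ a₀ : V,
      f.eval a₀ ∈ maximalIdeal V → IsUnit (f.derivative.eval a₀) →
        ∃ a : V, f.IsRoot a ∧ a - a₀ ∈ maximalIdeal V := by
    intro n
    induction n using Nat.strong_induction_on with
    | _ n ih =>
      intro f hn hf a₀ h1 h2
      by_cases hirr : Irreducible f
      · by_cases hn1 : n = 1
        · -- degree one
          rw [hn1] at hn
          have hfX := hf.eq_X_add_C hn
          refine ⟨-f.coeff 0, ?_, ?_⟩
          · rw [hfX]; simp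
          · rw [hfX] at h1
            have : f.coeff 0 + a₀ ∈ maximalIdeal V := by simpa [add_comm] using h1
            have := (maximalIdeal V).neg_mem this
            rwa [neg_add, ← sub_eq_add_neg] at this
        · exfalso
          -- two distinct roots
          have hirrL : Irreducible (f.map (algebraMap V L)) :=
            (hf.irreducible_iff_irreducible_map_fraction_map (K := L)).mp hirr
          have hder : (f.map (algebraMap V L)).derivative ≠ 0 := by
            rw [derivative_map]
            intro h0
            rw [Polynomial.map_eq_zero_iff (IsFractionRing.injective V L)] at h0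
            rw [h0, eval_zero] at h2
            exact not_isUnit_zero h2
          have hsep : (f.map (algebraMap V L)).Separable :=
            (separable_iff_derivative_ne_zero hirrL).mpr hder
          have hsplit : ((f.map (algebraMap V L)).map (algebraMap L Ω)).Splits :=
            IsSepClosed.splits_codomain _ hsep
          have hmapmap : (f.map (algebraMap V L)).map (algebraMap L Ω) =
              f.map (algebraMap V Ω) := by
            rw [Polynomial.map_map, ← IsScalarTower.algebraMap_eq]
          rw [hmapmap] at hsplit
          have hsepΩ : (f.map (algebraMap V Ω)).Separable := by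
            rw [← hmapmap]
            exact hsep.map
          have hcard : Multiset.card (f.map (algebraMap V Ω)).roots = n := by
            rw [← hn, ← hf.natDegree_map (algebraMap V Ω)]
            exact hsplit.natDegree_eq_card_roots.symm
          have hnd : (f.map (algebraMap V Ω)).roots.Nodup := nodup_roots hsepΩ
          have hn0 : n ≠ 0 := by
            rintro rfl
            rw [hf.natDegree_eq_zero.mp hn] at hirr
            exact hirr.not_isUnit isUnit_one
          classical
          obtain ⟨α, hα, β, hβ, hαβ⟩ : ∃ α ∈ (f.map (algebraMap V Ω)).roots.toFinset,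
              ∃ β ∈ (f.map (algebraMap V Ω)).roots.toFinset, α ≠ β := by
            rw [← Finset.one_lt_card]
            rw [Multiset.toFinset_card_of_nodup hnd, hcard]
            omega
          have hroot : ∀ γ : Ω, γ ∈ (f.map (algebraMap V Ω)).roots.toFinset →
              ∃ γ' : W, algebraMap W Ω γ' = γ ∧ aeval γ' f = 0 := by
            intro γ hγ
            rw [Multiset.mem_toFinset, mem_roots', IsRoot.def, eval_map_algebraMap] at hγ
            have hγi : IsIntegral V γ := ⟨f, hf, hγ.2⟩
            obtain ⟨γ', hγ'⟩ := (IsIntegralClosure.isIntegral_iff (A := W)).mp hγi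
            refine ⟨γ', hγ', ?_⟩
            apply hWinj
            rw [map_zero, ← hγ.2, ← hγ', aeval_algebraMap_apply]
          obtain ⟨α', hα', hα0⟩ := hroot α hα
          obtain ⟨β', hβ', hβ0⟩ := hroot β hβ
          have hne : α' ≠ β' := by
            rintro rfl
            exact hαβ (hα'.symm.trans hβ')
          have hmα := sub_mem V W f hf hirr a₀ h1 α' hα0
          have hmβ := sub_mem V W f hf hirr a₀ h1 β' hβ0
          let F : W[X] := f.map (algebraMap V W)
          have hFα : F.IsRoot α' := by
            rw [IsRoot.def, eval_map_algebraMap, hα0]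
          have hFβ : F.IsRoot β' := by
            rw [IsRoot.def, eval_map_algebraMap, hβ0]
          obtain ⟨h, hh⟩ := dvd_iff_isRoot.mpr hFα
          have hhβ : h.eval β' = 0 := by
            rw [IsRoot.def, hh, eval_mul, eval_sub, eval_X, eval_C] at hFβ
            exact (mul_eq_zero.mp hFβ).resolve_left (sub_ne_zero.mpr hne.symm)
          have hsub : ∀ (g : W[X]) (x y : W), x - y ∈ maximalIdeal W →
              g.eval x ∈ maximalIdeal W → g.eval y ∈ maximalIdeal W := by
            intro g x y hxy hx
            have h3 : g.eval x - g.eval y ∈ maximalIdeal W :=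
              Ideal.mem_of_dvd _ (sub_dvd_eval_sub x y g) hxy
            have := (maximalIdeal W).sub_mem hx h3
            rwa [sub_sub_cancel] at this
          have hβα : β' - α' ∈ maximalIdeal W := by
            have := (maximalIdeal W).sub_mem hmα hmβ
            rwa [sub_sub_sub_cancel_left] at this
          have hhα : h.eval α' ∈ maximalIdeal W :=
            hsub h β' α' hβα (by rw [hhβ]; exact zero_mem _)
          have hdα : F.derivative.eval α' ∈ maximalIdeal W := by
            rw [hh, derivative_mul, derivative_sub, derivative_X, derivative_C, sub_zero, one_mul,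
              eval_add, eval_mul, eval_sub, eval_X, eval_C, sub_self, zero_mul, add_zero]
            exact hhα
          have hda : F.derivative.eval (algebraMap V W a₀) ∈ maximalIdeal W := by
            refine hsub _ α' _ ?_ hdα
            rw [← neg_sub]
            exact (maximalIdeal W).neg_mem hmα
          rw [derivative_map, eval_map_algebraMap, aeval_algebraMap_apply, coe_aeval_eq_eval] at hda
          exact hda (h2.map (algebraMap V W))
      · have hf1 : f ≠ 1 := by
          rintro rfl
          simp at h2
        rw [hf.irreducible_iff_natDegree] at hirr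
        push Not at hirr
        obtain ⟨g, h, hg, hh, hgh, hg0, hh0⟩ := hirr hf1
        have hdeg : g.natDegree + h.natDegree = n := by
          rw [← hn, ← hgh, hg.natDegree_mul hh]
        rw [← hgh, eval_mul] at h1
        have h3 := (maximalIdeal.isMaximal V).isPrime.mem_or_mem h1
        rw [← hgh, derivative_mul, eval_add, eval_mul, eval_mul] at h2
        rcases h3 with h3 | h3
        · have h4 : IsUnit (g.derivative.eval a₀) := by
            rw [← notMem_maximalIdeal] at h2 ⊢
            intro h5
            exact h2 ((maximalIdeal V).add_mem (Ideal.mul_mem_right _ _ h5)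
              (Ideal.mul_mem_right _ _ h3))
          obtain ⟨a, ha, ha'⟩ := ih g.natDegree (by omega) g rfl hg a₀ h3 h4
          exact ⟨a, by rw [← hgh]; exact root_mul_right_of_isRoot _ ha, ha'⟩
        · have h4 : IsUnit (h.derivative.eval a₀) := by
            rw [← notMem_maximalIdeal] at h2 ⊢
            intro h5
            exact h2 ((maximalIdeal V).add_mem (Ideal.mul_mem_left _ _ h3)
              (Ideal.mul_mem_left _ _ h5))
          obtain ⟨a, ha, ha'⟩ := ih h.natDegree (by omega) h rfl hh a₀ h3 h4
          exact ⟨a, by rw [← hgh]; exact root_mul_left_of_isRoot _ ha, ha'⟩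
  exact { is_henselian := fun f hf a₀ h1 h2 => key _ f rfl hf a₀ h1 h2 }

end K141.NormalHensel
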