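import Groth.Agent.Hensel.K141.NormalHensel
import Mathlib.RingTheory.Localization.Integral
import Mathlib.RingTheory.Localization.AtPrime.Basic
import Mathlib.RingTheory.IntegralClosure.IntegrallyClosed

/-!
Localizations of a normal domain at a prime with a unique prime above it in the integral closure in a
separably closed field are henselian.
-/

universe u

noncomputable section

namespace K141.NormalLoc

open IsLocalRing Polynomial

variable (A L Ks : Type u) [CommRing A] [IsDomain A] [IsIntegrallyClosed A] [Field L]
  [Algebra A L] [IsFractionRing A L] [Field Ks] [IsSepClosed Ks] [Algebra L Ks] [Algebra A Ks]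
  [IsScalarTower A L Ks] (B : Type u) [CommRing B] [Algebra B Ks] [Algebra A B]
  [IsScalarTower A B Ks] [IsIntegralClosure B A Ks] (Q : Ideal A) [Q.IsPrime] (Ps : Ideal B)
  [Ps.IsMaximal]

include L Ks in
theorem henselianLocalRing (hQ : Ps.comap (algebraMap A B) = Q)
    (hP : ∀ P : Ideal B, P.IsPrime → P.comap (algebraMap A B) = Q → P ≤ Ps) :
    HenselianLocalRing (Localization.AtPrime Q) := by
  have hAB : Algebra.IsIntegral A B := IsIntegralClosure.isIntegral_algebra A Ks
  have hQmax : Q.IsMaximal := by
    rw [← hQ]
    exact Ideal.isMaximal_comap_of_isIntegral_of_isMaximal Ps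
  have hle : Q.primeCompl ≤ nonZeroDivisors A := Q.primeCompl_le_nonZeroDivisors
  have hVd : IsDomain (Localization.AtPrime Q) := IsLocalization.isDomain_localization hle
  have hVn : IsIntegrallyClosed (Localization.AtPrime Q) :=
    isIntegrallyClosed_of_isLocalization (Localization.AtPrime Q) Q.primeCompl hle
  have hAL : ∀ y : Q.primeCompl, IsUnit (algebraMap A L y) := fun y =>
    IsLocalization.map_units L (⟨y.1, hle y.2⟩ : nonZeroDivisors A)
  let _ : Algebra (Localization.AtPrime Q) L := (IsLocalization.lift hAL).toAlgebra
  have hAVL : IsScalarTower A (Localization.AtPrime Q) L :=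
    IsScalarTower.of_algebraMap_eq fun a => (IsLocalization.lift_eq hAL a).symm
  have hVL : IsFractionRing (Localization.AtPrime Q) L :=
    IsFractionRing.isFractionRing_of_isDomain_of_isLocalization Q.primeCompl _ L
  let _ : Algebra (Localization.AtPrime Q) Ks :=
    Algebra.compHom Ks (algebraMap (Localization.AtPrime Q) L)
  have hVLKs : IsScalarTower (Localization.AtPrime Q) L Ks :=
    IsScalarTower.of_algebraMap_eq fun _ => rfl
  have hAVKs : IsScalarTower A (Localization.AtPrime Q) Ks :=
    IsScalarTower.of_algebraMap_eq fun a => by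
      rw [IsScalarTower.algebraMap_apply (Localization.AtPrime Q) L Ks,
        ← IsScalarTower.algebraMap_apply A (Localization.AtPrime Q) L,
        ← IsScalarTower.algebraMap_apply A L Ks]
  have hBW : ∀ b : B, algebraMap B Ks b ∈ integralClosure (Localization.AtPrime Q) Ks := fun b => by
    have h2 : IsIntegral A (algebraMap B Ks b) :=
      (Algebra.IsIntegral.isIntegral (R := A) b).map (IsScalarTower.toAlgHom A B Ks)
    exact h2.tower_top
  let ι : B →+* integralClosure (Localization.AtPrime Q) Ks :=
    (algebraMap B Ks).codRestrict (integralClosure (Localization.AtPrime Q) Ks) hBW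
  have hι : ∀ b, (ι b : Ks) = algebraMap B Ks b := fun b => rfl
  -- maximal ideals of `W` restricted to `A`
  have hMA : ∀ M : Ideal (integralClosure (Localization.AtPrime Q) Ks), M.IsMaximal → ∀ a : A,
      (algebraMap (Localization.AtPrime Q) _ (algebraMap A (Localization.AtPrime Q) a) ∈ M ↔
        a ∈ Q) := by
    intro M hM a
    have h1 : M.comap (algebraMap (Localization.AtPrime Q) _) =
        maximalIdeal (Localization.AtPrime Q) :=
      IsLocalRing.eq_maximalIdeal (Ideal.isMaximal_comap_of_isIntegral_of_isMaximal M)
    rw [← Ideal.mem_comap, h1,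
      IsLocalization.AtPrime.to_map_mem_maximal_iff (Localization.AtPrime Q) Q]
  have hιA : ∀ a : A, ι (algebraMap A B a) =
      algebraMap (Localization.AtPrime Q) _ (algebraMap A (Localization.AtPrime Q) a) := by
    intro a
    apply Subtype.ext
    change algebraMap B Ks (algebraMap A B a) = algebraMap (Localization.AtPrime Q) Ks _
    rw [← IsScalarTower.algebraMap_apply A (Localization.AtPrime Q) Ks,
      ← IsScalarTower.algebraMap_apply A B Ks]
  have hMB : ∀ M : Ideal (integralClosure (Localization.AtPrime Q) Ks), M.IsMaximal →
      M.comap ι = Ps := by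
    intro M hM
    have hPr : (M.comap ι).IsPrime := inferInstance
    have hPA : (M.comap ι).comap (algebraMap A B) = Q := by
      ext a
      rw [← hMA M hM a, ← hιA]
      rfl
    have hle' := hP (M.comap ι) hPr hPA
    refine Ideal.IsMaximal.eq_of_le ?_ (Ideal.IsPrime.ne_top inferInstance) hle'
    apply Ideal.isMaximal_of_isIntegral_of_isMaximal_comap (R := A)
    rw [hPA]
    exact hQmax
  have hWl : IsLocalRing (integralClosure (Localization.AtPrime Q) Ks) := by
    refine IsLocalRing.of_unique_max_ideal ?_
    obtain ⟨M, hM⟩ := Ideal.exists_maximal (integralClosure (Localization.AtPrime Q) Ks)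
    refine ⟨M, hM, fun N hN => ?_⟩
    have key : ∀ (M N : Ideal (integralClosure (Localization.AtPrime Q) Ks)),
        M.IsMaximal → N.IsMaximal → M ≤ N := by
      intro M N hM hN x hx
      have hxi : IsIntegral (Localization.AtPrime Q) (x : Ks) := x.2
      obtain ⟨m, hm⟩ := IsIntegral.exists_multiple_integral_of_isLocalization (R := A)
        (Rₘ := Localization.AtPrime Q) Q.primeCompl (x : Ks) hxi
      obtain ⟨b, hb⟩ := (IsIntegralClosure.isIntegral_iff (A := B)).mp hm
      have hb : ι b = algebraMap (Localization.AtPrime Q) _ (algebraMap A _ (m : A)) * x := by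
        apply Subtype.ext
        change algebraMap B Ks b = algebraMap (Localization.AtPrime Q) Ks _ * x
        rw [← IsScalarTower.algebraMap_apply A (Localization.AtPrime Q) Ks, hb, ← Algebra.smul_def]
        rfl
      have h3 : b ∈ M.comap ι := by
        rw [Ideal.mem_comap, hb]
        exact M.mul_mem_left _ hx
      rw [hMB M hM, ← hMB N hN, Ideal.mem_comap, hb] at h3
      refine (hN.isPrime.mem_or_mem h3).resolve_left ?_
      rw [hMA N hN]
      exact m.2
    exact le_antisymm (key N M hN hM) (key M N hM hN)
  exact NormalHensel.henselianLocalRing (Localization.AtPrime Q) L Ks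
    (integralClosure (Localization.AtPrime Q) Ks)

end K141.NormalLoc
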