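import Groth.Agent.Hensel.Exist
import Groth.Agent.Hensel.K141.LocUniv

/-!
Étale neighbourhoods `(S, q)` of a prime `p` of a ring `R` with trivial residue field extension, as
maps from `S` to the residue field of `p`; henselizations of `R_p` as colimits of these.
-/

universe u

noncomputable section

namespace K141.PrimePairs

open IsLocalRing Groth.Agent.Hensel.Hull Groth.Agent.Hensel.HullLocal TensorProduct

section Pairs

variable {R : Type u} [CommRing R] (p : Ideal R) [p.IsPrime]

/-- A pair `(S, q)` gives a map to the residue field of `p` with kernel `q`. -/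
theorem exists_algHom {S : Type u} [CommRing S] [Algebra R S] (q : Ideal S) [q.IsPrime]
    (hq : p = q.comap (algebraMap R S))
    (h : Function.Bijective (Ideal.ResidueField.map p q (algebraMap R S) hq)) :
    ∃ σ : S →ₐ[R] p.ResidueField, ∀ s, σ s = 0 ↔ s ∈ q := by
  let e : p.ResidueField ≃+* q.ResidueField := RingEquiv.ofBijective _ h
  have he : ∀ r : R, e (algebraMap R p.ResidueField r) =
      algebraMap S q.ResidueField (algebraMap R S r) := fun r =>
    Ideal.ResidueField.map_algebraMap p q (algebraMap R S) hq r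
  let σ : S →ₐ[R] p.ResidueField :=
    { toRingHom := e.symm.toRingHom.comp (algebraMap S q.ResidueField)
      commutes' := fun r => by
        change e.symm (algebraMap S q.ResidueField (algebraMap R S r)) = _
        rw [RingEquiv.symm_apply_eq, he] }
  refine ⟨σ, fun s => ?_⟩
  change e.symm (algebraMap S q.ResidueField s) = 0 ↔ _
  rw [EmbeddingLike.map_eq_zero_iff, Ideal.algebraMap_residueField_eq_zero]

/-- Conversely, a map to the residue field of `p` gives a pair. -/
theorem ker_pair {S : Type u} [CommRing S] [Algebra R S] (σ : S →ₐ[R] p.ResidueField)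
    (q : Ideal S) [q.IsPrime] (hσ : ∀ s, σ s = 0 ↔ s ∈ q) :
    ∃ hq : p = q.comap (algebraMap R S),
      Function.Bijective (Ideal.ResidueField.map p q (algebraMap R S) hq) := by
  have hq : p = q.comap (algebraMap R S) := by
    ext r
    rw [Ideal.mem_comap, ← hσ, σ.commutes, Ideal.algebraMap_residueField_eq_zero]
  refine ⟨hq, RingHom.injective _, ?_⟩
  let ρ : q.ResidueField →ₐ[R] p.ResidueField := Ideal.ResidueField.liftₐ q σ
    (fun s hs => (hσ s).mpr hs) (fun s hs => by
      change IsUnit (σ s)
      rw [isUnit_iff_ne_zero]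
      exact fun h => hs ((hσ s).mp h))
  have h1 : ρ.toRingHom.comp (Ideal.ResidueField.map p q (algebraMap R S) hq) =
      RingHom.id _ := by
    apply Ideal.ResidueField.ringHom_ext
    ext r
    change ρ (Ideal.ResidueField.map p q (algebraMap R S) hq (algebraMap R _ r)) =
      algebraMap R _ r
    rw [Ideal.ResidueField.map_algebraMap, ← IsScalarTower.algebraMap_apply, ρ.commutes]
  intro x
  refine ⟨ρ x, ?_⟩
  apply ρ.toRingHom.injective
  exact congr($h1 (ρ x))

/-- The map to the residue field of `p` is unique. -/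
theorem algHom_unique {S : Type u} [CommRing S] [Algebra R S] (q : Ideal S) [q.IsPrime]
    (hq : p = q.comap (algebraMap R S))
    (h : Function.Bijective (Ideal.ResidueField.map p q (algebraMap R S) hq))
    {K : Type u} [Field K] [Algebra R K]
    (σ τ : S →ₐ[R] K) (hσ : ∀ s, σ s = 0 ↔ s ∈ q) (hτ : ∀ s, τ s = 0 ↔ s ∈ q) :
    σ = τ := by
  have key : ∀ σ : S →ₐ[R] K, (∀ s, σ s = 0 ↔ s ∈ q) → ∃ ρ : q.ResidueField →ₐ[R] K,
      ρ.comp (IsScalarTower.toAlgHom R S q.ResidueField) = σ := fun σ hσ =>
    ⟨Ideal.ResidueField.liftₐ q σ (fun s hs => (hσ s).mpr hs) (fun s hs => by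
      change IsUnit (σ s)
      rw [isUnit_iff_ne_zero]
      exact fun h => hs ((hσ s).mp h)), Ideal.ResidueField.liftₐ_comp_toAlgHom _ _ _ _⟩
  obtain ⟨ρ, rfl⟩ := key σ hσ
  obtain ⟨ρ', rfl⟩ := key τ hτ
  congr 1
  have h1 : ρ.toRingHom.comp (Ideal.ResidueField.map p q (algebraMap R S) hq) =
      ρ'.toRingHom.comp (Ideal.ResidueField.map p q (algebraMap R S) hq) := by
    apply Ideal.ResidueField.ringHom_ext
    ext r
    change ρ (Ideal.ResidueField.map p q (algebraMap R S) hq (algebraMap R _ r)) =
      ρ' (Ideal.ResidueField.map p q (algebraMap R S) hq (algebraMap R _ r))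
    rw [Ideal.ResidueField.map_algebraMap, ← IsScalarTower.algebraMap_apply, ρ.commutes,
      ρ'.commutes]
  ext x
  obtain ⟨y, hy⟩ := h.2 (algebraMap S _ x)
  change ρ (algebraMap S _ x) = ρ' (algebraMap S _ x)
  rw [← hy]
  exact congr($h1 y)

/-- Coequalizing two maps from an unramified algebra that agree at a point. -/
theorem exists_coequalizer {R S₁ S₂ K : Type u} [CommRing R] [CommRing S₁] [CommRing S₂]
    [Field K] [Algebra R S₁] [Algebra R S₂] [Algebra R K] [Algebra.Etale R S₁]
    [Algebra.Etale R S₂] (φ ψ : S₁ →ₐ[R] S₂) (σ : S₂ →ₐ[R] K) (h : σ.comp φ = σ.comp ψ) :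
    ∃ (S₃ : Type u) (_ : CommRing S₃) (_ : Algebra R S₃) (_ : Algebra.Etale R S₃)
      (χ : S₂ →ₐ[R] S₃) (σ' : S₃ →ₐ[R] K), σ'.comp χ = σ ∧ χ.comp φ = χ.comp ψ := by
  obtain ⟨t, ht₁, ht₂⟩ := (Algebra.FormallyUnramified.iff_exists_tensorProduct (R := R)
    (S := S₁)).mp inferInstance
  let θ : S₁ ⊗[R] S₁ →ₐ[R] S₂ :=
    Algebra.TensorProduct.lift φ ψ (fun _ _ => Commute.all _ _)
  have hθ : ∀ a b, θ (a ⊗ₜ b) = φ a * ψ b := fun a b => by
    simp [θ, Algebra.TensorProduct.lift_tmul]
  have hf : ∀ a, σ (ψ a) = σ (φ a) := fun a => congr($(h.symm) a)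
  have key : ∀ x : S₁ ⊗[R] S₁, σ (θ x) = σ (φ (Algebra.TensorProduct.lmul' R x)) := by
    intro x
    induction x using TensorProduct.induction_on with
    | zero => simp
    | tmul a b =>
      rw [hθ, Algebra.TensorProduct.lmul'_apply_tmul, map_mul, map_mul, map_mul, hf]
    | add x y hx hy =>
      rw [map_add, map_add, map_add, map_add, map_add, hx, hy]
  have hc : IsUnit (σ (θ t)) := by
    rw [key, ht₂, map_one, map_one]
    exact isUnit_one
  let σ' : Localization.Away (θ t) →ₐ[R] K :=
    IsLocalization.liftAlgHom (M := Submonoid.powers (θ t)) (f := σ) (by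
      rintro ⟨_, n, rfl⟩
      simpa using hc.pow n)
  have hσ' : ∀ a, σ' (algebraMap S₂ _ a) = σ a := fun a => by
    simp [σ', IsLocalization.liftAlgHom]
  have : Algebra.Etale R (Localization.Away (θ t)) :=
    Algebra.Etale.comp R S₂ (Localization.Away (θ t))
  refine ⟨Localization.Away (θ t), inferInstance, inferInstance, inferInstance,
    IsScalarTower.toAlgHom R S₂ _, σ', AlgHom.ext hσ', AlgHom.ext fun s => ?_⟩
  have hu : IsUnit (algebraMap S₂ (Localization.Away (θ t)) (θ t)) :=
    IsLocalization.Away.algebraMap_isUnit (θ t)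
  change algebraMap S₂ _ (φ s) = algebraMap S₂ _ (ψ s)
  have h3 := congr(algebraMap S₂ (Localization.Away (θ t)) (θ $(ht₁ s)))
  rw [map_mul, map_sub, hθ, hθ, map_zero, map_one, map_one, one_mul, mul_one, map_mul, map_zero,
    map_sub] at h3
  exact (sub_eq_zero.mp (hu.mul_left_eq_zero.mp h3)).symm

end Pairs

section Hull

variable {R H K : Type u} [CommRing R] [CommRing H] [Field K] [Algebra R H] [Algebra R K]
  {π : H →ₐ[R] K}

/-- The maximal ideal of a hull of `R` with respect to `K` is generated by the kernel of `R → K`. -/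
theorem map_ker_eq (h : IsHull R H K π) [IsLocalRing H] (p : Ideal R) [p.IsPrime]
    (hp : ∀ r, algebraMap R K r = 0 ↔ r ∈ p) : p.map (algebraMap R H) = maximalIdeal H := by
  refine le_antisymm ?_ fun s hs => ?_
  · rw [Ideal.map_le_iff_le_comap]
    intro r hr
    rw [Ideal.mem_comap, h.mem_maximalIdeal_iff, π.commutes, hp]
    exact hr
  obtain ⟨E, _, _, _, χ, hχ⟩ := h.exists_etale_finset {s}
  obtain ⟨e, rfl⟩ := hχ (by simp : s ∈ ((({s} : Finset H)) : Set H))
  let Q : Ideal E := (maximalIdeal H).comap χ
  have hQ : Q.IsPrime := Ideal.comap_isPrime _ _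
  let L := Localization.AtPrime Q
  have hpQ : ∀ r, r ∈ p ↔ algebraMap R E r ∈ Q := fun r => by
    change _ ↔ χ (algebraMap R E r) ∈ maximalIdeal H
    rw [χ.commutes, h.mem_maximalIdeal_iff, π.commutes, hp]
  let f : Localization.AtPrime p →+* L := Localization.localRingHom p Q (algebraMap R E)
    (Ideal.ext hpQ)
  let _ : Algebra (Localization.AtPrime p) L := f.toAlgebra
  have hfl : IsLocalHom (algebraMap (Localization.AtPrime p) L) :=
    Localization.isLocalHom_localRingHom p Q _ _
  have : IsScalarTower R (Localization.AtPrime p) L := IsScalarTower.of_algebraMap_eq fun r => by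
    change _ = f (algebraMap R _ r)
    rw [Localization.localRingHom_to_map, ← IsScalarTower.algebraMap_apply]
  have hEL : Algebra.FormallyUnramified R L := Algebra.FormallyUnramified.comp R E L
  have hLL : Algebra.FormallyUnramified (Localization.AtPrime p) L :=
    Algebra.FormallyUnramified.of_restrictScalars R _ _
  have hess : Algebra.EssFiniteType R L := Algebra.EssFiniteType.comp R E L
  have hess' : Algebra.EssFiniteType (Localization.AtPrime p) L :=
    Algebra.EssFiniteType.of_comp R _ _
  have hm : (maximalIdeal (Localization.AtPrime p)).map (algebraMap (Localization.AtPrime p) L) =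
      maximalIdeal L := Algebra.FormallyUnramified.map_maximalIdeal
  have he : algebraMap E L e ∈ maximalIdeal L := by
    rw [IsLocalization.AtPrime.to_map_mem_maximal_iff L Q]
    exact hs
  rw [← hm, ← Localization.AtPrime.map_eq_maximalIdeal, Ideal.map_map,
    ← IsScalarTower.algebraMap_eq, IsScalarTower.algebraMap_eq R E L, ← Ideal.map_map,
    IsLocalization.algebraMap_mem_map_algebraMap_iff Q.primeCompl] at he
  obtain ⟨c, hc, hce⟩ := he
  have h1 : IsUnit (χ c) := by
    rw [← notMem_maximalIdeal]
    exact hc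
  have h2 : χ (c * e) ∈ Ideal.map (algebraMap R H) p := by
    have := Ideal.mem_map_of_mem (χ : E →+* H) hce
    rwa [Ideal.map_map, χ.comp_algebraMap] at this
  rw [map_mul] at h2
  exact (Ideal.unit_mul_mem_iff_mem _ h1).mp h2

/-- A hull of `R` with respect to the residue field of `p` is a henselization of `R_p`. -/
theorem exists_isHenselization (p : Ideal R) [p.IsPrime] {π : H →ₐ[R] p.ResidueField}
    (h : IsHull R H p.ResidueField π) :
    ∃ (_ : IsLocalRing H) (_ : Algebra (Localization.AtPrime p) H)
      (_ : IsLocalHom (algebraMap (Localization.AtPrime p) H)),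
      Hensel.IsHenselization (Localization.AtPrime p) H ∧
        IsScalarTower R (Localization.AtPrime p) H := by
  have hl := h.isLocalRing
  have hp : ∀ r, algebraMap R p.ResidueField r = 0 ↔ r ∈ p := fun r =>
    Ideal.algebraMap_residueField_eq_zero
  have hpH : ∀ r, r ∈ p ↔ algebraMap R H r ∈ maximalIdeal H := fun r => by
    rw [h.mem_maximalIdeal_iff, π.commutes, hp]
  obtain ⟨f, hf, hfl⟩ := LocUniv.exists_lift_loc p (algebraMap R H) hpH
  let _ : Algebra (Localization.AtPrime p) H := f.toAlgebra
  have hfl' : IsLocalHom (algebraMap (Localization.AtPrime p) H) := hfl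
  have hst : IsScalarTower R (Localization.AtPrime p) H :=
    IsScalarTower.of_algebraMap_eq fun r => congr($hf.symm r)
  refine ⟨hl, inferInstance, hfl', ⟨h.henselianLocalRing, ?_⟩, hst⟩
  intro T _ _ g hg
  let _ : Algebra R T := (g.comp (algebraMap R _)).toAlgebra
  let τ : p.ResidueField →+* ResidueField T := ResidueField.map g
  obtain ⟨G, hG, hGu⟩ := h.existsUnique_algHom (T := T) τ (fun r => rfl)
  refine ⟨G.toRingHom, ?_, fun g' hg' => ?_⟩
  · apply LocUniv.loc_hom_ext p
    rw [RingHom.comp_assoc, ← IsScalarTower.algebraMap_eq]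
    ext r
    exact G.commutes r
  · have hg'' : ∀ r, g' (algebraMap _ H r) = g r := fun r => congr($hg' r)
    let g₁ : H →ₐ[R] T :=
      { toRingHom := g'
        commutes' := fun r => by
          change g' (algebraMap R H r) = g (algebraMap R _ r)
          rw [← hg'', ← IsScalarTower.algebraMap_apply] }
    have hπ : π.toRingHom.comp (algebraMap (Localization.AtPrime p) H) =
        residue (Localization.AtPrime p) := by
      apply LocUniv.loc_hom_ext p
      rw [RingHom.comp_assoc, ← IsScalarTower.algebraMap_eq]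
      ext r
      exact π.commutes r
    have : g₁ = G := by
      refine hGu _ fun s => ?_
      obtain ⟨y, hy⟩ := residue_surjective (R := Localization.AtPrime p) (π s)
      have h0 : π (algebraMap _ H y) = π s := congr($hπ y).trans hy
      have h1 : s - algebraMap _ H y ∈ maximalIdeal H := by
        rw [h.mem_maximalIdeal_iff, map_sub, h0, sub_self]
      rw [← map_ker_eq h p hp] at h1
      have h2 := Ideal.mem_map_of_mem g' h1
      have h3 : (Ideal.map g' (Ideal.map (algebraMap R H) p)) ≤ maximalIdeal T := by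
        rw [Ideal.map_map, Ideal.map_le_iff_le_comap]
        intro r hr
        rw [Ideal.mem_comap, RingHom.comp_apply,
          IsScalarTower.algebraMap_apply R (Localization.AtPrime p) H, hg'', LocUniv.mem_max_iff,
          IsLocalization.AtPrime.to_map_mem_maximal_iff _ p]
        exact hr
      have h4 := h3 h2
      rw [map_sub, hg'', ← residue_eq_zero_iff, map_sub, sub_eq_zero] at h4
      change residue T (g' s) = τ (π s)
      rw [h4, ← hy]
      rfl
    rw [← this]

/-- A henselization of `R_p` is a hull of `R` with respect to the residue field of `p`. -/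
theorem exists_isHull (p : Ideal R) [p.IsPrime] (Rh : Type u) [CommRing Rh] [IsLocalRing Rh]
    [Algebra (Localization.AtPrime p) Rh] [IsLocalHom (algebraMap (Localization.AtPrime p) Rh)]
    [Hensel.IsHenselization (Localization.AtPrime p) Rh] [Algebra R Rh]
    [IsScalarTower R (Localization.AtPrime p) Rh] :
    ∃ π : Rh →ₐ[R] p.ResidueField, IsHull R Rh p.ResidueField π := by
  obtain ⟨H, _, _, π, h⟩ := Groth.Agent.Hensel.Hull.exists_isHull R p.ResidueField
  obtain ⟨_, _, _, h1, _⟩ := exists_isHenselization p h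
  obtain ⟨e⟩ := Groth.Agent.Hensel.Exist.nonempty_algEquiv_of_isHenselization
    (Localization.AtPrime p) H Rh
  exact ⟨_, isHull_of_algEquiv h (e.restrictScalars R)⟩

end Hull

end K141.PrimePairs
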