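import Groth.Agent.Hensel.K141.GlueEss
import Groth.Agent.S0238

/-!
# Principal case of Gabber's rigidity for finite étale covers of opens `U ⊇ D(t)`
-/

set_option autoImplicit false
universe u

open CategoryTheory CategoryTheory.Limits AlgebraicGeometry TensorProduct
open Groth.Agent.Pi1A.FEtAffine

namespace K141

/-- Finite étale covers of `U` and of `f⁻¹ U` agree. -/
def FEq {X Y : Scheme.{u}} (f : X ⟶ Y) (U : Y.Opens) : Prop := (FEt.restrict (f ∣_ U)).IsEquivalence

namespace FEq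

variable {X Y Z : Scheme.{u}}

theorem comp {f : X ⟶ Y} {g : Y ⟶ Z} {U : Z.Opens} (hf : FEq f (g ⁻¹ᵁ U)) (hg : FEq g U) :
    FEq (f ≫ g) U := by
  have i1 : (FEt.restrict (f ∣_ g ⁻¹ᵁ U)).IsEquivalence := hf
  have i2 : (FEt.restrict (g ∣_ U)).IsEquivalence := hg
  unfold FEq
  rw [morphismRestrict_comp]
  exact @restrict_isEquivalence_comp _ _ _ (f ∣_ g ⁻¹ᵁ U) (g ∣_ U) i1 i2

theorem of_comp_left {f : X ⟶ Y} {g : Y ⟶ Z} {U : Z.Opens} (hf : FEq f (g ⁻¹ᵁ U))
    (hfg : FEq (f ≫ g) U) : FEq g U := by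
  have i1 : (FEt.restrict (f ∣_ g ⁻¹ᵁ U)).IsEquivalence := hf
  unfold FEq at hfg ⊢
  rw [morphismRestrict_comp] at hfg
  have i2 : (FEt.restrict (f ∣_ g ⁻¹ᵁ U ≫ g ∣_ U)).IsEquivalence := hfg
  have h1 : (FEt.restrict (g ∣_ U) ⋙ FEt.restrict (f ∣_ g ⁻¹ᵁ U)).IsEquivalence :=
    Functor.isEquivalence_of_iso (restrictComp _ _)
  exact Functor.isEquivalence_of_comp_right _ (FEt.restrict (f ∣_ g ⁻¹ᵁ U))

theorem of_comp_right {f : X ⟶ Y} {g : Y ⟶ Z} {U : Z.Opens} (hg : FEq g U)
    (hfg : FEq (f ≫ g) U) : FEq f (g ⁻¹ᵁ U) := by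
  have i1 : (FEt.restrict (g ∣_ U)).IsEquivalence := hg
  unfold FEq at hfg ⊢
  rw [morphismRestrict_comp] at hfg
  have i2 : (FEt.restrict (f ∣_ g ⁻¹ᵁ U ≫ g ∣_ U)).IsEquivalence := hfg
  have h1 : (FEt.restrict (g ∣_ U) ⋙ FEt.restrict (f ∣_ g ⁻¹ᵁ U)).IsEquivalence :=
    Functor.isEquivalence_of_iso (restrictComp _ _)
  exact Functor.isEquivalence_of_comp_left (FEt.restrict (g ∣_ U)) _

theorem of_isIso (f : X ⟶ Y) [IsIso f] (U : Y.Opens) : FEq f U := by
  unfold FEq
  infer_instance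

theorem of_surjective (f : X ⟶ Y) [IsClosedImmersion f] [Surjective f] (U : Y.Opens) : FEq f U := by
  have h1 : IsClosedImmersion (f ∣_ U) :=
    MorphismProperty.of_isPullback (isPullback_morphismRestrict f U).flip inferInstance
  have h2 : Surjective (f ∣_ U) :=
    MorphismProperty.of_isPullback (isPullback_morphismRestrict f U).flip inferInstance
  exact Groth.Agent.S0238.result (f ∣_ U)

end FEq

/-- Quotients by nil ideals. -/
theorem FEq.of_nil {A : Type u} [CommRing A] (J : Ideal A) (hJ : J ≤ nilradical A)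
    (U : (Spec (CommRingCat.of A)).Opens) : FEq (specMap A (A ⧸ J)) U := by
  have h1 : IsClosedImmersion (specMap A (A ⧸ J)) :=
    IsClosedImmersion.spec_of_surjective _ Ideal.Quotient.mk_surjective
  have h2 : Surjective (specMap A (A ⧸ J)) := by
    constructor
    intro x
    have h3 : x ∈ Set.range (PrimeSpectrum.comap (Ideal.Quotient.mk J)) := by
      rw [range_comap_of_surjective _ _ Ideal.Quotient.mk_surjective, Ideal.mk_ker]
      exact hJ.trans (@nilradical_le_prime _ _ _ (PrimeSpectrum.isPrime x))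
    exact h3
  exact FEq.of_surjective _ U

theorem FEq.glueing {A B : Type u} [CommRing A] [CommRing B] [Algebra A B] {t : A}
    [HenselianRing A (Ideal.span {t})]
    [HenselianRing B (Ideal.span {algebraMap A B t})] (hc : Cong (algebraMap A B) t)
    (hg : EtGlue.IsGlueingPair A B t) (U : (Spec (CommRingCat.of A)).Opens)
    (hUc : IsCompact (U : Set (Spec (CommRingCat.of A))))
    (hU : ∀ x : Spec (CommRingCat.of A), x ∉ U → t ∈ x.asIdeal) : FEq (specMap A B) U := by
  have h1 := Clopen.restrict_fullyFaithful (specMap A B ∣_ U) (GlueFF.clopenBij U hc hg hU)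
  have h2 := GlueEss.essSurj hc hg U hUc hU
  exact { full := h1.1, faithful := h1.2, essSurj := h2 }

/-- The principal case. -/
theorem FEq.principal {A B : Type u} [CommRing A] [CommRing B] (φ : A →+* B) (t : A)
    (hA : HenselianRing A (Ideal.span {t})) (hB : HenselianRing B (Ideal.span {φ t}))
    (hc : Cong φ t) (U : (Spec (CommRingCat.of A)).Opens)
    (hUc : IsCompact (U : Set (Spec (CommRingCat.of A))))
    (hU : ∀ x : Spec (CommRingCat.of A), x ∉ U → t ∈ x.asIdeal) :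
    FEq (Spec.map (CommRingCat.ofHom φ)) U := by
  let A₀ := A ⧸ GlueRed.bad A t
  let B₀ := B ⧸ GlueRed.bad B (φ t)
  let _ : Algebra A₀ B₀ := (GlueRed.redMap φ t).toAlgebra
  have h1 : HenselianRing A₀ (Ideal.span {(Ideal.Quotient.mk _ t : A₀)}) :=
    Idem.henselian_of_integral t A₀
  have h2 : HenselianRing B₀ (Ideal.span {algebraMap A₀ B₀ (Ideal.Quotient.mk _ t)}) :=
    Idem.henselian_of_integral (φ t) B₀
  let iA := specMap A A₀
  have hq : QuasiCompact iA := inferInstance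
  have h3 : FEq (specMap A₀ B₀) (iA ⁻¹ᵁ U) := by
    refine FEq.glueing (t := (Ideal.Quotient.mk _ t : A₀)) (GlueRed.cong hc)
      (GlueRed.isGlueingPair hc rfl) _ (hq.isCompact_preimage _ U.2 hUc) ?_
    intro x hx
    exact hU _ hx
  have h4 : FEq (specMap A₀ B₀ ≫ iA) U :=
    FEq.comp h3 (FEq.of_nil _ (GlueRed.bad_le_nilradical A t) U)
  have h5 : specMap A₀ B₀ ≫ iA = specMap B B₀ ≫ Spec.map (CommRingCat.ofHom φ) := by
    rw [← Spec.map_comp, ← Spec.map_comp]
    rfl
  rw [h5] at h4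
  exact FEq.of_comp_left (FEq.of_nil _ (GlueRed.bad_le_nilradical B (φ t)) _) h4

end K141
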