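import Groth.Agent.Hensel.EtaleNbhd
import Groth.Agent.Hensel.EtalePerm
import Groth.Agent.Hensel.Lazard

/-!
Base changes of strict henselizations preserve reducedness.
-/

universe u

noncomputable section

namespace K141.ReducedBC

open IsLocalRing TensorProduct

/-- Elements of a tensor product come from a piece. -/
theorem exists_finset {A R A' : Type*} [CommRing A] [CommRing R] [CommRing A'] [Algebra A R]
    [Algebra A A'] (x : R ⊗[A] A') : ∃ s : Finset R, ∀ (E : Type u) [CommRing E] [Algebra A E]
      (φ : E →ₐ[A] R), (s : Set R) ⊆ Set.range φ →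
      x ∈ (Algebra.TensorProduct.map φ (AlgHom.id A A')).range := by
  classical
  induction x using TensorProduct.induction_on with
  | zero => exact ⟨∅, fun E _ _ φ _ => zero_mem _⟩
  | tmul t s =>
    refine ⟨{t}, fun E _ _ φ h => ?_⟩
    obtain ⟨e, he⟩ := h (by simp : t ∈ ((({t} : Finset R)) : Set R))
    exact ⟨e ⊗ₜ s, by simp [he]⟩
  | add x y hx hy =>
    obtain ⟨s, hs⟩ := hx
    obtain ⟨t, ht⟩ := hy
    refine ⟨s ∪ t, fun E _ _ φ h => ?_⟩
    rw [Finset.coe_union, Set.union_subset_iff] at h
    exact add_mem (hs E φ h.1) (ht E φ h.2)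

/-- The base change of an étale-covered flat local algebra to a reduced algebra is reduced. -/
theorem isReduced_tensor {A R : Type u} [CommRing A] [IsLocalRing A] [CommRing R] [IsLocalRing R]
    [Algebra A R] [IsLocalHom (algebraMap A R)] (hR : Groth.Agent.Hensel.EtaleNbhd.IsEtaleCovered A R)
    [Module.Flat A R] (A' : Type u) [CommRing A'] [Algebra A A'] [IsReduced A'] :
    IsReduced (R ⊗[A] A') := by
  refine ⟨fun x hx => ?_⟩
  obtain ⟨s, hs⟩ := exists_finset x
  obtain ⟨E, _, _, _, φ, h1, h2, h3, h4, h5, h6, h7, h8⟩ :=
    Groth.Agent.Hensel.EtaleNbhd.exists_local A hR s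
  obtain ⟨y, hy⟩ := hs E φ h7
  have hflat := h8 inferInstance
  algebraize [φ.toRingHom]
  have hst : IsScalarTower A E R := IsScalarTower.of_algebraMap_eq fun x => (φ.commutes x).symm
  have hff : Module.FaithfullyFlat E R := Module.FaithfullyFlat.of_flat_of_isLocalHom
  have hinj : Function.Injective (Algebra.TensorProduct.map φ (AlgHom.id A A')) := by
    have h9 := Module.FaithfullyFlat.tensorProduct_mk_injective (A := E) (B := R) (E ⊗[A] A')
    let e : R ⊗[E] (E ⊗[A] A') ≃ₐ[E] R ⊗[A] A' :=
      Algebra.TensorProduct.cancelBaseChange A E E R A'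
    have h10 : ∀ z, Algebra.TensorProduct.map φ (AlgHom.id A A') z = e (1 ⊗ₜ z) := fun z => by
      induction z using TensorProduct.induction_on with
      | zero => simp
      | tmul a b =>
        rw [Algebra.TensorProduct.cancelBaseChange_tmul, Algebra.TensorProduct.map_tmul,
          Algebra.smul_def, mul_one]
        rfl
      | add a b ha hb => rw [map_add, ha, hb, TensorProduct.tmul_add, map_add]
    intro z w hzw
    rw [h10, h10] at hzw
    exact h9 (e.injective hzw)
  have hred : IsReduced (E ⊗[A] A') := by
    have := Groth.Agent.Hensel.EtalePerm.isReduced_of_flat_of_unramified A' (A' ⊗[A] E)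
    exact isReduced_of_injective _ (Algebra.TensorProduct.comm A E A').injective
  have hy0 : y = 0 := by
    obtain ⟨n, hn⟩ := hx
    rw [← hy] at hn
    apply IsReduced.eq_zero y ⟨n, ?_⟩
    apply hinj
    rw [map_pow, map_zero]
    exact hn
  rw [← hy, hy0, map_zero]

/-- `A` is geometrically reduced over `k` iff its strict henselization is. -/
theorem forall_isReduced_iff (k : Type u) [Field k]
    (A : Type u) [CommRing A] [IsLocalRing A] [Algebra k A]
    (R : Type u) [CommRing R] [IsLocalRing R] [Algebra A R] [IsLocalHom (algebraMap A R)]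
    [Hensel.IsStrictHenselization A R] [Algebra k R] [IsScalarTower k A R]
    (K : Type u) [Field K] [Algebra k K] :
    IsReduced (K ⊗[k] A) ↔ IsReduced (K ⊗[k] R) := by
  have hff := Groth.Agent.Hensel.Lazard.faithfullyFlat_of_isStrictHenselization (R := A) (S := R)
  constructor
  · intro h
    have h1 : IsReduced (A ⊗[k] K) :=
      isReduced_of_injective _ (Algebra.TensorProduct.comm k A K).injective
    have h2 : IsReduced (R ⊗[A] (A ⊗[k] K)) := isReduced_tensor
      (fun s => Groth.Agent.Hensel.Lazard.exists_etale_of_isStrictHenselization A R s) _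
    have h3 : IsReduced (R ⊗[k] K) := isReduced_of_injective _
      (Algebra.TensorProduct.cancelBaseChange k A A R K).symm.injective
    exact isReduced_of_injective _ (Algebra.TensorProduct.comm k K R).injective
  · intro h
    have h1 : Function.Injective (algebraMap A R) :=
      FaithfulSMul.algebraMap_injective A R
    let f : K ⊗[k] A →ₐ[k] K ⊗[k] R :=
      Algebra.TensorProduct.map (AlgHom.id k K) (IsScalarTower.toAlgHom k A R)
    have h2 : Function.Injective f := by
      have := Module.Flat.lTensor_preserves_injective_linearMap (M := K)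
        (IsScalarTower.toAlgHom k A R).toLinearMap h1
      exact this
    exact isReduced_of_injective f h2

end K141.ReducedBC
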