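import Mathlib.FieldTheory.PurelyInseparable.Basic
import Mathlib.RingTheory.IntegralClosure.Algebra.Basic
import Mathlib.RingTheory.Ideal.GoingUp
import Mathlib.RingTheory.LocalRing.ResidueField.Basic
import Mathlib.RingTheory.TensorProduct.Basic

/-!
The tensor product of a local integral algebra with purely inseparable residue field extension with
a local algebra is local.
-/

universe u

noncomputable section

namespace K141.TensorLocal

open IsLocalRing TensorProduct

variable (A B C : Type*) [CommRing A] [IsLocalRing A] [CommRing B] [IsLocalRing B] [CommRing C]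
  [IsLocalRing C] [Algebra A B] [Algebra A C] [IsLocalHom (algebraMap A B)]
  [IsLocalHom (algebraMap A C)] [Algebra.IsIntegral A B]

omit [IsLocalRing A] [IsLocalRing B] [IsLocalRing C] [IsLocalHom (algebraMap A B)]
  [IsLocalHom (algebraMap A C)] in
theorem isIntegral_includeRight :
    (Algebra.TensorProduct.includeRight : C →ₐ[A] B ⊗[A] C).toRingHom.IsIntegral := by
  have h1 : (algebraMap C (C ⊗[A] B)).IsIntegral := algebraMap_isIntegral_iff.mpr inferInstance
  have h2 : ((Algebra.TensorProduct.comm A C B : C ⊗[A] B →+* B ⊗[A] C)).IsIntegral :=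
    RingHom.isIntegral_of_surjective _ (Algebra.TensorProduct.comm A C B).surjective
  have h3 := RingHom.IsIntegral.trans _ _ h1 h2
  have h4 : (Algebra.TensorProduct.includeRight : C →ₐ[A] B ⊗[A] C).toRingHom =
      ((Algebra.TensorProduct.comm A C B : C ⊗[A] B →+* B ⊗[A] C)).comp
        (algebraMap C (C ⊗[A] B)) := by
    ext s
    rfl
  rw [h4]
  exact h3

omit [IsLocalHom (algebraMap A B)] in
/-- The maximal ideals of the tensor product lie over the maximal ideals. -/
theorem comap_eq (M : Ideal (B ⊗[A] C)) (hM : M.IsMaximal) :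
    M.comap (Algebra.TensorProduct.includeLeft : B →ₐ[A] B ⊗[A] C).toRingHom = maximalIdeal B ∧
      M.comap (Algebra.TensorProduct.includeRight : C →ₐ[A] B ⊗[A] C).toRingHom =
        maximalIdeal C := by
  have hC := Ideal.isMaximal_comap_of_isIntegral_of_isMaximal' _
    (isIntegral_includeRight A B C) M
  have hC' := IsLocalRing.eq_maximalIdeal hC
  have hB : (M.comap (Algebra.TensorProduct.includeLeft :
      B →ₐ[A] B ⊗[A] C).toRingHom).IsMaximal := by
    have : (M.comap (Algebra.TensorProduct.includeLeft :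
      B →ₐ[A] B ⊗[A] C).toRingHom).IsPrime := inferInstance
    apply Ideal.isMaximal_of_isIntegral_of_isMaximal_comap (R := A)
    have h1 : ((Algebra.TensorProduct.includeLeft : B →ₐ[A] B ⊗[A] C).toRingHom).comp
        (algebraMap A B) = ((Algebra.TensorProduct.includeRight :
          C →ₐ[A] B ⊗[A] C).toRingHom).comp (algebraMap A C) := by
      ext a
      exact ((Algebra.TensorProduct.includeLeft : B →ₐ[A] B ⊗[A] C).commutes a).trans
        ((Algebra.TensorProduct.includeRight : C →ₐ[A] B ⊗[A] C).commutes a).symm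
    rw [Ideal.comap_comap, h1, ← Ideal.comap_comap, hC']
    have h6 : Ideal.comap (algebraMap A C) (maximalIdeal C) = maximalIdeal A :=
      ((IsLocalRing.local_hom_TFAE (algebraMap A C)).out 0 4 rfl rfl).mp inferInstance
    rw [h6]
    infer_instance
  exact ⟨IsLocalRing.eq_maximalIdeal hB, hC'⟩

variable [IsPurelyInseparable (ResidueField A) (ResidueField B)]

/-- Up to a power of the characteristic exponent, elements of the tensor product come from `C`,
modulo all maximal ideals. -/
theorem exists_congr (x : B ⊗[A] C) : ∃ (n : ℕ) (c : C), ∀ M : Ideal (B ⊗[A] C), M.IsMaximal →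
    x ^ (ringExpChar (ResidueField A)) ^ n - 1 ⊗ₜ c ∈ M := by
  set q := ringExpChar (ResidueField A) with hq
  have hexp : ExpChar (ResidueField A) q := ringExpChar.expChar _
  induction x using TensorProduct.induction_on with
  | zero => exact ⟨0, 0, fun M _ => by simp⟩
  | tmul b c =>
    obtain ⟨n, a, ha⟩ := IsPurelyInseparable.pow_mem (ResidueField A) q (residue B b)
    obtain ⟨a, rfl⟩ := residue_surjective a
    refine ⟨n, algebraMap A C a * c ^ q ^ n, fun M hM => ?_⟩
    have h1 : b ^ q ^ n - algebraMap A B a ∈ maximalIdeal B := by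
      rw [← residue_eq_zero_iff, map_sub, map_pow, ← ha]
      exact sub_self _
    have h2 : (Algebra.TensorProduct.includeLeft : B →ₐ[A] B ⊗[A] C)
        (b ^ q ^ n - algebraMap A B a) ∈ M := by
      rw [← (comap_eq A B C M hM).1] at h1
      exact h1
    have h3 : (b ⊗ₜ[A] c) ^ q ^ n - 1 ⊗ₜ[A] (algebraMap A C a * c ^ q ^ n) =
        (Algebra.TensorProduct.includeLeft : B →ₐ[A] B ⊗[A] C)
          (b ^ q ^ n - algebraMap A B a) * (1 ⊗ₜ[A] (c ^ q ^ n)) := by
      rw [Algebra.TensorProduct.tmul_pow]
      change _ = ((b ^ q ^ n - algebraMap A B a) ⊗ₜ[A] (1 : C)) * _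
      rw [Algebra.TensorProduct.tmul_mul_tmul, mul_one, one_mul, TensorProduct.sub_tmul,
        Algebra.algebraMap_eq_smul_one a, Algebra.algebraMap_eq_smul_one a, smul_mul_assoc,
        one_mul, TensorProduct.smul_tmul]
    rw [h3]
    exact M.mul_mem_right _ h2
  | add x y hx hy =>
    obtain ⟨n, c, hc⟩ := hx
    obtain ⟨m, d, hd⟩ := hy
    refine ⟨n + m, c ^ q ^ m + d ^ q ^ n, fun M hM => ?_⟩
    have hA : (M.comap (algebraMap A (B ⊗[A] C))) = maximalIdeal A := by
      have h6 : Ideal.comap (algebraMap A C) (maximalIdeal C) = maximalIdeal A :=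
        ((IsLocalRing.local_hom_TFAE (algebraMap A C)).out 0 4 rfl rfl).mp inferInstance
      rw [← h6, ← (comap_eq A B C M hM).2, Ideal.comap_comap]
      congr 1
      ext a
      exact ((Algebra.TensorProduct.includeRight : C →ₐ[A] B ⊗[A] C).commutes a).symm
    let f : ResidueField A →+* (B ⊗[A] C) ⧸ M :=
      Ideal.quotientMap M (algebraMap A (B ⊗[A] C)) hA.ge
    have : Nontrivial ((B ⊗[A] C) ⧸ M) := Ideal.Quotient.nontrivial_iff.mpr hM.ne_top
    have hexp' : ExpChar ((B ⊗[A] C) ⧸ M) q := expChar_of_injective_ringHom f.injective q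
    have hc := hc M hM
    have hd := hd M hM
    rw [← Ideal.Quotient.eq_zero_iff_mem, map_sub, sub_eq_zero] at hc hd ⊢
    rw [map_pow] at hc hd ⊢
    rw [map_add, add_pow_expChar_pow, pow_add, pow_mul, hc, mul_comm (q ^ n), pow_mul, hd,
      TensorProduct.tmul_add, map_add, ← map_pow, ← map_pow, Algebra.TensorProduct.tmul_pow,
      Algebra.TensorProduct.tmul_pow, one_pow, one_pow]

/-- The tensor product is local. -/
theorem isLocalRing_tensor [Nontrivial (B ⊗[A] C)] : IsLocalRing (B ⊗[A] C) := by
  refine IsLocalRing.of_unique_max_ideal ?_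
  obtain ⟨M, hM⟩ := Ideal.exists_maximal (B ⊗[A] C)
  refine ⟨M, hM, fun N hN => ?_⟩
  have key : ∀ (M N : Ideal (B ⊗[A] C)), M.IsMaximal → N.IsMaximal → M ≤ N := by
    intro M N hM hN x hx
    obtain ⟨n, c, hc⟩ := exists_congr A B C x
    have h1 := hc M hM
    have h2 := hc N hN
    have h3 : x ^ (ringExpChar (ResidueField A)) ^ n ∈ M :=
      Ideal.pow_mem_of_mem M hx _ (pow_pos (expChar_pos (ResidueField A) _) n)
    have h4 : (1 : B) ⊗ₜ[A] c ∈ M := by
      have := M.sub_mem h3 h1
      rwa [sub_sub_cancel] at this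
    have h5 : c ∈ maximalIdeal C := by
      rw [← (comap_eq A B C M hM).2]
      exact h4
    have h6 : (1 : B) ⊗ₜ[A] c ∈ N := by
      rw [← (comap_eq A B C N hN).2] at h5
      exact h5
    have h7 := N.add_mem h2 h6
    rw [sub_add_cancel] at h7
    exact hN.isPrime.mem_of_pow_mem _ h7
  exact le_antisymm (key N M hN hM) (key M N hM hN)

omit [IsPurelyInseparable (ResidueField A) (ResidueField B)] [IsLocalHom (algebraMap A B)] in
theorem isLocalHom_includeLeft [IsLocalRing (B ⊗[A] C)] :
    IsLocalHom (Algebra.TensorProduct.includeLeft : B →ₐ[A] B ⊗[A] C).toRingHom :=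
  ((IsLocalRing.local_hom_TFAE _).out 0 4).mpr (comap_eq A B C _ inferInstance).1

omit [IsPurelyInseparable (ResidueField A) (ResidueField B)] [IsLocalHom (algebraMap A B)] in
theorem isLocalHom_includeRight [IsLocalRing (B ⊗[A] C)] :
    IsLocalHom (Algebra.TensorProduct.includeRight : C →ₐ[A] B ⊗[A] C).toRingHom :=
  ((IsLocalRing.local_hom_TFAE _).out 0 4).mpr (comap_eq A B C _ inferInstance).2

end K141.TensorLocal
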