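import Groth.Agent.Hensel.K141.UnibModel
import Groth.Agent.Sga2lef.H99.ClosedFib
import Groth.Agent.S2135
import Mathlib.RingTheory.Ideal.GoingDown

/-!
Minimal primes of the strict henselization of a tensor product over an algebraically closed field.
-/

set_option autoImplicit false

universe u

open TensorProduct IsLocalRing

namespace K141.TensorUnib

open UnibModel

theorem comap_mem_minimalPrimes {A C : Type*} [CommRing A] [CommRing C] (f : A →+* C)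
    (hf : f.Flat) (𝔯 : Ideal C) (h𝔯 : 𝔯 ∈ minimalPrimes C) : 𝔯.comap f ∈ minimalPrimes A := by
  algebraize [f]
  have hp : 𝔯.IsPrime := h𝔯.1.1
  refine ⟨⟨inferInstance, bot_le⟩, ?_⟩
  rintro 𝔭 ⟨h𝔭, -⟩ hle
  have : 𝔯.LiesOver (𝔯.comap f) := ⟨rfl⟩
  obtain ⟨P, hPle, hP, hP'⟩ := Ideal.exists_ideal_le_liesOver_of_le (R := A) (p := 𝔭)
    (q := 𝔯.comap f) 𝔯 hle
  have h2 := h𝔯.2 ⟨hP, bot_le⟩ hPle
  intro a ha
  have h3 : f a ∈ P := h2 ha
  rw [hP'.over]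
  exact h3

/-- If `R ⧸ I` is geometrically unibranch, there is a smallest prime of the strict henselization
above `I`. -/
theorem exists_least {R C : Type u} [CommRing R] [IsLocalRing R] [CommRing C] [IsLocalRing C]
    [Algebra R C] [IsLocalHom (algebraMap R C)] [Hensel.IsStrictHenselization R C]
    (I : Ideal R) [I.IsPrime] [IsLocalRing (R ⧸ I)] (hU : CAlg2.IsGeomUnibranch (R ⧸ I)) :
    ∃ 𝔯₀ : Ideal C, 𝔯₀.IsPrime ∧ 𝔯₀.comap (algebraMap R C) = I ∧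
      ∀ 𝔯 : Ideal C, 𝔯.IsPrime → I ≤ 𝔯.comap (algebraMap R C) → 𝔯₀ ≤ 𝔯 := by
  have hI : I ≤ maximalIdeal R := le_maximalIdeal (Ideal.IsPrime.ne_top inferInstance)
  have hJ : I.map (algebraMap R C) ≤ maximalIdeal C := by
    rw [Ideal.map_le_iff_le_comap, IsLocalRing.maximalIdeal_comap]
    exact hI
  have hlocJ : IsLocalRing (C ⧸ I.map (algebraMap R C)) := by
    have : Nontrivial (C ⧸ I.map (algebraMap R C)) := by
      rw [Ideal.Quotient.nontrivial_iff]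
      exact fun h => (maximalIdeal.isMaximal C).ne_top (top_le_iff.mp (h ▸ hJ))
    exact IsLocalRing.of_surjective' (Ideal.Quotient.mk _) Ideal.Quotient.mk_surjective
  obtain ⟨hl, hsh⟩ := Groth.Agent.Sga2lef.H99.ClosedFib.isStrictHenselization_quotient
    R C I hI
  obtain ⟨𝔰, h𝔰, h𝔰u⟩ := (Groth.Agent.S2135.result
    (A := R ⧸ I) (Ash := C ⧸ I.map (algebraMap R C))).mp hU
  have hff := Groth.Agent.Hensel.Lazard.faithfullyFlat_of_isStrictHenselization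
      (R ⧸ I) (C ⧸ I.map (algebraMap R C))
  have hf : Module.Flat (R ⧸ I) (C ⧸ I.map (algebraMap R C)) := hff.toFlat
  have hdom : IsDomain (R ⧸ I) := inferInstance
  have h𝔰p : 𝔰.IsPrime := h𝔰.1.1
  have h𝔰0 : 𝔰.comap (algebraMap (R ⧸ I) (C ⧸ I.map (algebraMap R C))) = ⊥ := by
    have := comap_mem_minimalPrimes (algebraMap (R ⧸ I) (C ⧸ I.map (algebraMap R C)))
      (RingHom.flat_algebraMap_iff.mpr hf) 𝔰 h𝔰
    rw [IsDomain.minimalPrimes_eq_singleton_bot] at this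
    exact this
  refine ⟨𝔰.comap (Ideal.Quotient.mk _), inferInstance, ?_, ?_⟩
  · ext z
    have h1 : Ideal.Quotient.mk (I.map (algebraMap R C)) (algebraMap R C z) =
        algebraMap (R ⧸ I) (C ⧸ I.map (algebraMap R C)) (Ideal.Quotient.mk _ z) := rfl
    rw [Ideal.mem_comap, Ideal.mem_comap, h1, ← Ideal.mem_comap, h𝔰0, Ideal.mem_bot,
      Ideal.Quotient.eq_zero_iff_mem]
  · intro 𝔯 h𝔯 h1
    have h3 : I.map (algebraMap R C) ≤ 𝔯 := Ideal.map_le_iff_le_comap.mpr h1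
    have h4 : (𝔯.map (Ideal.Quotient.mk (I.map (algebraMap R C)))).IsPrime :=
      Ideal.map_isPrime_of_surjective Ideal.Quotient.mk_surjective (by rwa [Ideal.mk_ker])
    obtain ⟨𝔱, h𝔱, h𝔱'⟩ := Ideal.exists_minimalPrimes_le (I := ⊥) (J := 𝔯.map (Ideal.Quotient.mk
        (I.map (algebraMap R C)))) bot_le
    have h5 : 𝔱 = 𝔰 := h𝔰u 𝔱 h𝔱
    rw [h5] at h𝔱'
    intro x hx
    have h6 := h𝔱' hx
    rw [← Ideal.mem_comap, Ideal.comap_map_of_surjective _ Ideal.Quotient.mk_surjective,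
      ← RingHom.ker_eq_comap_bot, Ideal.mk_ker, sup_eq_left.mpr h3] at h6
    exact h6

variable {k A B C : Type u} [Field k]
    [IsAlgClosed k] [CommRing A] [CommRing B] [HenselianLocalRing A] [HenselianLocalRing B]
    [Algebra k A] [Algebra k B]
    (hA : Function.Bijective ((residue A).comp (algebraMap k A)))
    (hB : Function.Bijective ((residue B).comp (algebraMap k B)))
    (𝔪 : Ideal (A ⊗[k] B)) [𝔪.IsPrime]
    (h𝔪 : 𝔪 = (maximalIdeal A).map (Algebra.TensorProduct.includeLeft : A →ₐ[k] A ⊗[k] B) ⊔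
      (maximalIdeal B).map (Algebra.TensorProduct.includeRight : B →ₐ[k] A ⊗[k] B))
    [CommRing C] [IsLocalRing C] [Algebra (Localization.AtPrime 𝔪) C]
    [IsLocalHom (algebraMap (Localization.AtPrime 𝔪) C)]
    [Hensel.IsStrictHenselization (Localization.AtPrime 𝔪) C]

variable (C) in
/-- The map from `A`. -/
noncomputable def fA : A →+* C := (algebraMap (Localization.AtPrime 𝔪) C).comp
            ((algebraMap (A ⊗[k] B) (Localization.AtPrime 𝔪)).comp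
              (Algebra.TensorProduct.includeLeft : A →ₐ[k] A ⊗[k] B).toRingHom)

variable (C) in
/-- The map from `B`. -/
noncomputable def fB : B →+* C := (algebraMap (Localization.AtPrime 𝔪) C).comp
            ((algebraMap (A ⊗[k] B) (Localization.AtPrime 𝔪)).comp
              (Algebra.TensorProduct.includeRight : B →ₐ[k] A ⊗[k] B).toRingHom)

omit [IsAlgClosed k] in
theorem flat_fA : (fA C 𝔪).Flat := by
  have h1 : Module.Flat (Localization.AtPrime 𝔪) C :=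
    (Groth.Agent.Hensel.Lazard.faithfullyFlat_of_isStrictHenselization
      (Localization.AtPrime 𝔪) C).toFlat
  refine RingHom.Flat.comp (RingHom.Flat.comp ?_ ?_) ?_
  · exact (RingHom.flat_algebraMap_iff (R := A) (S := A ⊗[k] B)).mpr inferInstance
  · rw [RingHom.flat_algebraMap_iff]
    exact IsLocalization.flat _ 𝔪.primeCompl
  · rw [RingHom.flat_algebraMap_iff]
    exact h1

omit [IsAlgClosed k] in
theorem flat_fB : (fB C 𝔪).Flat := by
  have h1 : Module.Flat (Localization.AtPrime 𝔪) C :=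
    (Groth.Agent.Hensel.Lazard.faithfullyFlat_of_isStrictHenselization
      (Localization.AtPrime 𝔪) C).toFlat
  refine RingHom.Flat.comp (RingHom.Flat.comp ?_ ?_) ?_
  · have h2 : ((Algebra.TensorProduct.includeRight : B →ₐ[k] A ⊗[k] B).toRingHom) =
        (Algebra.TensorProduct.comm k B A).toRingEquiv.toRingHom.comp
          (algebraMap B (B ⊗[k] A)) := by
      ext b
      rfl
    rw [h2]
    refine RingHom.Flat.comp ?_ (RingHom.Flat.of_bijective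
      (Algebra.TensorProduct.comm k B A).bijective)
    rw [RingHom.flat_algebraMap_iff]
    infer_instance
  · rw [RingHom.flat_algebraMap_iff]
    exact IsLocalization.flat _ 𝔪.primeCompl
  · rw [RingHom.flat_algebraMap_iff]
    exact h1

include h𝔪 in
omit [IsAlgClosed k] [𝔪.IsPrime] in
theorem tmul_mem_left (a : A) (ha : a ∈ maximalIdeal A) : a ⊗ₜ 1 ∈ 𝔪 := by
  rw [h𝔪]
  exact Ideal.mem_sup_left (Ideal.mem_map_of_mem _ ha)

include h𝔪 in
omit [IsAlgClosed k] [𝔪.IsPrime] in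
theorem tmul_mem_right (b : B) (hb : b ∈ maximalIdeal B) : 1 ⊗ₜ b ∈ 𝔪 := by
  rw [h𝔪]
  exact Ideal.mem_sup_right (Ideal.mem_map_of_mem _ hb)

include h𝔪 hA hB in
omit [IsAlgClosed k] [𝔪.IsPrime] in
theorem exists_sub_mem (z : A ⊗[k] B) : ∃ c : k, z - algebraMap k _ c ∈ 𝔪 := by
  induction z with
  | zero =>
    refine ⟨0, ?_⟩
    simp
  | add x y hx hy =>
    obtain ⟨c, hc⟩ := hx
    obtain ⟨d, hd⟩ := hy
    refine ⟨c + d, ?_⟩
    have := 𝔪.add_mem hc hd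
    rw [map_add]
    convert this using 1
    ring
  | tmul x y =>
    obtain ⟨c, hc⟩ := hA.2 (residue A x)
    obtain ⟨d, hd⟩ := hB.2 (residue B y)
    refine ⟨c * d, ?_⟩
    have h3 : x - algebraMap k A c ∈ maximalIdeal A := by
      rw [← residue_eq_zero_iff, map_sub, ← hc]
      exact sub_self _
    have h4 : y - algebraMap k B d ∈ maximalIdeal B := by
      rw [← residue_eq_zero_iff, map_sub, ← hd]
      exact sub_self _
    have h5 : (x ⊗ₜ[k] y : A ⊗[k] B) - algebraMap k _ (c * d) =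
        (x ⊗ₜ 1) * (1 ⊗ₜ (y - algebraMap k B d)) +
          algebraMap k _ d * ((x - algebraMap k A c) ⊗ₜ 1) := by
      rw [TensorProduct.tmul_sub, TensorProduct.sub_tmul, mul_sub, mul_sub,
        Algebra.TensorProduct.tmul_mul_tmul, mul_one, one_mul]
      have e1 : (1 : A) ⊗ₜ[k] algebraMap k B d = algebraMap k _ d :=
        (Algebra.TensorProduct.includeRight : B →ₐ[k] A ⊗[k] B).commutes d
      have e2 : algebraMap k A c ⊗ₜ[k] (1 : B) = algebraMap k _ c :=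
        (Algebra.TensorProduct.includeLeft : A →ₐ[k] A ⊗[k] B).commutes c
      rw [e1, e2, map_mul]
      ring
    rw [h5]
    exact 𝔪.add_mem (𝔪.mul_mem_left _ (tmul_mem_right 𝔪 h𝔪 _ h4))
      (𝔪.mul_mem_left _ (tmul_mem_left 𝔪 h𝔪 _ h3))

include h𝔪 hA hB in
theorem exists_prime (𝔭 : Ideal A) [𝔭.IsPrime] (𝔮 : Ideal B) [𝔮.IsPrime] :
    ∃ 𝔯₀ : Ideal C, 𝔯₀.IsPrime ∧ 𝔯₀.comap (fA C 𝔪) = 𝔭 ∧ 𝔯₀.comap (fB C 𝔪) = 𝔮 ∧
      ∀ 𝔯 : Ideal C, 𝔯.IsPrime → 𝔭 ≤ 𝔯.comap (fA C 𝔪) → 𝔮 ≤ 𝔯.comap (fB C 𝔪) → 𝔯₀ ≤ 𝔯 := by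
  obtain ⟨A', _, _, _, _, hMA⟩ := exists_model hA 𝔭
  obtain ⟨B', _, _, _, _, hMB⟩ := exists_model hB 𝔮
  have hN1 := isDomain hMA hMB
  have hN2 := isIntegrallyClosed hMA hMB
  have hAd := hMA.dom
  have hBd := hMB.dom
  have hker : ∀ z, φ k A B A' B' z = 0 → z ∈ 𝔪 := by
    intro z hz
    rw [mem_ker hMA hMB] at hz
    rw [h𝔪]
    have h5 : 𝔭.map (Algebra.TensorProduct.includeLeft : A →ₐ[k] A ⊗[k] B) ⊔
        𝔮.map (Algebra.TensorProduct.includeRight : B →ₐ[k] A ⊗[k] B) ≤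
        (maximalIdeal A).map (Algebra.TensorProduct.includeLeft : A →ₐ[k] A ⊗[k] B) ⊔
      (maximalIdeal B).map (Algebra.TensorProduct.includeRight : B →ₐ[k] A ⊗[k] B) := by
      refine sup_le_sup (Ideal.map_mono ?_) (Ideal.map_mono ?_)
      · exact le_maximalIdeal (Ideal.IsPrime.ne_top inferInstance)
      · exact le_maximalIdeal (Ideal.IsPrime.ne_top inferInstance)
    exact h5 hz
  obtain ⟨ψ, hψ, hloc, hU⟩ := exists_isGeomUnibranch (φ k A B A' B') (isIntegral hMA hMB)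
    (birat hMA hMB) 𝔪 hker (fun z => by
      obtain ⟨c, hc⟩ := res hMA hMB z
      refine ⟨c, fun P hP hP𝔪 => hc P hP ?_ ?_⟩
      · intro a ha
        have := tmul_mem_left 𝔪 h𝔪 a ha
        rw [← hP𝔪] at this
        exact this
      · intro a ha
        have := tmul_mem_right 𝔪 h𝔪 a ha
        rw [← hP𝔪] at this
        exact this)
    (exists_sub_mem hA hB 𝔪 h𝔪) (Localization.AtPrime 𝔪)
  have hpr : (RingHom.ker ψ).IsPrime := RingHom.ker_isPrime ψ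
  obtain ⟨𝔯₀, h𝔯₀, h𝔯₀I, h𝔯₀m⟩ := exists_least (C := C) (RingHom.ker ψ) hU
  have hmem : ∀ z : A ⊗[k] B, (algebraMap (Localization.AtPrime 𝔪) C (algebraMap _ _ z) ∈
      𝔯₀ ↔ φ k A B A' B' z = 0) := by
    intro z
    rw [← Ideal.mem_comap, h𝔯₀I, RingHom.mem_ker, hψ,
      map_eq_zero_iff _ (IsFractionRing.injective (A' ⊗[k] B') _)]
  refine ⟨𝔯₀, h𝔯₀, ?_, ?_, ?_⟩
  · ext a
    rw [Ideal.mem_comap]
    refine (hmem (a ⊗ₜ 1)).trans ?_
    rw [φ_tmul, map_one, ← hMA.ker]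
    have h2 : Function.Injective (Algebra.TensorProduct.includeLeft : A' →ₐ[k] A' ⊗[k] B') :=
      Algebra.TensorProduct.includeLeft_injective (algebraMap k B').injective
    exact map_eq_zero_iff _ h2
  · ext a
    rw [Ideal.mem_comap]
    refine (hmem (1 ⊗ₜ a)).trans ?_
    rw [φ_tmul, map_one, ← hMB.ker]
    have h2 : Function.Injective (Algebra.TensorProduct.includeRight : B' →ₐ[k] A' ⊗[k] B') :=
      Algebra.TensorProduct.includeRight_injective (algebraMap k A').injective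
    exact map_eq_zero_iff _ h2
  · intro 𝔯 h𝔯 h1 h2
    refine h𝔯₀m 𝔯 h𝔯 ?_
    intro x hx
    obtain ⟨z, s, rfl⟩ := IsLocalization.exists_mk'_eq 𝔪.primeCompl x
    have h4 : ψ (algebraMap _ _ z) = 0 := by
      rw [← IsLocalization.mk'_spec (Localization.AtPrime 𝔪) z s, map_mul,
        RingHom.mem_ker.mp hx, zero_mul]
    rw [hψ, map_eq_zero_iff _ (IsFractionRing.injective (A' ⊗[k] B') _), mem_ker hMA hMB] at h4
    have h5 : 𝔭.map (Algebra.TensorProduct.includeLeft : A →ₐ[k] A ⊗[k] B) ⊔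
        𝔮.map (Algebra.TensorProduct.includeRight : B →ₐ[k] A ⊗[k] B) ≤
        𝔯.comap ((algebraMap (Localization.AtPrime 𝔪) C).comp
          (algebraMap (A ⊗[k] B) (Localization.AtPrime 𝔪))) := by
      refine sup_le ?_ ?_
      · rw [Ideal.map_le_iff_le_comap]
        exact h1
      · rw [Ideal.map_le_iff_le_comap]
        exact h2
    have h6 := h5 h4
    rw [Ideal.mem_comap]
    rw [Ideal.mem_comap, RingHom.comp_apply, ← IsLocalization.mk'_spec (Localization.AtPrime 𝔪) z s,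
      map_mul] at h6
    exact (Ideal.mul_unit_mem_iff_mem 𝔯 ((IsLocalization.map_units _ s).map _)).mp h6

include h𝔪 hA hB in
theorem bijOn : Set.BijOn (fun 𝔯 : Ideal C => (𝔯.comap (fA C 𝔪), 𝔯.comap (fB C 𝔪)))
      (minimalPrimes C) (minimalPrimes A ×ˢ minimalPrimes B) := by
  refine ⟨?_, ?_, ?_⟩
  · intro 𝔯 h𝔯
    exact ⟨comap_mem_minimalPrimes _ (flat_fA 𝔪) 𝔯 h𝔯,
      comap_mem_minimalPrimes _ (flat_fB 𝔪) 𝔯 h𝔯⟩
  · intro 𝔯 h𝔯 𝔯' h𝔯' h
    have e1 : 𝔯.comap (fA C 𝔪) = 𝔯'.comap (fA C 𝔪) := congr(Prod.fst $h)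
    have e2 : 𝔯.comap (fB C 𝔪) = 𝔯'.comap (fB C 𝔪) := congr(Prod.snd $h)
    have hp : 𝔯.IsPrime := h𝔯.1.1
    have hp' : 𝔯'.IsPrime := h𝔯'.1.1
    obtain ⟨𝔯₀, h1, h2, h3, h4⟩ := exists_prime (C := C) hA hB 𝔪 h𝔪 (𝔯.comap (fA C 𝔪))
      (𝔯.comap (fB C 𝔪))
    have h5 := h4 𝔯 hp le_rfl le_rfl
    have h6 := h4 𝔯' hp' e1.le e2.le
    have h7 : 𝔯 = 𝔯₀ := le_antisymm (h𝔯.2 ⟨h1, bot_le⟩ h5) h5
    have h8 : 𝔯' = 𝔯₀ := le_antisymm (h𝔯'.2 ⟨h1, bot_le⟩ h6) h6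
    rw [h7, h8]
  · rintro ⟨𝔭, 𝔮⟩ ⟨h𝔭, h𝔮⟩
    have hp : 𝔭.IsPrime := h𝔭.1.1
    have hq : 𝔮.IsPrime := h𝔮.1.1
    obtain ⟨𝔯₀, h1, h2, h3, h4⟩ := exists_prime (C := C) hA hB 𝔪 h𝔪 𝔭 𝔮
    refine ⟨𝔯₀, ⟨⟨h1, bot_le⟩, ?_⟩, Prod.ext h2 h3⟩
    rintro 𝔯 ⟨h𝔯, -⟩ hle
    refine h4 𝔯 h𝔯 ?_ ?_
    · refine h𝔭.2 ⟨inferInstance, bot_le⟩ ?_
      change 𝔯.comap (fA C 𝔪) ≤ 𝔭
      rw [← h2]
      exact Ideal.comap_mono hle
    · refine h𝔮.2 ⟨inferInstance, bot_le⟩ ?_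
      change 𝔯.comap (fB C 𝔪) ≤ 𝔮
      rw [← h3]
      exact Ideal.comap_mono hle

end K141.TensorUnib
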