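import Groth.Agent.S2691
import Groth.Agent.UnramA.Unibranch
import Groth.Agent.Flat2B.GINLocal
import Groth.Agent.Fdesc.GeomRed
import Groth.Agent.Fdesc.TensorDomain
import Mathlib.RingTheory.LinearDisjoint
import Mathlib.LinearAlgebra.TensorProduct.RightExactness

/-!
Tensor products over an algebraically closed field of henselian local rings with residue field `k` are
geometrically unibranch at the closed point, modulo minimal primes.
-/

set_option autoImplicit false

universe u

open TensorProduct IsLocalRing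

namespace K141.UnibModel

/-- A normal model of `A ⧸ 𝔭` with the same residue field. -/
structure Model (k A : Type u) [Field k] [CommRing A] [IsLocalRing A] [Algebra k A] (𝔭 : Ideal A)
    (A' : Type u) [CommRing A'] [Algebra k A'] [Algebra A A'] : Prop where
  ker : ∀ a, algebraMap A A' a = 0 ↔ a ∈ 𝔭
  integral : Algebra.IsIntegral A A'
  dom : IsDomain A'
  normal : IsIntegrallyClosed A'
  birat : ∀ a' : A', ∃ s : A, s ∉ 𝔭 ∧ ∃ a : A, algebraMap A A' s * a' = algebraMap A A' a
  res : ∀ a' : A', ∃ c : k, ∀ P : Ideal A', P.IsPrime →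
    (∀ a ∈ maximalIdeal A, algebraMap A A' a ∈ P) → a' - algebraMap k A' c ∈ P

theorem exists_res {k A W : Type u} [Field k] [IsAlgClosed k] [CommRing A] [IsLocalRing A]
    [Algebra k A] (hA : Function.Bijective ((residue A).comp (algebraMap k A))) [CommRing W]
    [IsLocalRing W] [Algebra k W] [Algebra A W] [IsScalarTower k A W] [Algebra.IsIntegral A W]
    (w : W) : ∃ c : k, ∀ P : Ideal W, P.IsPrime →
      (∀ a ∈ maximalIdeal A, algebraMap A W a ∈ P) → w - algebraMap k W c ∈ P := by
  have hmW : (maximalIdeal W).comap (algebraMap A W) = maximalIdeal A :=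
    IsLocalRing.eq_maximalIdeal (Ideal.isMaximal_comap_of_isIntegral_of_isMaximal _)
  let e : k ≃+* ResidueField A := RingEquiv.ofBijective _ hA
  have he : ∀ c, e c = residue A (algebraMap k A c) := fun _ => rfl
  let f : k →+* ResidueField W := (residue W).comp (algebraMap k W)
  let g : A →+* k := e.symm.toRingHom.comp (residue A)
  have hg : ∀ a, algebraMap k A (g a) - a ∈ maximalIdeal A := by
    intro a
    rw [← residue_eq_zero_iff, map_sub, ← he]
    change e (e.symm (residue A a)) - _ = 0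
    rw [e.apply_symm_apply, sub_self]
  have hfg : f.comp g = (residue W).comp (algebraMap A W) := by
    ext a
    change residue W (algebraMap k W (g a)) = residue W (algebraMap A W a)
    rw [← sub_eq_zero, ← map_sub, residue_eq_zero_iff, IsScalarTower.algebraMap_apply k A W,
      ← map_sub, ← Ideal.mem_comap, hmW]
    exact hg a
  have hf : f.IsIntegral := by
    intro z
    obtain ⟨w, rfl⟩ := residue_surjective z
    obtain ⟨p, hp, hpw⟩ := Algebra.IsIntegral.isIntegral (R := A) w
    refine ⟨p.map g, hp.map g, ?_⟩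
    rw [Polynomial.eval₂_map, hfg, ← Polynomial.hom_eval₂, hpw, map_zero]
  obtain ⟨c, hc⟩ := (IsAlgClosed.ringHom_bijective_of_isIntegral f hf).2 (residue W w)
  refine ⟨c, fun P hP hPm => ?_⟩
  have hPmax : P.IsMaximal := by
    apply Ideal.isMaximal_of_isIntegral_of_isMaximal_comap (R := A)
    have : maximalIdeal A = P.comap (algebraMap A W) :=
      (maximalIdeal.isMaximal A).eq_of_le (Ideal.IsPrime.ne_top inferInstance) hPm
    rw [← this]
    exact maximalIdeal.isMaximal A
  rw [IsLocalRing.eq_maximalIdeal hPmax, ← residue_eq_zero_iff, map_sub, sub_eq_zero]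
  exact hc.symm

theorem exists_model {k A : Type u} [Field k] [IsAlgClosed k] [CommRing A] [HenselianLocalRing A]
    [Algebra k A] (hA : Function.Bijective ((residue A).comp (algebraMap k A))) (𝔭 : Ideal A)
    [𝔭.IsPrime] : ∃ (A' : Type u) (_ : CommRing A') (_ : Algebra k A') (_ : Algebra A A')
      (_ : IsScalarTower k A A'), Model k A 𝔭 A' := by
  have halg : Algebra.IsAlgebraic (A ⧸ 𝔭) (FractionRing (A ⧸ 𝔭)) :=
    IsLocalization.isAlgebraic _ (nonZeroDivisors (A ⧸ 𝔭))
  have hfr : IsFractionRing (integralClosure (A ⧸ 𝔭) (FractionRing (A ⧸ 𝔭)))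
      (FractionRing (A ⧸ 𝔭)) := by
    refine integralClosure.isFractionRing_of_algebraic fun x hx => ?_
    exact (IsFractionRing.to_map_eq_zero_iff).mp hx
  have hnorm : IsIntegrallyClosed (integralClosure (A ⧸ 𝔭) (FractionRing (A ⧸ 𝔭))) := by
    rw [isIntegrallyClosed_iff_isIntegrallyClosedIn (K := FractionRing (A ⧸ 𝔭))]
    infer_instance
  have hq : Algebra.IsIntegral A (A ⧸ 𝔭) :=
    Algebra.IsIntegral.of_surjective (IsScalarTower.toAlgHom A A (A ⧸ 𝔭))
      Ideal.Quotient.mk_surjective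
  have hint : Algebra.IsIntegral A (integralClosure (A ⧸ 𝔭) (FractionRing (A ⧸ 𝔭))) :=
    Algebra.IsIntegral.trans (A ⧸ 𝔭)
  have hloc : IsLocalRing (integralClosure (A ⧸ 𝔭) (FractionRing (A ⧸ 𝔭))) :=
    Groth.Agent.Flat2B.GINLocal.isLocalRing_of_isIntegral_of_isDomain A _
  refine ⟨integralClosure (A ⧸ 𝔭) (FractionRing (A ⧸ 𝔭)), inferInstance, inferInstance,
    inferInstance, inferInstance, ⟨?_, hint, inferInstance, hnorm, ?_, ?_⟩⟩
  · intro a
    rw [← Ideal.Quotient.eq_zero_iff_mem, ← IsFractionRing.to_map_eq_zero_iff (R := A ⧸ 𝔭)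
      (K := FractionRing (A ⧸ 𝔭))]
    constructor
    · intro h
      exact congr(Subtype.val $h)
    · intro h
      exact Subtype.ext h
  · intro a'
    obtain ⟨x, y, hy, hxy⟩ := IsFractionRing.div_surjective (A := A ⧸ 𝔭)
      (a' : FractionRing (A ⧸ 𝔭))
    obtain ⟨x, rfl⟩ := Ideal.Quotient.mk_surjective x
    obtain ⟨y, rfl⟩ := Ideal.Quotient.mk_surjective y
    refine ⟨y, ?_, x, ?_⟩
    · intro h
      rw [← Ideal.Quotient.eq_zero_iff_mem] at h
      exact nonZeroDivisors.ne_zero hy h
    · apply Subtype.ext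
      change algebraMap (A ⧸ 𝔭) (FractionRing (A ⧸ 𝔭)) (Ideal.Quotient.mk 𝔭 y) *
        (a' : FractionRing (A ⧸ 𝔭)) = algebraMap (A ⧸ 𝔭) (FractionRing (A ⧸ 𝔭))
          (Ideal.Quotient.mk 𝔭 x)
      rw [← hxy, mul_div_cancel₀]
      rw [Ne, IsFractionRing.to_map_eq_zero_iff]
      exact nonZeroDivisors.ne_zero hy
  · exact fun a' => exists_res hA a'

section Tensor

variable {k A B : Type u} [Field k] [IsAlgClosed k] [CommRing A] [IsLocalRing A] [CommRing B]
  [IsLocalRing B] [Algebra k A] [Algebra k B] {𝔭 : Ideal A} {𝔮 : Ideal B} {A' B' : Type u}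
  [CommRing A'] [CommRing B'] [Algebra k A'] [Algebra k B'] [Algebra A A'] [Algebra B B']
  [IsScalarTower k A A'] [IsScalarTower k B B']

variable (k A B A' B') in
/-- The map of tensor products. -/
noncomputable def φ : A ⊗[k] B →ₐ[k] A' ⊗[k] B' :=
  Algebra.TensorProduct.map (IsScalarTower.toAlgHom k A A') (IsScalarTower.toAlgHom k B B')

theorem φ_tmul (a : A) (b : B) :
    φ k A B A' B' (a ⊗ₜ b) = algebraMap A A' a ⊗ₜ algebraMap B B' b := rfl

include k in
theorem isIntegral (hA : Model k A 𝔭 A') (hB : Model k B 𝔮 B') :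
    (φ k A B A' B').toRingHom.IsIntegral := by
  intro z
  have := hA.integral
  have := hB.integral
  induction z with
  | zero => exact RingHom.isIntegralElem_zero _
  | add x y hx hy => exact RingHom.IsIntegralElem.add _ hx hy
  | tmul x y =>
    have h1 : (x ⊗ₜ[k] y : A' ⊗[k] B') = (x ⊗ₜ 1) * (1 ⊗ₜ y) := by
      rw [Algebra.TensorProduct.tmul_mul_tmul, mul_one, one_mul]
    rw [h1]
    refine RingHom.IsIntegralElem.mul _ ?_ ?_
    · obtain ⟨p, hp, hpx⟩ := Algebra.IsIntegral.isIntegral (R := A) x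
      refine ⟨p.map (Algebra.TensorProduct.includeLeft : A →ₐ[k] A ⊗[k] B).toRingHom,
        hp.map _, ?_⟩
      rw [Polynomial.eval₂_map]
      have h2 : ((φ k A B A' B').toRingHom.comp
          (Algebra.TensorProduct.includeLeft : A →ₐ[k] A ⊗[k] B).toRingHom) =
          (Algebra.TensorProduct.includeLeft : A' →ₐ[k] A' ⊗[k] B').toRingHom.comp
            (algebraMap A A') := by
        ext a
        change φ k A B A' B' (a ⊗ₜ 1) = algebraMap A A' a ⊗ₜ 1
        rw [φ_tmul, map_one]
      rw [h2]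
      change Polynomial.eval₂ _ ((Algebra.TensorProduct.includeLeft :
        A' →ₐ[k] A' ⊗[k] B').toRingHom x) p = 0
      rw [← Polynomial.hom_eval₂, hpx, map_zero]
    · obtain ⟨p, hp, hpx⟩ := Algebra.IsIntegral.isIntegral (R := B) y
      refine ⟨p.map (Algebra.TensorProduct.includeRight : B →ₐ[k] A ⊗[k] B).toRingHom,
        hp.map _, ?_⟩
      rw [Polynomial.eval₂_map]
      have h2 : ((φ k A B A' B').toRingHom.comp
          (Algebra.TensorProduct.includeRight : B →ₐ[k] A ⊗[k] B).toRingHom) =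
          (Algebra.TensorProduct.includeRight : B' →ₐ[k] A' ⊗[k] B').toRingHom.comp
            (algebraMap B B') := by
        ext a
        change φ k A B A' B' (1 ⊗ₜ a) = 1 ⊗ₜ algebraMap B B' a
        rw [φ_tmul, map_one]
      rw [h2]
      change Polynomial.eval₂ _ ((Algebra.TensorProduct.includeRight :
        B' →ₐ[k] A' ⊗[k] B').toRingHom y) p = 0
      rw [← Polynomial.hom_eval₂, hpx, map_zero]

omit [IsAlgClosed k] in
theorem mem_ker (hA : Model k A 𝔭 A') (hB : Model k B 𝔮 B') (z : A ⊗[k] B) :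
    φ k A B A' B' z = 0 ↔
      z ∈ 𝔭.map (Algebra.TensorProduct.includeLeft : A →ₐ[k] A ⊗[k] B) ⊔
      𝔮.map (Algebra.TensorProduct.includeRight : B →ₐ[k] A ⊗[k] B) := by
  let fA : A ⧸ 𝔭 →ₐ[k] A' := Ideal.Quotient.liftₐ 𝔭 (IsScalarTower.toAlgHom k A A')
    (fun a ha => (hA.ker a).mpr ha)
  let fB : B ⧸ 𝔮 →ₐ[k] B' := Ideal.Quotient.liftₐ 𝔮 (IsScalarTower.toAlgHom k B B')
    (fun a ha => (hB.ker a).mpr ha)
  have hfA : Function.Injective fA := by
    rw [injective_iff_map_eq_zero]
    intro x hx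
    obtain ⟨x, rfl⟩ := Ideal.Quotient.mk_surjective x
    exact Ideal.Quotient.eq_zero_iff_mem.mpr ((hA.ker x).mp hx)
  have hfB : Function.Injective fB := by
    rw [injective_iff_map_eq_zero]
    intro x hx
    obtain ⟨x, rfl⟩ := Ideal.Quotient.mk_surjective x
    exact Ideal.Quotient.eq_zero_iff_mem.mpr ((hB.ker x).mp hx)
  have h1 := Algebra.TensorProduct.map_ker (R := k) (Ideal.Quotient.mkₐ k 𝔭)
    (Ideal.Quotient.mkₐ k 𝔮) (Ideal.Quotient.mkₐ_surjective k 𝔭)
    (Ideal.Quotient.mkₐ_surjective k 𝔮)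
  have h2 : φ k A B A' B' z = Algebra.TensorProduct.map fA fB (Algebra.TensorProduct.map
      (Ideal.Quotient.mkₐ k 𝔭) (Ideal.Quotient.mkₐ k 𝔮) z) := by
    rw [← AlgHom.comp_apply, ← Algebra.TensorProduct.map_comp]
    rfl
  have h3 : Function.Injective (Algebra.TensorProduct.map fA fB) := by
    exact TensorProduct.map_injective_of_flat_flat fA.toLinearMap fB.toLinearMap hfA hfB
  rw [h2, map_eq_zero_iff _ h3]
  change z ∈ RingHom.ker _ ↔ _
  rw [h1]
  have h4 : RingHom.ker (Ideal.Quotient.mkₐ k 𝔭) = 𝔭 := Ideal.Quotient.mkₐ_ker k 𝔭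
  have h5 : RingHom.ker (Ideal.Quotient.mkₐ k 𝔮) = 𝔮 := Ideal.Quotient.mkₐ_ker k 𝔮
  rw [h4, h5]

include k in
theorem isDomain (hA : Model k A 𝔭 A') (hB : Model k B 𝔮 B') : IsDomain (A' ⊗[k] B') := by
  have := hA.dom
  have := hB.dom
  exact Groth.Agent.Fdesc.TensorDomain.isDomain_tensorProduct

include k in
theorem birat (hA : Model k A 𝔭 A') (hB : Model k B 𝔮 B') (z : A' ⊗[k] B') :
    ∃ s : A ⊗[k] B, φ k A B A' B' s ≠ 0 ∧ ∃ t, φ k A B A' B' s * z = φ k A B A' B' t := by
  have hd := isDomain hA hB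
  have hAd := hA.dom
  have hBd := hB.dom
  induction z with
  | zero =>
    refine ⟨1, ?_, 0, ?_⟩
    · rw [map_one]
      exact one_ne_zero
    · simp
  | add x y hx hy =>
    obtain ⟨s, hs, t, hst⟩ := hx
    obtain ⟨s', hs', t', hst'⟩ := hy
    refine ⟨s * s', ?_, t * s' + s * t', ?_⟩
    · rw [map_mul]
      exact mul_ne_zero hs hs'
    · rw [map_add, map_mul, map_mul, map_mul, ← hst, ← hst']
      ring
  | tmul x y =>
    obtain ⟨s, hs, t, hst⟩ := hA.birat x
    obtain ⟨s', hs', t', hst'⟩ := hB.birat y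
    refine ⟨s ⊗ₜ s', ?_, t ⊗ₜ t', ?_⟩
    · have h1 : (s ⊗ₜ[k] s' : A ⊗[k] B) = (s ⊗ₜ 1) * (1 ⊗ₜ s') := by
        rw [Algebra.TensorProduct.tmul_mul_tmul, mul_one, one_mul]
      rw [h1, map_mul]
      refine mul_ne_zero ?_ ?_
      · rw [φ_tmul, map_one]
        intro h
        have h2 : Function.Injective (Algebra.TensorProduct.includeLeft : A' →ₐ[k] A' ⊗[k] B') :=
          Algebra.TensorProduct.includeLeft_injective (algebraMap k B').injective
        exact hs ((hA.ker s).mp (h2 (h.trans (map_zero _).symm)))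
      · rw [φ_tmul, map_one]
        intro h
        have h2 : Function.Injective (Algebra.TensorProduct.includeRight : B' →ₐ[k] A' ⊗[k] B') :=
          Algebra.TensorProduct.includeRight_injective (algebraMap k A').injective
        exact hs' ((hB.ker s').mp (h2 (h.trans (map_zero _).symm)))
    · rw [φ_tmul, φ_tmul, Algebra.TensorProduct.tmul_mul_tmul, hst, hst']

include k in
theorem isIntegrallyClosed (hA : Model k A 𝔭 A') (hB : Model k B 𝔮 B') :
    IsIntegrallyClosed (A' ⊗[k] B') := by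
  have hd := isDomain hA hB
  have hAd := hA.dom
  have hBd := hB.dom
  have hAn := hA.normal
  have hBn := hB.normal
  have h1 : Algebra.IsGeometricallyReduced k (FractionRing A') :=
    Groth.Agent.Fdesc.GeomRed.isGeometricallyReduced_of_perfectField _
  have h2 : Algebra.IsGeometricallyReduced k (FractionRing B') :=
    Groth.Agent.Fdesc.GeomRed.isGeometricallyReduced_of_perfectField _
  have h3 := Groth.Agent.S2691.result k A' B'
  exact IsIntegrallyClosed.of_localization_maximal fun p _ _ => (h3 p).2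

theorem res (hA : Model k A 𝔭 A') (hB : Model k B 𝔮 B') (z : A' ⊗[k] B') :
    ∃ c : k, ∀ P : Ideal (A' ⊗[k] B'), P.IsPrime →
      (∀ a ∈ maximalIdeal A, φ k A B A' B' (a ⊗ₜ 1) ∈ P) →
      (∀ b ∈ maximalIdeal B, φ k A B A' B' (1 ⊗ₜ b) ∈ P) → z - algebraMap k _ c ∈ P := by
  induction z with
  | zero =>
    refine ⟨0, fun P hP _ _ => ?_⟩
    simp
  | add x y hx hy =>
    obtain ⟨c, hc⟩ := hx
    obtain ⟨d, hd⟩ := hy
    refine ⟨c + d, fun P hP h1 h2 => ?_⟩
    have := P.add_mem (hc P hP h1 h2) (hd P hP h1 h2)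
    rw [map_add]
    convert this using 1
    ring
  | tmul x y =>
    obtain ⟨c, hc⟩ := hA.res x
    obtain ⟨d, hd⟩ := hB.res y
    refine ⟨c * d, fun P hP h1 h2 => ?_⟩
    have h3 := hc (P.comap (Algebra.TensorProduct.includeLeft : A' →ₐ[k] A' ⊗[k] B'))
      inferInstance (fun a ha => by
        have := h1 a ha
        rw [φ_tmul, map_one] at this
        exact this)
    have h4 := hd (P.comap (Algebra.TensorProduct.includeRight : B' →ₐ[k] A' ⊗[k] B'))
      inferInstance (fun a ha => by
        have := h2 a ha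
        rw [φ_tmul, map_one] at this
        exact this)
    rw [Ideal.mem_comap, map_sub, AlgHom.commutes] at h3 h4
    have h5 : (x ⊗ₜ[k] y : A' ⊗[k] B') - algebraMap k _ (c * d) =
        (x ⊗ₜ 1) * (1 ⊗ₜ y - algebraMap k _ d) +
          algebraMap k _ d * (x ⊗ₜ 1 - algebraMap k _ c) := by
      have h6 : (x ⊗ₜ[k] y : A' ⊗[k] B') = (x ⊗ₜ 1) * (1 ⊗ₜ y) := by
        rw [Algebra.TensorProduct.tmul_mul_tmul, mul_one, one_mul]
      rw [h6, map_mul]
      ring
    rw [h5]
    exact P.add_mem (P.mul_mem_left _ h4) (P.mul_mem_left _ h3)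

end Tensor

section Abstract

variable {k M N : Type u} [Field k] [CommRing M] [Algebra k M] [CommRing N] [Algebra k N]
  [IsDomain N] [IsIntegrallyClosed N] (φ : M →ₐ[k] N) (hint : φ.toRingHom.IsIntegral)
  (birat : ∀ z : N, ∃ s, φ s ≠ 0 ∧ ∃ t, φ s * z = φ t) (𝔪 : Ideal M) [𝔪.IsPrime]
  (hker : ∀ z, φ z = 0 → z ∈ 𝔪)
  (res : ∀ z : N, ∃ c : k, ∀ P : Ideal N, P.IsPrime → P.comap φ = 𝔪 → z - algebraMap k N c ∈ P)
  (hres : ∀ z : M, ∃ c : k, z - algebraMap k M c ∈ 𝔪)
  (R : Type u) [CommRing R] [Algebra M R] [IsLocalization.AtPrime R 𝔪] [IsLocalRing R]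

include hint birat hker res hres in
theorem exists_isGeomUnibranch :
    ∃ ψ : R →+* FractionRing N, (∀ z, ψ (algebraMap M R z) = algebraMap N (FractionRing N) (φ z)) ∧
      ∃ _ : IsLocalRing (R ⧸ RingHom.ker ψ), CAlg2.IsGeomUnibranch (R ⧸ RingHom.ker ψ) := by
  have hinj : Function.Injective (algebraMap N (FractionRing N)) := IsFractionRing.injective N _
  have hu : ∀ y : 𝔪.primeCompl,
      IsUnit (((algebraMap N (FractionRing N)).comp φ.toRingHom) (y : M)) := by
    intro y
    rw [isUnit_iff_ne_zero]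
    intro h
    exact y.2 (hker _ (hinj (h.trans (map_zero _).symm)))
  let ψ : R →+* FractionRing N := IsLocalization.lift hu
  have hψ : ∀ z, ψ (algebraMap M R z) = algebraMap N (FractionRing N) (φ z) := fun z =>
    IsLocalization.lift_eq hu z
  refine ⟨ψ, hψ, ?_⟩
  have hloc : IsLocalRing (R ⧸ RingHom.ker ψ) := by
    have : Nontrivial (R ⧸ RingHom.ker ψ) :=
      Ideal.Quotient.nontrivial_iff.mpr (RingHom.ker_ne_top ψ)
    exact IsLocalRing.of_surjective' (Ideal.Quotient.mk _) Ideal.Quotient.mk_surjective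
  have hdom : IsDomain (R ⧸ RingHom.ker ψ) := by
    rw [Ideal.Quotient.isDomain_iff_prime]
    exact RingHom.ker_isPrime ψ
  refine ⟨hloc, ?_⟩
  let _ : Algebra (R ⧸ RingHom.ker ψ) (FractionRing N) := (RingHom.kerLift ψ).toAlgebra
  let _ : Algebra R (FractionRing N) := ψ.toAlgebra
  let _ : Algebra M N := φ.toRingHom.toAlgebra
  have t1 : IsScalarTower R (R ⧸ RingHom.ker ψ) (FractionRing N) :=
    IsScalarTower.of_algebraMap_eq fun _ => rfl
  have t2 : IsScalarTower M R (FractionRing N) :=
    IsScalarTower.of_algebraMap_eq fun z => (hψ z).symm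
  have t3 : IsScalarTower M N (FractionRing N) := inferInstance
  have t4 : IsScalarTower M R (R ⧸ RingHom.ker ψ) := inferInstance
  have hinjO : Function.Injective (algebraMap (R ⧸ RingHom.ker ψ) (FractionRing N)) :=
    RingHom.kerLift_injective ψ
  have hf : FaithfulSMul (R ⧸ RingHom.ker ψ) (FractionRing N) :=
    (faithfulSMul_iff_algebraMap_injective _ _).mpr hinjO
  have hMO : ∀ z : M, algebraMap (R ⧸ RingHom.ker ψ) (FractionRing N)
      (Ideal.Quotient.mk _ (algebraMap M R z)) = algebraMap N (FractionRing N) (φ z) := hψ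
  have hfr : IsFractionRing (R ⧸ RingHom.ker ψ) (FractionRing N) := by
    refine IsFractionRing.of_field _ _ fun z => ?_
    obtain ⟨x, y, hy, rfl⟩ := IsFractionRing.div_surjective (A := N) z
    obtain ⟨s, hs, t, hst⟩ := birat x
    obtain ⟨s', hs', t', hst'⟩ := birat y
    have hy0 : y ≠ 0 := nonZeroDivisors.ne_zero hy
    refine ⟨Ideal.Quotient.mk _ (algebraMap M R (t * s')),
      Ideal.Quotient.mk _ (algebraMap M R (s * t')), ?_⟩
    rw [hMO, hMO, map_mul φ, map_mul φ, ← hst, ← hst']
    have e1 : algebraMap N (FractionRing N) (φ s) ≠ 0 := (map_ne_zero_iff _ hinj).mpr hs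
    have e2 : algebraMap N (FractionRing N) (φ s') ≠ 0 := (map_ne_zero_iff _ hinj).mpr hs'
    have e3 : algebraMap N (FractionRing N) y ≠ 0 := (map_ne_zero_iff _ hinj).mpr hy0
    simp only [map_mul]
    field_simp
  rw [Groth.Agent.UnramA.Unibranch.isGeomUnibranch_iff (R ⧸ RingHom.ker ψ) (FractionRing N)]
  have hRO : Algebra.IsIntegral R (R ⧸ RingHom.ker ψ) :=
    Algebra.IsIntegral.of_surjective (IsScalarTower.toAlgHom R R (R ⧸ RingHom.ker ψ))
      Ideal.Quotient.mk_surjective
  -- the map from `N`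
  have hjW : ∀ n : N, algebraMap N (FractionRing N) n ∈
      integralClosure (R ⧸ RingHom.ker ψ) (FractionRing N) := by
    intro n
    have h1 : IsIntegral M n := hint n
    have h2 : IsIntegral M (algebraMap N (FractionRing N) n) :=
      h1.map (IsScalarTower.toAlgHom M N (FractionRing N))
    have h3 : IsIntegral R (algebraMap N (FractionRing N) n) := h2.tower_top
    exact h3.tower_top
  let j : N →+* integralClosure (R ⧸ RingHom.ker ψ) (FractionRing N) :=
    (algebraMap N (FractionRing N)).codRestrict _ hjW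
  let q : M →+* integralClosure (R ⧸ RingHom.ker ψ) (FractionRing N) :=
    (algebraMap (R ⧸ RingHom.ker ψ) _).comp ((Ideal.Quotient.mk _).comp (algebraMap M R))
  have hjq : j.comp φ.toRingHom = q := by
    ext z
    exact (hψ z).symm
  have hq𝔪 : ∀ P : Ideal (integralClosure (R ⧸ RingHom.ker ψ) (FractionRing N)), P.IsMaximal →
      P.comap q = 𝔪 := by
    intro P hP
    have h1 : P.comap (algebraMap (R ⧸ RingHom.ker ψ) _) = maximalIdeal (R ⧸ RingHom.ker ψ) :=
      IsLocalRing.eq_maximalIdeal (Ideal.isMaximal_comap_of_isIntegral_of_isMaximal P)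
    have h2 : (maximalIdeal (R ⧸ RingHom.ker ψ)).comap (Ideal.Quotient.mk (RingHom.ker ψ)) =
        maximalIdeal R :=
      IsLocalRing.eq_maximalIdeal (Ideal.comap_isMaximal_of_surjective _
        Ideal.Quotient.mk_surjective)
    rw [← Ideal.comap_comap, h1, ← Ideal.comap_comap, h2]
    exact IsLocalization.AtPrime.comap_maximalIdeal R 𝔪
  have hkey : ∀ w : integralClosure (R ⧸ RingHom.ker ψ) (FractionRing N), ∃ e : k,
      ∀ P : Ideal (integralClosure (R ⧸ RingHom.ker ψ) (FractionRing N)), P.IsMaximal →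
        w - q (algebraMap k M e) ∈ P := by
    intro w
    have hw : IsIntegral R (w : FractionRing N) := isIntegral_trans _ w.2
    obtain ⟨m, hm⟩ := IsIntegral.exists_multiple_integral_of_isLocalization (R := M)
      (Rₘ := R) 𝔪.primeCompl (w : FractionRing N) hw
    have hm' : IsIntegral N ((m : M) • (w : FractionRing N)) := IsIntegral.tower_top hm
    obtain ⟨n, hn⟩ := IsIntegrallyClosed.isIntegral_iff.mp hm'
    have hqm : q m * w = j n := by
      apply Subtype.ext
      change ψ (algebraMap M R m) * (w : FractionRing N) = algebraMap N (FractionRing N) n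
      rw [hn, Algebra.smul_def, hψ]
      rfl
    obtain ⟨c, hc⟩ := res n
    obtain ⟨d, hd⟩ := hres m
    have hd0 : d ≠ 0 := by
      rintro rfl
      rw [map_zero, sub_zero] at hd
      exact m.2 hd
    refine ⟨c / d, fun P hP => ?_⟩
    have h1 : j n - q (algebraMap k M c) ∈ P := by
      have := hc (P.comap j) inferInstance (by
        rw [← hq𝔪 P hP, ← hjq]
        rfl)
      rw [Ideal.mem_comap, map_sub, ← AlgHom.commutes φ] at this
      rw [← hjq]
      exact this
    have h2 : q m - q (algebraMap k M d) ∈ P := by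
      rw [← map_sub, ← Ideal.mem_comap, hq𝔪 P hP]
      exact hd
    have h3 : q (algebraMap k M d) * (w - q (algebraMap k M (c / d))) ∈ P := by
      have h4 : q (algebraMap k M d) * (w - q (algebraMap k M (c / d))) =
          (j n - q (algebraMap k M c)) - (q m - q (algebraMap k M d)) * w := by
        rw [← hqm, mul_sub, ← map_mul, ← map_mul, mul_div_cancel₀ _ hd0]
        ring
      rw [h4]
      exact P.sub_mem h1 (P.mul_mem_right _ h2)
    have h5 : IsUnit (q (algebraMap k M d)) := ((isUnit_iff_ne_zero.mpr hd0).map _).map _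
    exact (Ideal.unit_mul_mem_iff_mem P h5).mp h3
  have hWl : IsLocalRing (integralClosure (R ⧸ RingHom.ker ψ) (FractionRing N)) := by
    refine IsLocalRing.of_unique_max_ideal ?_
    obtain ⟨P, hP⟩ := Ideal.exists_maximal
      (integralClosure (R ⧸ RingHom.ker ψ) (FractionRing N))
    refine ⟨P, hP, fun Q hQ => ?_⟩
    have key : ∀ (P Q : Ideal (integralClosure (R ⧸ RingHom.ker ψ) (FractionRing N))),
        P.IsMaximal → Q.IsMaximal → P ≤ Q := by
      intro P Q hP hQ w hw
      obtain ⟨e, he⟩ := hkey w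
      have h1 := he P hP
      have h2 := he Q hQ
      have h3 : q (algebraMap k M e) ∈ P := by
        have := P.sub_mem hw h1
        rwa [sub_sub_cancel] at this
      have h4 : e = 0 := by
        by_contra h
        exact hP.ne_top (Ideal.eq_top_of_isUnit_mem _ h3
          (((isUnit_iff_ne_zero.mpr h).map (algebraMap k M)).map q))
      rw [h4, map_zero, map_zero, sub_zero] at h2
      exact h2
    exact le_antisymm (key Q P hQ hP) (key P Q hP hQ)
  refine ⟨hWl, fun w => ?_⟩
  obtain ⟨e, he⟩ := hkey w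
  refine ⟨0, Ideal.Quotient.mk _ (algebraMap M R (algebraMap k M e)), ?_⟩
  rw [pow_zero, pow_one]
  exact he _ (maximalIdeal.isMaximal _)

end Abstract

end K141.UnibModel
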